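import Mathlib

/-!
Simultaneous eigenspaces of a finite abelian group of operators over `ℂ`.
-/

set_option autoImplicit false

namespace Cfsg.Agent.Lib.MinDegree

variable {A : Type*} [AddCommGroup A] {U : Type*} [AddCommGroup U] [Module ℂ U]

/-- The `ψ`-eigenspace of a family of operators. -/
def eigSpace (z : A → Module.End ℂ U) (ψ : AddChar A ℂ) : Submodule ℂ U where
  carrier := {u | ∀ a, z a u = ψ a • u}
  add_mem' {u v} hu hv a := by rw [map_add, hu a, hv a, smul_add]
  zero_mem' a := by rw [map_zero, smul_zero]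
  smul_mem' c u hu a := by rw [map_smul, hu a, smul_comm]

theorem mem_eigSpace {z : A → Module.End ℂ U} {ψ : AddChar A ℂ} {u : U} :
    u ∈ eigSpace z ψ ↔ ∀ a, z a u = ψ a • u := Iff.rfl

theorem apply_mem_eigSpace {z : A → Module.End ℂ U} {ψ : AddChar A ℂ} {M : Module.End ℂ U}
    (hM : ∀ a, z a * M = M * z a) {u : U} (hu : u ∈ eigSpace z ψ) : M u ∈ eigSpace z ψ := fun a => by
  rw [← Module.End.mul_apply, hM, Module.End.mul_apply, hu a, map_smul]

variable [Fintype A]

/-- The projection to the `ψ`-eigenspace. -/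
noncomputable def eigProj (z : A → Module.End ℂ U) (ψ : AddChar A ℂ) : Module.End ℂ U :=
  (Fintype.card A : ℂ)⁻¹ • ∑ a, ψ (-a) • z a

variable {z : A → Module.End ℂ U} (h0 : z 0 = 1) (hadd : ∀ a b, z (a + b) = z a * z b)

theorem eigProj_of_mem (ψ : AddChar A ℂ) {u : U} (hu : u ∈ eigSpace z ψ) : eigProj z ψ u = u := by
  rw [eigProj, LinearMap.smul_apply, LinearMap.sum_apply]
  simp only [LinearMap.smul_apply]
  have key : ∀ a, ψ (-a) • z a u = u := fun a => by
    rw [hu a, smul_smul, ← AddChar.map_add_eq_mul, neg_add_cancel, AddChar.map_zero_eq_one, one_smul]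
  rw [Finset.sum_congr rfl fun a (_ : a ∈ Finset.univ) => key a]
  rw [Finset.sum_const, Finset.card_univ, ← Nat.cast_smul_eq_nsmul ℂ, smul_smul,
    inv_mul_cancel₀ (Nat.cast_ne_zero.2 Fintype.card_ne_zero), one_smul]

include hadd in
theorem eigProj_mem (ψ : AddChar A ℂ) (u : U) : eigProj z ψ u ∈ eigSpace z ψ := fun c => by
  rw [← Module.End.mul_apply, ← LinearMap.smul_apply, eigProj, mul_smul_comm, smul_comm (ψ c), Finset.mul_sum,
    Finset.smul_sum]
  refine LinearMap.congr_fun ?_ u
  rw [← Finset.smul_sum]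
  congr 1
  rw [Finset.smul_sum]
  refine Fintype.sum_equiv (Equiv.addLeft c) _ _ fun a => ?_
  rw [mul_smul_comm, ← hadd, smul_smul, ← AddChar.map_add_eq_mul]
  simp only [Equiv.coe_addLeft]
  congr 2
  abel

include h0 in
theorem sum_eigProj : ∑ ψ : AddChar A ℂ, eigProj z ψ = 1 := by
  classical
  simp only [eigProj]
  rw [← Finset.smul_sum, Finset.sum_comm,
    Finset.sum_congr rfl fun a _ => show ∑ ψ : AddChar A ℂ, ψ (-a) • z a = (if a = 0 then (Fintype.card A : ℂ) else 0) • z a by
      rw [← Finset.sum_smul, AddChar.sum_apply_eq_ite]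
      simp only [neg_eq_zero]]
  simp [h0, smul_smul]

variable [FiniteDimensional ℂ U]

include h0 hadd

/-- The trace of an operator commuting with the family is the sum over the eigenspaces. -/
theorem trace_eq_sum {M : Module.End ℂ U} (hM : ∀ a, z a * M = M * z a) :
    LinearMap.trace ℂ U M = ∑ ψ : AddChar A ℂ,
      LinearMap.trace ℂ (eigSpace z ψ) (M.restrict fun _ hu => apply_mem_eigSpace hM hu) := by
  conv_lhs => rw [← one_mul M, ← sum_eigProj h0, Finset.sum_mul, map_sum]
  refine Finset.sum_congr rfl fun ψ _ => ?_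
  rw [← LinearMap.trace_restrict_eq_of_forall_mem (eigSpace z ψ) (eigProj z ψ * M)
    (fun u => eigProj_mem hadd ψ _)]
  congr 1
  exact LinearMap.ext fun u => Subtype.ext (eigProj_of_mem ψ (apply_mem_eigSpace hM u.2))

theorem finrank_eq (ψ : AddChar A ℂ) :
    (Module.finrank ℂ (eigSpace z ψ) : ℂ) =
      (Fintype.card A : ℂ)⁻¹ * ∑ a, ψ (-a) * LinearMap.trace ℂ U (z a) := by
  have h := LinearMap.trace_restrict_eq_of_forall_mem (eigSpace z ψ) (eigProj z ψ)
    (fun u => eigProj_mem hadd ψ u) (fun u _ => eigProj_mem hadd ψ u)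
  conv_rhs at h => simp only [eigProj]
  rw [map_smul, map_sum, smul_eq_mul] at h
  simp only [map_smul, smul_eq_mul] at h
  have h1 : (eigProj z ψ).restrict (fun u (_ : u ∈ eigSpace z ψ) => eigProj_mem hadd ψ u) = 1 :=
    LinearMap.ext fun u => Subtype.ext (eigProj_of_mem ψ u.2)
  rw [h1, LinearMap.trace_one] at h
  exact h

theorem sum_finrank : ∑ ψ : AddChar A ℂ, (Module.finrank ℂ (eigSpace z ψ) : ℂ) = Module.finrank ℂ U := by
  have h := trace_eq_sum h0 hadd (M := 1) fun a => by rw [mul_one, one_mul]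
  rw [LinearMap.trace_one] at h
  rw [h]
  refine Finset.sum_congr rfl fun ψ _ => ?_
  rw [← LinearMap.trace_one (R := ℂ) (M := eigSpace z ψ)]
  rfl

/-- If only the trivial character occurs, the family is trivial. -/
theorem eq_one_of_forall_eq_bot (h : ∀ ψ : AddChar A ℂ, ψ ≠ 0 → eigSpace z ψ = ⊥) (a : A) : z a = 1 := by
  classical
  have h1 : eigProj z (0 : AddChar A ℂ) = 1 := by
    rw [← sum_eigProj h0, Finset.sum_eq_single (0 : AddChar A ℂ)]
    · exact fun ψ _ hψ => LinearMap.ext fun u => by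
        have h' := eigProj_mem hadd ψ u
        rw [h ψ hψ, Submodule.mem_bot] at h'
        exact h'
    · exact fun h' => absurd (Finset.mem_univ _) h'
  refine LinearMap.ext fun u => ?_
  have h' := eigProj_mem hadd (0 : AddChar A ℂ) u a
  rw [h1, Module.End.one_apply, AddChar.zero_apply, one_smul] at h'
  rw [h']
  rfl

end Cfsg.Agent.Lib.MinDegree
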