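import Mathlib

/-!
Projective operator families with non-degenerate commutator pairing: dimensions and traces of intertwiners.
-/

set_option autoImplicit false

namespace Cfsg.Agent.Lib.MinDegree

open Module

variable {V : Type*} [AddCommGroup V] {W : Type*} [AddCommGroup W] [Module ℂ W]

/-- A projective family with non-degenerate commutator pairing. -/
structure HeisFamily (R : V → Module.End ℂ W) : Prop where
  map_zero : R 0 = 1
  mul : ∀ a b, ∃ μ : ℂ, μ ≠ 0 ∧ R a * R b = μ • R (a + b)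
  nondeg : ∀ a, a ≠ 0 → ∃ b, ∃ ν : ℂ, ν ≠ 1 ∧ R b * R a = ν • (R a * R b)

variable {R : V → Module.End ℂ W} (hR : HeisFamily R) [FiniteDimensional ℂ W]

include hR

theorem HeisFamily.exists_inv (a : V) : ∃ S : Module.End ℂ W, R a * S = 1 ∧ S * R a = 1 := by
  obtain ⟨μ, hμ, h⟩ := hR.mul a (-a)
  rw [add_neg_cancel, hR.map_zero] at h
  have h1 : R a * (μ⁻¹ • R (-a)) = 1 := by rw [mul_smul_comm, h, smul_smul, inv_mul_cancel₀ hμ, one_smul]
  exact ⟨_, h1, mul_eq_one_comm.1 h1⟩

theorem HeisFamily.trace_eq_zero {a : V} (ha : a ≠ 0) : LinearMap.trace ℂ W (R a) = 0 := by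
  obtain ⟨b, ν, hν, h⟩ := hR.nondeg a ha
  obtain ⟨S, h1, h2⟩ := hR.exists_inv b
  have e : R b * R a * S = ν • R a := by rw [h, smul_mul_assoc, mul_assoc, h1, mul_one]
  have e' := congrArg (LinearMap.trace ℂ W) e
  rw [LinearMap.trace_mul_comm, ← mul_assoc, h2, one_mul, map_smul, smul_eq_mul] at e'
  exact (mul_eq_zero.1 (show (ν - 1) * LinearMap.trace ℂ W (R a) = 0 by rw [sub_mul, ← e', one_mul, sub_self])).resolve_left
    (sub_ne_zero.2 hν)

theorem HeisFamily.restrict {S : Submodule ℂ W} (hS : ∀ a, ∀ u ∈ S, R a u ∈ S) :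
    HeisFamily (fun a => (R a).restrict (hS a)) := by
  refine ⟨?_, fun a b => ?_, fun a ha => ?_⟩
  · refine LinearMap.ext fun u => Subtype.ext ?_
    show R 0 u.1 = u.1
    rw [hR.map_zero]
    rfl
  · obtain ⟨μ, hμ, h⟩ := hR.mul a b
    exact ⟨μ, hμ, LinearMap.ext fun u => Subtype.ext (LinearMap.congr_fun h u.1)⟩
  · obtain ⟨b, ν, hν, h⟩ := hR.nondeg a ha
    exact ⟨b, ν, hν, LinearMap.ext fun u => Subtype.ext (LinearMap.congr_fun h u.1)⟩

variable [Fintype V]

theorem HeisFamily.card_le [Nontrivial W] : Fintype.card V ≤ finrank ℂ W * finrank ℂ W := by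
  classical
  rw [← finrank_linearMap ℂ ℂ W W]
  refine LinearIndependent.fintype_card_le_finrank (b := R) (Fintype.linearIndependent_iff.2 fun c hc b => ?_)
  obtain ⟨S, h1, -⟩ := hR.exists_inv b
  have h := congrArg (fun M => LinearMap.trace ℂ W (M * S)) hc
  simp only [Finset.sum_mul, map_sum, zero_mul, map_zero, smul_mul_assoc, map_smul, smul_eq_mul] at h
  rw [Finset.sum_eq_single b, h1, LinearMap.trace_one, LinearMap.map_zero] at h
  · exact (mul_eq_zero.1 h).resolve_right (Nat.cast_ne_zero.2 finrank_pos.ne')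
  · intro a _ hab
    obtain ⟨μ, hμ, h'⟩ := hR.mul (a - b) b
    rw [sub_add_cancel] at h'
    have e : R a * S = μ⁻¹ • R (a - b) := by
      rw [show R a = μ⁻¹ • (R (a - b) * R b) by rw [h', smul_smul, inv_mul_cancel₀ hμ, one_smul],
        smul_mul_assoc, mul_assoc, h1, mul_one]
    rw [e, map_smul, hR.trace_eq_zero (sub_ne_zero.2 hab), smul_zero, mul_zero]
  · exact fun h' => absurd (Finset.mem_univ b) h'

/-- Below twice the minimal dimension the commutant is scalar. -/
theorem HeisFamily.eq_smul_one [Nontrivial W] (hsmall : finrank ℂ W * finrank ℂ W < 4 * Fintype.card V)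
    {X : Module.End ℂ W} (hX : ∀ a, R a * X = X * R a) : ∃ s : ℂ, X = s • 1 := by
  obtain ⟨s, hs⟩ := Module.End.exists_eigenvalue X
  refine ⟨s, sub_eq_zero.1 ?_⟩
  by_contra hne
  set N := X - s • 1
  have hcomm : ∀ a u, R a (N u) = N (R a u) := fun a u => by
    have : R a * N = N * R a := by rw [mul_sub, sub_mul, hX, mul_smul_comm, smul_mul_assoc, mul_one, one_mul]
    exact LinearMap.congr_fun this u
  obtain ⟨v, hv⟩ := hs.exists_hasEigenvector
  have hvk : v ∈ LinearMap.ker N := by
    rw [LinearMap.mem_ker, LinearMap.sub_apply, LinearMap.smul_apply, Module.End.one_apply, hv.apply_eq_smul,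
      sub_self]
  have hker : ∀ a, ∀ u ∈ LinearMap.ker N, R a u ∈ LinearMap.ker N := fun a u hu => by
    rw [LinearMap.mem_ker] at hu ⊢
    rw [← hcomm, hu, LinearMap.map_zero]
  have hran : ∀ a, ∀ u ∈ LinearMap.range N, R a u ∈ LinearMap.range N := by
    rintro a _ ⟨u, rfl⟩
    exact ⟨R a u, (hcomm a u).symm⟩
  haveI : Nontrivial (LinearMap.ker N) := ⟨⟨v, hvk⟩, 0, fun h => hv.2 (congrArg Subtype.val h)⟩
  haveI : Nontrivial (LinearMap.range N) := Submodule.nontrivial_iff_ne_bot.2 fun h =>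
    hne (LinearMap.range_eq_bot.1 h)
  have h1 := (hR.restrict hker).card_le
  have h2 := (hR.restrict hran).card_le
  have h3 := LinearMap.finrank_range_add_finrank_ker N
  rcases le_total (finrank ℂ (LinearMap.range N)) (finrank ℂ (LinearMap.ker N)) with hle | hle
  · have := Nat.mul_le_mul hle hle
    have := Nat.mul_le_mul_left (finrank ℂ (LinearMap.range N)) hle
    nlinarith
  · have := Nat.mul_le_mul hle hle
    have := Nat.mul_le_mul_left (finrank ℂ (LinearMap.ker N)) hle
    nlinarith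

/-- The trace of an intertwiner is bounded by the fixed points of the induced map. -/
theorem HeisFamily.norm_trace_mul_trace_le [Nontrivial W] (hsmall : finrank ℂ W * finrank ℂ W < 4 * Fintype.card V)
    {A A' : Module.End ℂ W} (hA : A * A' = 1) (t : V → V) (c : V → ℂ)
    (hAR : ∀ a, A * R a = c a • (R (t a) * A)) (hc : ∀ a, t a = a → ‖c a‖ = 1) :
    ‖LinearMap.trace ℂ W A * LinearMap.trace ℂ W A'‖ * Fintype.card V ≤
      Nat.card {a : V // t a = a} * ((finrank ℂ W : ℝ) * finrank ℂ W) := by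
  classical
  choose T hRT hTR using hR.exists_inv
  set D : ℂ := ((finrank ℂ W : ℕ) : ℂ)
  have hD : D ≠ 0 := Nat.cast_ne_zero.2 finrank_pos.ne'
  set X := ∑ a, R a * A * T a
  have hX : ∀ b, R b * X = X * R b := fun b => by
    rw [Finset.mul_sum, Finset.sum_mul]
    refine Fintype.sum_equiv (Equiv.addLeft b) _ _ fun a => ?_
    obtain ⟨μ, hμ, h⟩ := hR.mul b a
    have e : T (b + a) * R b = μ • T a := by
      calc T (b + a) * R b = T (b + a) * (R b * R a) * T a := by rw [mul_assoc, mul_assoc, hRT, mul_one]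
        _ = _ := by rw [h, mul_smul_comm, hTR, smul_mul_assoc, one_mul]
    rw [Equiv.coe_addLeft, mul_assoc _ (T (b + a)) (R b), e, ← mul_assoc, ← mul_assoc, h, mul_smul_comm,
      smul_mul_assoc, smul_mul_assoc]
  obtain ⟨s, hs⟩ := hR.eq_smul_one hsmall hX
  have htr : s * D = Fintype.card V * LinearMap.trace ℂ W A := by
    have h := congrArg (LinearMap.trace ℂ W) hs
    rw [map_smul, LinearMap.trace_one, smul_eq_mul, map_sum,
      Finset.sum_congr rfl fun a _ => show LinearMap.trace ℂ W (R a * A * T a) = LinearMap.trace ℂ W A by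
        rw [LinearMap.trace_mul_comm, ← mul_assoc, hTR, one_mul], Finset.sum_const, Finset.card_univ,
      nsmul_eq_mul] at h
    exact h.symm
  have hc0 : ∀ a, c a ≠ 0 := fun a h => by
    have h' := hAR a
    rw [h, zero_smul] at h'
    have h'' : (1 : Module.End ℂ W) = 0 := by
      rw [← mul_eq_one_comm.1 hA, show A = A * R a * T a by rw [mul_assoc, hRT, mul_one], h', zero_mul, mul_zero]
    exact one_ne_zero h''
  have hterm : ∀ a, ‖LinearMap.trace ℂ W (R a * A * T a * A')‖ ≤ if t a = a then ‖D‖ else 0 := fun a => by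
    have e : A * T a = (c a)⁻¹ • (T (t a) * A) := by
      calc A * T a = (c a)⁻¹ • (c a • (T (t a) * (R (t a) * A) * T a)) := by
            rw [← mul_assoc (T (t a)), hTR, one_mul, smul_smul, inv_mul_cancel₀ (hc0 a), one_smul]
        _ = (c a)⁻¹ • (T (t a) * (A * R a) * T a) := by rw [hAR, mul_smul_comm, smul_mul_assoc]
        _ = _ := by rw [mul_assoc, mul_assoc, hRT, mul_one]
    rw [mul_assoc (R a), e, mul_smul_comm, smul_mul_assoc, ← mul_assoc, mul_assoc _ A, hA, mul_one, map_smul,
      smul_eq_mul, norm_mul, norm_inv]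
    split_ifs with ht
    · rw [hc a ht, inv_one, one_mul, ht, hRT, LinearMap.trace_one]
    · obtain ⟨μ, hμ, h⟩ := hR.mul (a - t a) (t a)
      rw [sub_add_cancel] at h
      have e' : R a * T (t a) = μ⁻¹ • R (a - t a) := by
        rw [show R a = μ⁻¹ • (R (a - t a) * R (t a)) by rw [h, smul_smul, inv_mul_cancel₀ hμ, one_smul],
          smul_mul_assoc, mul_assoc, hRT, mul_one]
      rw [e', map_smul, hR.trace_eq_zero (sub_ne_zero.2 (Ne.symm ht))]
      simp
  have hkey : (Fintype.card V : ℂ) * (LinearMap.trace ℂ W A * LinearMap.trace ℂ W A') =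
      D * ∑ a, LinearMap.trace ℂ W (R a * A * T a * A') := by
    rw [← map_sum, ← Finset.sum_mul]
    show _ = D * LinearMap.trace ℂ W (X * A')
    rw [hs, smul_mul_assoc, one_mul, map_smul, smul_eq_mul, ← mul_assoc D, mul_comm D s, htr, mul_assoc]
  have hn := congrArg norm hkey
  rw [norm_mul, Complex.norm_natCast, norm_mul D] at hn
  have hD' : ‖D‖ = (finrank ℂ W : ℝ) := Complex.norm_natCast _
  rw [mul_comm, hn]
  calc ‖D‖ * ‖∑ a, LinearMap.trace ℂ W (R a * A * T a * A')‖
      ≤ ‖D‖ * ∑ a, (if t a = a then ‖D‖ else 0) :=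
        mul_le_mul_of_nonneg_left ((norm_sum_le _ _).trans (Finset.sum_le_sum fun a _ => hterm a)) (norm_nonneg _)
    _ = _ := by
        rw [← Finset.sum_filter, Finset.sum_const, nsmul_eq_mul, Nat.card_eq_fintype_card, Fintype.card_subtype, hD']
        ring

end Cfsg.Agent.Lib.MinDegree
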