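import Mathlib

/-!
Orbits of quadratic functions under the general linear group: lower bounds by double counting.
-/

set_option autoImplicit false

namespace Cfsg.Agent.Lib.MinDegree

open Classical Module Finset

variable {F : Type*} [Field F] [Fintype F] {V : Type*} [AddCommGroup V] [Module F V] [Fintype V]

theorem exists_equiv_map {ι : Type*} [Fintype ι] {f g : ι → V} (hf : LinearIndependent F f)
    (hg : LinearIndependent F g) : ∃ h : V ≃ₗ[F] V, ∀ i, h (f i) = g i := by
  classical
  obtain ⟨W, hW⟩ := (Submodule.span F (Set.range f)).exists_isCompl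
  obtain ⟨W', hW'⟩ := (Submodule.span F (Set.range g)).exists_isCompl
  let e1 := (Module.Basis.span hf).equiv (Module.Basis.span hg) (Equiv.refl ι)
  have h1 := Submodule.finrank_add_eq_of_isCompl hW
  have h2 := Submodule.finrank_add_eq_of_isCompl hW'
  have h3 := e1.finrank_eq
  let e2 : W ≃ₗ[F] W' := LinearEquiv.ofFinrankEq W W' (by omega)
  refine ⟨(Submodule.prodEquivOfIsCompl _ _ hW).symm ≪≫ₗ e1.prodCongr e2 ≪≫ₗ Submodule.prodEquivOfIsCompl _ _ hW', fun i => ?_⟩
  have h5 : (Submodule.prodEquivOfIsCompl _ _ hW).symm (f i) = (Module.Basis.span hf i, 0) := by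
    rw [LinearEquiv.symm_apply_eq]
    simp [Submodule.coe_prodEquivOfIsCompl', Module.Basis.span_apply]
  simp only [LinearEquiv.trans_apply, h5, LinearEquiv.prodCongr_apply, Submodule.coe_prodEquivOfIsCompl', e1,
    Module.Basis.equiv_apply, Equiv.refl_apply, map_zero]
  simp [Module.Basis.span_apply]

/-- A quadratic function with its polar form. -/
structure IsQuad (Q : V → F) (B : V →ₗ[F] V →ₗ[F] F) : Prop where
  smul : ∀ (a : F) v, Q (a • v) = a ^ 2 * Q v
  add : ∀ u v, Q (u + v) = Q u + Q v + B u v

variable (F) in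
/-- The orbit of a function under the general linear group. -/
noncomputable def quadOrbit (Q : V → F) : Finset (V → F) :=
  haveI : Finite (V ≃ₗ[F] V) := Finite.of_injective _ DFunLike.coe_injective
  letI := Fintype.ofFinite (V ≃ₗ[F] V)
  Finset.univ.image fun g : V ≃ₗ[F] V => Q ∘ g

theorem mem_quadOrbit {Q Q' : V → F} : Q' ∈ quadOrbit F Q ↔ ∃ g : V ≃ₗ[F] V, Q ∘ g = Q' := by
  simp [quadOrbit]

variable {Q : V → F} {B : V →ₗ[F] V →ₗ[F] F} (hQ : IsQuad Q B)

include hQ

omit [Fintype F] [Fintype V] in
theorem IsQuad.map_zero : Q 0 = 0 := by simpa using hQ.smul 0 0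

omit [Fintype F] [Fintype V] in
theorem IsQuad.comm (u v : V) : B u v = B v u := by
  have h := hQ.add u v
  rw [add_comm u v, hQ.add] at h
  linear_combination -h

omit [Fintype F] [Fintype V] in
theorem IsQuad.polar_self (v : V) : B v v = 2 * Q v := by
  have h := hQ.add v v
  rw [← two_smul F v, hQ.smul] at h
  linear_combination -h

omit [Fintype V] hQ in
theorem card_annihilator (S : Submodule F V) [Finite V] :
    Nat.card S.dualAnnihilator * Nat.card S = Nat.card V := by
  haveI : Fintype V := Fintype.ofFinite V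
  rw [Module.natCard_eq_pow_finrank (K := F) (V := S.dualAnnihilator), Module.natCard_eq_pow_finrank (K := F) (V := S),
    Module.natCard_eq_pow_finrank (K := F) (V := V), ← pow_add]
  congr 1
  rw [add_comm]
  exact Subspace.finrank_add_finrank_dualAnnihilator_eq S

/-- The shear fixing every vector killed by the functionals. -/
def shear2 (u v : V) (l₁ l₂ : Dual F V) (h11 : l₁ u = 0) (h12 : l₁ v = 0) (h21 : l₂ u = 0) (h22 : l₂ v = 0) :
    V ≃ₗ[F] V where
  toFun z := z + l₁ z • u + l₂ z • v
  invFun z := z - l₁ z • u - l₂ z • v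
  left_inv z := by simp [h11, h12, h21, h22]; abel
  right_inv z := by simp [h11, h12, h21, h22]; abel
  map_add' x y := by simp [add_smul]; abel
  map_smul' a x := by simp [smul_add, smul_smul]

/-- In odd characteristic every non-zero orbit has at least `(q^n - 1) / 2` elements. -/
theorem two_mul_card_quadOrbit (h2 : (2 : F) ≠ 0) {v : V} (hv : Q v ≠ 0) :
    Fintype.card V - 1 ≤ 2 * (quadOrbit F Q).card := by
  classical
  set q := Fintype.card F
  set a := Q v with ha
  have hv0 : v ≠ 0 := fun h => hv (by rw [ha, h, hQ.map_zero])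
  set cond : (V → F) → V → Prop := fun Q' p => Q' p = a
  set T := (univ : Finset V).filter fun p => Q p = a with hT
  -- at most `2 q^(n-1)` vectors take the value `a`
  have hN : T.card * q ≤ 2 * Fintype.card V := by
    have h := Finset.card_le_mul_card_image_of_maps_to (s := T ×ˢ (univ : Finset F)) (t := (univ : Finset V))
      (f := fun x => x.1 + x.2 • v) (fun _ _ => mem_univ _) 2 (fun y _ => by
        by_contra hc
        obtain ⟨x1, x2, x3, m1, m2, m3, n12, n13, n23⟩ := Finset.two_lt_card_iff.1 (not_le.1 hc)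
        simp only [mem_filter, mem_product, hT, mem_univ, true_and, and_true] at m1 m2 m3
        have key : ∀ x : V × F, Q x.1 = a → x.1 + x.2 • v = y →
            Q y + x.2 ^ 2 * a - x.2 * B y v = a := fun x h1 h2' => by
          have e : x.1 = y + (-x.2) • v := by rw [← h2', neg_smul, add_neg_cancel_right]
          rw [e, hQ.add, hQ.smul, map_smul, smul_eq_mul] at h1
          linear_combination h1
        have hext : ∀ x x' : V × F, x.1 + x.2 • v = y → x'.1 + x'.2 • v = y → x.2 = x'.2 → x = x' :=
          fun x x' e e' h => Prod.ext (add_right_cancel (b := x.2 • v) (by rw [e, h, e'])) h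
        have k1 := key _ m1.1 m1.2
        have k2 := key _ m2.1 m2.2
        have k3 := key _ m3.1 m3.2
        have d12 : x1.2 - x2.2 ≠ 0 := sub_ne_zero.2 fun h => n12 (hext _ _ m1.2 m2.2 h)
        have d13 : x1.2 - x3.2 ≠ 0 := sub_ne_zero.2 fun h => n13 (hext _ _ m1.2 m3.2 h)
        have d23 : x2.2 - x3.2 ≠ 0 := sub_ne_zero.2 fun h => n23 (hext _ _ m2.2 m3.2 h)
        have e12 : (x1.2 + x2.2) * a - B y v = 0 :=
          (mul_eq_zero.1 (show (x1.2 - x2.2) * ((x1.2 + x2.2) * a - B y v) = 0 by linear_combination k1 - k2)).resolve_left d12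
        have e13 : (x1.2 + x3.2) * a - B y v = 0 :=
          (mul_eq_zero.1 (show (x1.2 - x3.2) * ((x1.2 + x3.2) * a - B y v) = 0 by linear_combination k1 - k3)).resolve_left d13
        exact mul_ne_zero d23 hv (by linear_combination e12 - e13))
    rwa [card_product, card_univ, card_univ] at h
  -- every orbit element takes the value equally often
  have habove : ∀ Q' ∈ quadOrbit F Q, (Finset.bipartiteAbove cond univ Q').card = T.card := fun Q' hQ' => by
    obtain ⟨g, rfl⟩ := mem_quadOrbit.1 hQ'
    refine Finset.card_equiv g.toEquiv fun p => ?_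
    simp [Finset.bipartiteAbove, cond, hT]
  have hl : LinearIndependent F (fun _ : Fin 1 => v) := linearIndependent_unique_iff.2 hv0
  set L := (Submodule.span F {v}).dualAnnihilator
  have hL : Nat.card L * q = Fintype.card V := by
    rw [← Nat.card_eq_fintype_card, ← card_annihilator (Submodule.span F {v})]
    congr 1
    rw [Module.natCard_eq_pow_finrank (K := F) (V := Submodule.span F {v}), finrank_span_singleton hv0, pow_one,
      Nat.card_eq_fintype_card]
  have hbelow : ∀ p ∈ (univ : Finset V).erase 0, Nat.card L ≤ (Finset.bipartiteBelow cond (quadOrbit F Q) p).card := fun p hp => by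
    obtain ⟨h, hh⟩ := exists_equiv_map hl (g := fun _ : Fin 1 => p) (linearIndependent_unique_iff.2 (Finset.ne_of_mem_erase hp))
    have hh' : h v = p := hh 0
    have hLv : ∀ l : L, l.1 v = 0 := fun l => (Submodule.mem_dualAnnihilator _).1 l.2 v (Submodule.mem_span_singleton_self v)
    haveI : Finite L := Finite.of_injective (fun l : L => (l.1 : V → F)) fun l l' e => Subtype.ext (DFunLike.coe_injective e)
    haveI := Fintype.ofFinite L
    rw [Nat.card_eq_fintype_card, ← card_univ]
    refine Finset.card_le_card_of_injOn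
      (fun l => Q ∘ (h.symm.trans (shear2 v v l.1 0 (hLv l) (hLv l) rfl rfl))) (fun l _ => ?_) ?_
    · simp only [Finset.mem_coe, Finset.bipartiteBelow, mem_filter, mem_quadOrbit, cond]
      refine ⟨⟨_, rfl⟩, ?_⟩
      simp [← hh', shear2, hLv l, ha]
    · intro l _ l' _ e
      refine Subtype.ext (LinearMap.ext fun z => ?_)
      have key : ∀ m : L, Q (shear2 v v m.1 0 (hLv m) (hLv m) rfl rfl (z + v)) -
          Q (shear2 v v m.1 0 (hLv m) (hLv m) rfl rfl z) = a + B z v + m.1 z * (2 * a) := fun m => by
        have e1 : shear2 v v m.1 0 (hLv m) (hLv m) rfl rfl (z + v) = (z + m.1 z • v) + v := by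
          simp [shear2, hLv m]; abel
        have e2 : shear2 v v m.1 0 (hLv m) (hLv m) rfl rfl z = z + m.1 z • v := by simp [shear2]
        rw [e1, e2, hQ.add _ v, map_add, LinearMap.add_apply, map_smul, LinearMap.smul_apply, hQ.polar_self, smul_eq_mul]
        ring
      have q1 := congrFun e (h (z + v))
      have q2 := congrFun e (h z)
      simp only [Function.comp_apply, LinearEquiv.trans_apply, h.symm_apply_apply] at q1 q2
      have := key l
      rw [q1, q2, key l'] at this
      exact (mul_right_cancel₀ (mul_ne_zero h2 hv) (by linear_combination this)).symm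
  have hsum := Finset.sum_card_bipartiteAbove_eq_sum_card_bipartiteBelow cond (s := quadOrbit F Q) (t := univ)
  rw [Finset.sum_congr rfl habove, Finset.sum_const, smul_eq_mul] at hsum
  have hge : (Fintype.card V - 1) * Nat.card L ≤ (quadOrbit F Q).card * T.card := by
    rw [hsum, ← Finset.card_univ, ← Finset.card_erase_of_mem (mem_univ (0 : V)), ← smul_eq_mul]
    exact le_trans (Finset.card_nsmul_le_sum _ _ _ hbelow) (Finset.sum_le_sum_of_subset (Finset.erase_subset _ _))
  have hVpos : 0 < Fintype.card V := Fintype.card_pos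
  refine Nat.le_of_mul_le_mul_right ?_ hVpos
  calc (Fintype.card V - 1) * Fintype.card V = (Fintype.card V - 1) * Nat.card L * q := by rw [mul_assoc, hL]
    _ ≤ (quadOrbit F Q).card * T.card * q := Nat.mul_le_mul_right _ hge
    _ ≤ (quadOrbit F Q).card * (2 * Fintype.card V) := by rw [mul_assoc]; exact Nat.mul_le_mul_left _ hN
    _ = 2 * (quadOrbit F Q).card * Fintype.card V := by ring

omit hQ in
theorem card_binary_anisotropic {a c : F} (h : ∀ x y : F, a * x ^ 2 + x * y + c * y ^ 2 = 0 → x = 0 ∧ y = 0)
    (h2 : (2 : F) = 0) (d : F) :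
    ((univ : Finset (F × F)).filter fun p => a * p.1 ^ 2 + p.1 * p.2 + c * p.2 ^ 2 = d).card ≤ Fintype.card F + 1 := by
  classical
  by_cases hd : d = 0
  · refine le_trans (Finset.card_le_one.2 fun p hp r hr => ?_) (by omega)
    simp only [mem_filter, mem_univ, true_and, hd] at hp hr
    exact Prod.ext ((h _ _ hp).1.trans (h _ _ hr).1.symm) ((h _ _ hp).2.trans (h _ _ hr).2.symm)
  have sq_inj : ∀ x y : F, x ^ 2 = y ^ 2 → x = y := fun x y e => by
    have : (x - y) ^ 2 = 0 := by linear_combination e + (y ^ 2 - x * y) * h2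
    exact sub_eq_zero.1 (sq_eq_zero_iff.1 this)
  rw [← Fintype.card_option, ← Finset.card_univ]
  refine Finset.card_le_card_of_injOn (fun p => if p.1 = 0 then none else some (p.2 / p.1)) (fun _ _ => mem_univ _) ?_
  intro p hp r hr e
  simp only [Finset.mem_coe, mem_filter, mem_univ, true_and] at hp hr
  by_cases hp0 : p.1 = 0 <;> by_cases hr0 : r.1 = 0
  · refine Prod.ext (hp0.trans hr0.symm) (sq_inj _ _ ?_)
    have hc : c ≠ 0 := fun hc => hd (by rw [← hp, hp0, hc]; ring)
    rw [hp0] at hp; rw [hr0] at hr
    exact mul_left_cancel₀ hc (by linear_combination hp - hr)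
  · simp [hp0, hr0] at e
  · simp [hp0, hr0] at e
  · simp only [hp0, hr0, if_false, Option.some.injEq] at e
    have eq : p.2 = p.2 / p.1 * p.1 := (div_mul_cancel₀ _ hp0).symm
    have eq' : r.2 = p.2 / p.1 * r.1 := by rw [e, div_mul_cancel₀ _ hr0]
    set t := p.2 / p.1
    rw [eq] at hp; rw [eq'] at hr
    have ht : a + t + c * t ^ 2 ≠ 0 := fun h0 => hd (by linear_combination -hp + p.1 ^ 2 * h0)
    have := sq_inj _ _ (mul_left_cancel₀ ht (show (a + t + c * t ^ 2) * p.1 ^ 2 = (a + t + c * t ^ 2) * r.1 ^ 2 by
      linear_combination hp - hr))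
    exact Prod.ext this (by rw [eq, eq', this])

omit hQ in
theorem card_binary_hyperbolic (d : F) :
    ((univ : Finset (F × F)).filter fun p => (0 : F) * p.1 ^ 2 + p.1 * p.2 + 0 * p.2 ^ 2 = d).card ≤ 2 * Fintype.card F := by
  classical
  rw [two_mul, ← Fintype.card_sum, ← Finset.card_univ]
  refine Finset.card_le_card_of_injOn (fun p => if p.1 = 0 then Sum.inr p.2 else Sum.inl p.1) (fun _ _ => mem_univ _) ?_
  intro p hp r hr e
  simp only [Finset.mem_coe, mem_filter, mem_univ, true_and, zero_mul, zero_add, add_zero] at hp hr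
  by_cases hp0 : p.1 = 0 <;> by_cases hr0 : r.1 = 0
  · simp only [hp0, hr0, if_true, Sum.inr.injEq] at e
    exact Prod.ext (hp0.trans hr0.symm) e
  · simp [hp0, hr0] at e
  · simp [hp0, hr0] at e
  · simp only [hp0, hr0, if_false, Sum.inl.injEq] at e
    exact Prod.ext e (mul_left_cancel₀ hp0 (by rw [hp, e, hr]))

/-- In characteristic two an orbit with non-zero polar form is large. -/
theorem card_quadOrbit_even (h2 : (2 : F) = 0) (hB : B ≠ 0) :
    (Fintype.card V - 1) * (Fintype.card V - Fintype.card F) ≤ 2 * (Fintype.card F + 1) * (quadOrbit F Q).card := by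
  classical
  set q := Fintype.card F
  have halt : ∀ z, B z z = 0 := fun z => by rw [hQ.polar_self, h2, zero_mul]
  -- a suitable pair
  obtain ⟨u, v, huv, kv, C0, hk, hC, hfib, hbin⟩ : ∃ (u v : V), B u v = 1 ∧ ∃ kv C0 : ℕ, kv * C0 ≤ 2 * (q + 1) ∧
      (kv = 1 ∧ Q u = 0 ∨ kv = 2) ∧ (kv = 1 → Q u = 0) ∧ ∀ d : F,
      ((univ : Finset (F × F)).filter fun p => Q u * p.1 ^ 2 + p.1 * p.2 + Q v * p.2 ^ 2 = d).card ≤ C0 := by
    by_cases hs : ∃ u w, Q u = 0 ∧ B u w ≠ 0
    · obtain ⟨u, w, hu, hw⟩ := hs
      obtain ⟨v0, hv0⟩ : ∃ v0, B u v0 = 1 :=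
        ⟨(B u w)⁻¹ • w, by rw [map_smul, smul_eq_mul, inv_mul_cancel₀ hw]⟩
      refine ⟨u, v0 + Q v0 • u, by rw [map_add, map_smul, hv0, halt, smul_zero, add_zero], 1, 2 * q, by omega,
        Or.inl ⟨rfl, hu⟩, fun _ => hu, fun d => ?_⟩
      have : Q (v0 + Q v0 • u) = 0 := by
        rw [hQ.add, hQ.smul, hu, map_smul, smul_eq_mul, hQ.comm, hv0, mul_zero, add_zero, mul_one]
        linear_combination Q v0 * h2
      rw [hu, this]
      exact card_binary_hyperbolic d
    · push Not at hs
      obtain ⟨u, w, hw⟩ : ∃ u w, B u w ≠ 0 := by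
        by_contra h
        push Not at h
        exact hB (LinearMap.ext fun u => LinearMap.ext fun w => h u w)
      refine ⟨u, (B u w)⁻¹ • w, by rw [map_smul, smul_eq_mul, inv_mul_cancel₀ hw], 2, q + 1, le_refl _,
        Or.inr rfl, fun h => absurd h (by omega), fun d => card_binary_anisotropic (fun x y h => ?_) h2 d⟩
      set v := (B u w)⁻¹ • w
      have huv : B u v = 1 := by rw [map_smul, smul_eq_mul, inv_mul_cancel₀ hw]
      have hz : Q (x • u + y • v) = 0 := by
        rw [hQ.add, hQ.smul, hQ.smul]
        simp only [map_smul, LinearMap.smul_apply, smul_eq_mul, huv]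
        linear_combination h
      have e1 := hs _ v hz
      have e2 := hs _ u hz
      simp only [map_add, map_smul, LinearMap.add_apply, LinearMap.smul_apply, smul_eq_mul, huv, halt,
        hQ.comm v u, mul_zero, mul_one, add_zero, zero_add] at e1 e2
      exact ⟨e1, e2⟩
  have hvu : B v u = 1 := (hQ.comm v u).trans huv
  set a := Q u
  set c := Q v
  set cond : (V → F) → (Fin 2 → V) → Prop := fun Q' p => Q' (p 0) = a ∧ Q' (p 1) = c ∧ Q' (p 0 + p 1) = a + c + 1
  set T := (univ : Finset (Fin 2 → V)).filter fun p => cond Q p with hT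
  set W := LinearMap.ker ((B u).prod (B v)) with hW
  have hWV : Nat.card W * q ^ 2 = Fintype.card V := by
    have hsurj : Function.Surjective ((B u).prod (B v)) := fun x =>
      ⟨x.1 • v + x.2 • u, Prod.ext (by simp [huv, halt]) (by simp [hvu, halt])⟩
    have := ((B u).prod (B v)).toAddMonoidHom.ker.card_mul_index
    rw [AddSubgroup.index_ker, AddMonoidHom.range_eq_top.2 hsurj, AddSubgroup.card_top, Nat.card_prod,
      Nat.card_eq_fintype_card (α := F), ← _root_.sq, Nat.card_eq_fintype_card (α := V)] at this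
    exact this
  -- count the vectors with value `a`
  have hU : ((univ : Finset V).filter fun z => Q z = a).card ≤ C0 * Nat.card W := by
    haveI := Fintype.ofFinite W
    rw [Nat.card_eq_fintype_card, ← card_univ (α := W)]
    have hmem : ∀ z : V, z + B v z • u + B u z • v ∈ W := fun z => by
      rw [hW, LinearMap.mem_ker]
      refine Prod.ext ?_ ?_
      · show B u (z + B v z • u + B u z • v) = 0
        simp only [map_add, map_smul, smul_eq_mul, halt, huv]
        linear_combination B u z * h2
      · show B v (z + B v z • u + B u z • v) = 0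
        simp only [map_add, map_smul, smul_eq_mul, halt, hvu]
        linear_combination B v z * h2
    refine Finset.card_le_mul_card_image_of_maps_to (f := fun z => (⟨_, hmem z⟩ : W)) (fun _ _ => mem_univ _) C0 fun w _ => ?_
    refine le_trans (Finset.card_le_card_of_injOn (fun z => (B v z, B u z)) (fun z hz => ?_) ?_) (hbin (a + Q w.1))
    · simp only [Finset.mem_coe, mem_filter, mem_univ, true_and] at hz ⊢
      have e : z = w.1 + (B v z • u + B u z • v) := by
        rw [← congrArg Subtype.val hz.2]
        have h2v : ∀ y : V, y + y = 0 := fun y => by rw [← two_smul F y, h2, zero_smul]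
        calc z = z + ((B v z • u + B u z • v) + (B v z • u + B u z • v)) := by rw [h2v, add_zero]
          _ = z + B v z • u + B u z • v + (B v z • u + B u z • v) := by abel
      have hwk : B u w.1 = 0 ∧ B v w.1 = 0 := Prod.ext_iff.1 (LinearMap.mem_ker.1 w.2)
      have h' := hz.1
      conv_lhs at h' => rw [e]
      rw [hQ.add, hQ.add, hQ.smul, hQ.smul] at h'
      simp only [map_add, map_smul, LinearMap.add_apply, LinearMap.smul_apply, smul_eq_mul, huv, hQ.comm w.1, hwk.1, hwk.2] at h'
      linear_combination h' - Q w.1 * h2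
    · intro z hz z' hz' e
      simp only [Finset.mem_coe, mem_filter, mem_univ, true_and] at hz hz'
      have e0 := congrArg Subtype.val (hz.2.trans hz'.2.symm)
      obtain ⟨e1, e2⟩ := Prod.ext_iff.1 e
      simp only at e0 e1 e2
      rw [e1, e2] at e0
      exact add_right_cancel (add_right_cancel e0)
  -- count the partners
  have hV : ∀ z : V, Q z = a → ((univ : Finset V).filter fun y => Q y = c ∧ B z y = 1).card * q ^ 2 ≤ kv * Fintype.card V := by
    intro z hz
    set H := (univ : Finset V).filter fun y => B z y = 1 with hH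
    rcases H.eq_empty_or_nonempty with he | ⟨y0, hy0⟩
    · rw [show ((univ : Finset V).filter fun y => Q y = c ∧ B z y = 1) = ∅ from Finset.eq_empty_of_forall_notMem fun y hy => by
        have : y ∈ H := by simp only [hH, mem_filter, mem_univ, true_and] at hy ⊢; exact hy.2
        rw [he] at this; simp at this]
      simp
    simp only [hH, mem_filter, mem_univ, true_and] at hy0
    have hHc : H.card * q = Fintype.card V := by
      have hsurj : Function.Surjective (B z) := fun x => ⟨x • y0, by rw [map_smul, hy0, smul_eq_mul, mul_one]⟩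
      have := (B z).toAddMonoidHom.ker.card_mul_index
      rw [AddSubgroup.index_ker, AddMonoidHom.range_eq_top.2 hsurj, AddSubgroup.card_top,
        Nat.card_eq_fintype_card (α := F), Nat.card_eq_fintype_card (α := V)] at this
      rw [← this, Nat.card_eq_fintype_card]
      congr 1
      rw [← card_univ (α := (B z).toAddMonoidHom.ker)]
      refine Finset.card_nbij' (fun y => if hy : B z y = 1 then ⟨y - y0, show B z (y - y0) = 0 by rw [map_sub, hy, hy0, sub_self]⟩ else 0)
        (fun k => k.1 + y0) (fun _ _ => mem_univ _) (fun k _ => ?_) (fun y hy => ?_) (fun k _ => ?_)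
      · have hk : B z k.1 = 0 := k.2
        simp [hH, hk, hy0]
      · simp only [hH, Finset.mem_coe, mem_filter, mem_univ, true_and] at hy
        simp [hy]
      · have hk : B z k.1 = 0 := k.2
        simp [hk, hy0]
    have h := Finset.card_le_mul_card_image_of_maps_to
      (s := ((univ : Finset V).filter fun y => Q y = c ∧ B z y = 1) ×ˢ (univ : Finset F)) (t := H)
      (f := fun x => x.1 + x.2 • z) (fun x hx => by
        simp only [mem_product, mem_filter, mem_univ, true_and, and_true] at hx
        simp [hH, hx.2, halt]) kv (fun y _ => by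
        have key : ∀ x : V × F, Q x.1 = c ∧ B z x.1 = 1 → x.1 + x.2 • z = y →
            Q y = c + x.2 ^ 2 * a + x.2 := fun x h1 h2' => by
          rw [← h2', hQ.add, hQ.smul, hz, h1.1, map_smul, smul_eq_mul, hQ.comm, h1.2, mul_one]
        have hext : ∀ x x' : V × F, x.1 + x.2 • z = y → x'.1 + x'.2 • z = y → x.2 = x'.2 → x = x' :=
          fun x x' e e' h => Prod.ext (add_right_cancel (b := x.2 • z) (by rw [e, h, e'])) h
        rcases hC with ⟨rfl, hu⟩ | rfl
        · refine Finset.card_le_one.2 fun x hx x' hx' => ?_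
          simp only [mem_filter, mem_product, mem_univ, and_true, true_and] at hx hx'
          have k1 := key _ hx.1 hx.2
          have k2 := key _ hx'.1 hx'.2
          refine hext _ _ hx.2 hx'.2 ?_
          rw [show a = 0 from hu] at k1 k2
          linear_combination k2 - k1
        · by_contra hc
          obtain ⟨x1, x2, x3, m1, m2, m3, n12, n13, n23⟩ := Finset.two_lt_card_iff.1 (not_le.1 hc)
          simp only [mem_filter, mem_product, mem_univ, true_and, and_true] at m1 m2 m3
          have k1 := key _ m1.1 m1.2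
          have k2 := key _ m2.1 m2.2
          have k3 := key _ m3.1 m3.2
          have d12 : x1.2 - x2.2 ≠ 0 := sub_ne_zero.2 fun h => n12 (hext _ _ m1.2 m2.2 h)
          have d13 : x1.2 - x3.2 ≠ 0 := sub_ne_zero.2 fun h => n13 (hext _ _ m1.2 m3.2 h)
          have d23 : x2.2 - x3.2 ≠ 0 := sub_ne_zero.2 fun h => n23 (hext _ _ m2.2 m3.2 h)
          have e12 : (x1.2 + x2.2) * a + 1 = 0 :=
            (mul_eq_zero.1 (show (x1.2 - x2.2) * ((x1.2 + x2.2) * a + 1) = 0 by linear_combination k2 - k1)).resolve_left d12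
          have e13 : (x1.2 + x3.2) * a + 1 = 0 :=
            (mul_eq_zero.1 (show (x1.2 - x3.2) * ((x1.2 + x3.2) * a + 1) = 0 by linear_combination k3 - k1)).resolve_left d13
          have ha0 : a ≠ 0 := fun h => by rw [h, mul_zero, zero_add] at e12; exact one_ne_zero e12
          exact mul_ne_zero d23 ha0 (by linear_combination e12 - e13))
    rw [card_product, card_univ] at h
    calc ((univ : Finset V).filter fun y => Q y = c ∧ B z y = 1).card * q ^ 2
        = ((univ : Finset V).filter fun y => Q y = c ∧ B z y = 1).card * q * q := by rw [_root_.sq, mul_assoc]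
      _ ≤ kv * H.card * q := Nat.mul_le_mul_right _ h
      _ = kv * Fintype.card V := by rw [mul_assoc, hHc]
  have hN : T.card * q ^ 4 ≤ 2 * (q + 1) * Fintype.card V ^ 2 := by
    set U := (univ : Finset V).filter fun z => Q z = a
    have h1 : T.card ≤ ∑ z ∈ U, ((univ : Finset V).filter fun y => Q y = c ∧ B z y = 1).card := by
      rw [← Finset.card_sigma]
      refine Finset.card_le_card_of_injOn (fun p => ⟨p 0, p 1⟩) (fun p hp => ?_) ?_
      · simp only [hT, Finset.mem_coe, mem_filter, mem_univ, true_and, cond] at hp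
        simp only [Finset.mem_coe, Finset.mem_sigma, U, mem_filter, mem_univ, true_and]
        refine ⟨hp.1, hp.2.1, ?_⟩
        have := hp.2.2
        rw [hQ.add, hp.1, hp.2.1] at this
        exact add_left_cancel this
      · intro p _ r _ e
        simp only [Sigma.mk.injEq, heq_eq_eq] at e
        funext i
        fin_cases i
        · exact e.1
        · exact e.2
    have h3 := Nat.mul_le_mul_right (q ^ 2) h1
    rw [Finset.sum_mul] at h3
    have h4 : ∑ z ∈ U, ((univ : Finset V).filter fun y => Q y = c ∧ B z y = 1).card * q ^ 2 ≤ U.card * (kv * Fintype.card V) :=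
      (Finset.sum_le_card_nsmul _ _ _ fun z hz => hV z (by simpa [U] using hz)).trans_eq (smul_eq_mul _ _)
    calc T.card * q ^ 4 = T.card * q ^ 2 * q ^ 2 := by ring
      _ ≤ C0 * Nat.card W * (kv * Fintype.card V) * q ^ 2 :=
          Nat.mul_le_mul_right _ ((h3.trans h4).trans (Nat.mul_le_mul_right _ hU))
      _ = kv * C0 * Fintype.card V * (Nat.card W * q ^ 2) := by ring
      _ = kv * C0 * Fintype.card V ^ 2 := by rw [hWV]; ring
      _ ≤ _ := Nat.mul_le_mul_right _ hk
  -- double counting
  have habove : ∀ Q' ∈ quadOrbit F Q, (Finset.bipartiteAbove cond univ Q').card = T.card := fun Q' hQ' => by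
    obtain ⟨g, rfl⟩ := mem_quadOrbit.1 hQ'
    refine Finset.card_equiv (Equiv.piCongrRight fun _ : Fin 2 => g.toEquiv) fun p => ?_
    simp [Finset.bipartiteAbove, cond, hT]
  have hind : LinearIndependent F ![u, v] := by
    rw [LinearIndependent.pair_iff]
    intro s t h
    have e1 := congrArg (fun z => B v z) h
    have e2 := congrArg (fun z => B u z) h
    simp [halt, huv, hvu] at e1 e2
    exact ⟨e1, e2⟩
  set S := Submodule.span F (Set.range ![u, v]) with hS
  set L := S.dualAnnihilator
  have hL : Nat.card L * q ^ 2 = Fintype.card V := by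
    rw [← Nat.card_eq_fintype_card, ← card_annihilator S]
    congr 1
    rw [Module.natCard_eq_pow_finrank (K := F) (V := S), hS, finrank_span_eq_card hind, Fintype.card_fin,
      Nat.card_eq_fintype_card]
  haveI : Finite L := Finite.of_injective (fun l : L => (l.1 : V → F)) fun l l' e => Subtype.ext (DFunLike.coe_injective e)
  haveI := Fintype.ofFinite L
  have hLu : ∀ l : L, l.1 u = 0 ∧ l.1 v = 0 := fun l =>
    ⟨(Submodule.mem_dualAnnihilator _).1 l.2 u (Submodule.subset_span ⟨0, rfl⟩),
      (Submodule.mem_dualAnnihilator _).1 l.2 v (Submodule.subset_span ⟨1, rfl⟩)⟩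
  set P := (univ : Finset (Fin 2 → V)).filter fun p => LinearIndependent F p with hP
  have hbelow : ∀ p ∈ P, Nat.card L * Nat.card L ≤ (Finset.bipartiteBelow cond (quadOrbit F Q) p).card := fun p hp => by
    obtain ⟨h, hh⟩ := exists_equiv_map hind (by simpa [hP] using hp : LinearIndependent F p)
    have h0 : h u = p 0 := hh 0
    have h1 : h v = p 1 := hh 1
    rw [Nat.card_eq_fintype_card, ← Fintype.card_prod, ← card_univ]
    refine Finset.card_le_card_of_injOn
      (fun l => Q ∘ (h.symm.trans (shear2 u v l.1.1 l.2.1 (hLu l.1).1 (hLu l.1).2 (hLu l.2).1 (hLu l.2).2)))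
      (fun l _ => ?_) ?_
    · simp only [Finset.mem_coe, Finset.bipartiteBelow, mem_filter, mem_quadOrbit, cond]
      refine ⟨⟨_, rfl⟩, ?_, ?_, ?_⟩
      · simp [← h0, shear2, (hLu l.1).1, (hLu l.2).1]; rfl
      · simp [← h1, shear2, (hLu l.1).2, (hLu l.2).2]; rfl
      · have hs : h.symm (p 0 + p 1) = u + v := by rw [← h0, ← h1, ← map_add, h.symm_apply_apply]
        simp only [Function.comp_apply, LinearEquiv.trans_apply, hs]
        simp [shear2, (hLu l.1).1, (hLu l.1).2, (hLu l.2).1, (hLu l.2).2]
        rw [hQ.add, huv]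
    · intro l _ l' _ e
      have key : ∀ (m : L × L) (z x : V), x = u ∨ x = v →
          Q (shear2 u v m.1.1 m.2.1 (hLu m.1).1 (hLu m.1).2 (hLu m.2).1 (hLu m.2).2 (z + x)) -
          Q (shear2 u v m.1.1 m.2.1 (hLu m.1).1 (hLu m.1).2 (hLu m.2).1 (hLu m.2).2 z) =
            Q x + B z x + m.1.1 z * B u x + m.2.1 z * B v x := fun m z x hx => by
        have hm : m.1.1 x = 0 ∧ m.2.1 x = 0 := by
          rcases hx with rfl | rfl
          exacts [⟨(hLu m.1).1, (hLu m.2).1⟩, ⟨(hLu m.1).2, (hLu m.2).2⟩]
        have e1 : shear2 u v m.1.1 m.2.1 (hLu m.1).1 (hLu m.1).2 (hLu m.2).1 (hLu m.2).2 (z + x) =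
            (z + m.1.1 z • u + m.2.1 z • v) + x := by
          simp [shear2, hm.1, hm.2]; abel
        have e2 : shear2 u v m.1.1 m.2.1 (hLu m.1).1 (hLu m.1).2 (hLu m.2).1 (hLu m.2).2 z =
            z + m.1.1 z • u + m.2.1 z • v := rfl
        rw [e1, e2, hQ.add _ x]
        simp only [map_add, map_smul, LinearMap.add_apply, LinearMap.smul_apply, smul_eq_mul]
        ring
      have hq : ∀ z, Q (shear2 u v l.1.1 l.2.1 (hLu l.1).1 (hLu l.1).2 (hLu l.2).1 (hLu l.2).2 z) =
          Q (shear2 u v l'.1.1 l'.2.1 (hLu l'.1).1 (hLu l'.1).2 (hLu l'.2).1 (hLu l'.2).2 z) := fun z => by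
        have := congrFun e (h z)
        simpa using this
      refine Prod.ext (Subtype.ext (LinearMap.ext fun z => ?_)) (Subtype.ext (LinearMap.ext fun z => ?_))
      · have := key l z v (Or.inr rfl)
        rw [hq, hq, key l' z v (Or.inr rfl), huv, halt] at this
        linear_combination -this
      · have := key l z u (Or.inl rfl)
        rw [hq, hq, key l' z u (Or.inl rfl), hvu, halt] at this
        linear_combination -this
  have hsum := Finset.sum_card_bipartiteAbove_eq_sum_card_bipartiteBelow cond (s := quadOrbit F Q) (t := univ)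
  rw [Finset.sum_congr rfl habove, Finset.sum_const, smul_eq_mul] at hsum
  have hge : P.card * (Nat.card L * Nat.card L) ≤ (quadOrbit F Q).card * T.card := by
    rw [hsum, ← smul_eq_mul]
    exact le_trans (Finset.card_nsmul_le_sum _ _ _ hbelow) (Finset.sum_le_sum_of_subset (Finset.subset_univ _))
  have hn2 : 2 ≤ finrank F V := by
    have := hind.fintype_card_le_finrank
    simpa using this
  have hPc : P.card = (Fintype.card V - 1) * (Fintype.card V - q) := by
    have := card_linearIndependent (K := F) (V := V) (k := 2) hn2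
    rw [Nat.card_eq_fintype_card, Fintype.card_subtype, Fin.prod_univ_two] at this
    rw [hP, Module.card_eq_pow_finrank (K := F) (V := V)]
    simpa using this
  rw [← hPc]
  have hVpos : 0 < Fintype.card V ^ 2 := pow_pos Fintype.card_pos 2
  refine Nat.le_of_mul_le_mul_right ?_ hVpos
  calc P.card * Fintype.card V ^ 2 = P.card * (Nat.card L * Nat.card L) * q ^ 4 := by rw [← hL]; ring
    _ ≤ (quadOrbit F Q).card * T.card * q ^ 4 := Nat.mul_le_mul_right _ hge
    _ ≤ (quadOrbit F Q).card * (2 * (q + 1) * Fintype.card V ^ 2) := by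
        rw [mul_assoc]; exact Nat.mul_le_mul_left _ hN
    _ = 2 * (q + 1) * (quadOrbit F Q).card * Fintype.card V ^ 2 := by ring

end Cfsg.Agent.Lib.MinDegree
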