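import Mathlib
import Cfsg.Agent.Lib.Chars.Basic
import Cfsg.Agent.Lib.LinGroup.SympSimple
import Cfsg.Agent.Lib.Classical.Symplectic
import Cfsg.Agent.Lib.MinDegree.Eigen
import Cfsg.Agent.Lib.MinDegree.QuadOrbit

/-!
The Siegel radical of `Sp_{2n}(q)` on a representation: lower bound by the orbit of an occurring character.
-/

set_option autoImplicit false

namespace Cfsg.Agent.Lib.MinDegree

open Classical Module Matrix

variable {F : Type*} [Field F] {n : ℕ}

variable (F n) in
/-- The symmetric matrices. -/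
def symMat : Submodule F (Matrix (Fin n) (Fin n) F) where
  carrier := {S | Sᵀ = S}
  add_mem' {a b} ha hb := by simp only [Set.mem_setOf_eq] at *; rw [transpose_add, ha, hb]
  zero_mem' := transpose_zero
  smul_mem' c S hS := by simp only [Set.mem_setOf_eq] at *; rw [transpose_smul, hS]

theorem mem_symMat {S : Matrix (Fin n) (Fin n) F} : S ∈ symMat F n ↔ Sᵀ = S := Iff.rfl

/-- `v vᵀ`. -/
def sqVec (v : Fin n → F) : symMat F n := ⟨vecMulVec v v, transpose_vecMulVec v v⟩

/-- `u vᵀ + v uᵀ`. -/
def crossVec (u v : Fin n → F) : symMat F n :=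
  ⟨vecMulVec u v + vecMulVec v u, by
    rw [mem_symMat, transpose_add, transpose_vecMulVec, transpose_vecMulVec, add_comm]⟩

/-- The Siegel radical element. -/
def siegelU (S : symMat F n) : Matrix.symplecticGroup (Fin n) F :=
  ⟨fromBlocks 1 S.1 0 1, by
    rw [SymplecticGroup.mem_iff, Matrix.J, fromBlocks_transpose, fromBlocks_multiply, fromBlocks_multiply]
    simp [mem_symMat.1 S.2]⟩

theorem siegelU_zero : siegelU (0 : symMat F n) = 1 := Subtype.ext (by simp [siegelU])

theorem siegelU_add (S T : symMat F n) : siegelU (S + T) = siegelU S * siegelU T :=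
  Subtype.ext (by
    show _ = fromBlocks 1 S.1 0 1 * fromBlocks 1 T.1 0 1
    rw [fromBlocks_multiply]
    simp [siegelU, add_comm])

/-- The Siegel Levi element. -/
def siegelM (M : Matrix.GeneralLinearGroup (Fin n) F) : Matrix.symplecticGroup (Fin n) F :=
  ⟨fromBlocks M.val 0 0 M⁻¹.valᵀ, by
    rw [SymplecticGroup.mem_iff, Matrix.J, fromBlocks_transpose, fromBlocks_multiply, fromBlocks_multiply]
    have h1 : (M⁻¹ : Matrix.GeneralLinearGroup (Fin n) F).val * M.val = 1 := M.inv_mul
    have h2 : M⁻¹.valᵀ * M.valᵀ = 1 := by rw [← transpose_mul, M.mul_inv, transpose_one]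
    simp [h2, -Matrix.coe_units_inv]⟩

/-- Congruence. -/
def congMat (M : Matrix (Fin n) (Fin n) F) : symMat F n →ₗ[F] symMat F n where
  toFun S := ⟨M * S.1 * Mᵀ, by
    rw [mem_symMat, transpose_mul, transpose_mul, transpose_transpose, mem_symMat.1 S.2, mul_assoc]⟩
  map_add' S T := Subtype.ext (by simp [mul_add, add_mul])
  map_smul' c S := Subtype.ext (by simp)

theorem siegelM_mul_U (M : Matrix.GeneralLinearGroup (Fin n) F) (S : symMat F n) :
    siegelM M * siegelU S = siegelU (congMat M.val S) * siegelM M := by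
  refine Subtype.ext ?_
  show fromBlocks M.val 0 0 _ * fromBlocks 1 S.1 0 1 = fromBlocks 1 (M.val * S.1 * M.valᵀ) 0 1 * fromBlocks M.val 0 0 _
  rw [fromBlocks_multiply, fromBlocks_multiply]
  have h2 : M.valᵀ * M⁻¹.valᵀ = 1 := by rw [← transpose_mul, M.inv_mul, transpose_one]
  simp [mul_assoc, h2, -Matrix.coe_units_inv]

theorem congMat_sqVec (M : Matrix (Fin n) (Fin n) F) (v : Fin n → F) :
    congMat M (sqVec v) = sqVec (M *ᵥ v) := by
  refine Subtype.ext ?_
  show M * vecMulVec v v * Mᵀ = vecMulVec (M *ᵥ v) (M *ᵥ v)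
  rw [mul_vecMulVec, vecMulVec_mul, vecMul_transpose]

/-- The quadratic function of a functional. -/
def quadFn (L : Dual F (symMat F n)) (v : Fin n → F) : F := L (sqVec v)

/-- Its polar form. -/
def polarFn (L : Dual F (symMat F n)) : (Fin n → F) →ₗ[F] (Fin n → F) →ₗ[F] F :=
  LinearMap.mk₂ F (fun u v => L (crossVec u v))
    (fun a b v => by
      rw [← map_add]; congr 1; refine Subtype.ext ?_
      simp [crossVec, add_vecMulVec, vecMulVec_add]; abel)
    (fun c a v => by
      rw [← map_smul]; congr 1; refine Subtype.ext ?_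
      simp [crossVec, smul_vecMulVec, vecMulVec_smul])
    (fun a b v => by
      rw [← map_add]; congr 1; refine Subtype.ext ?_
      simp [crossVec, add_vecMulVec, vecMulVec_add]; abel)
    (fun c a v => by
      rw [← map_smul]; congr 1; refine Subtype.ext ?_
      simp [crossVec, smul_vecMulVec, vecMulVec_smul])

theorem isQuad_quadFn (L : Dual F (symMat F n)) : IsQuad (quadFn L) (polarFn L) where
  smul a v := by
    rw [quadFn, quadFn, ← smul_eq_mul, ← map_smul]; congr 1; refine Subtype.ext ?_
    simp [sqVec, smul_vecMulVec, vecMulVec_smul, smul_smul, pow_two]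
  add u v := by
    show L _ = L _ + L _ + L (crossVec u v)
    rw [← map_add, ← map_add]; congr 1; refine Subtype.ext ?_
    simp [sqVec, crossVec, add_vecMulVec, vecMulVec_add]; abel

variable [Fintype F]

/-- A fixed non-trivial additive character. -/
noncomputable def psi0 (F : Type*) [Field F] [Fintype F] : AddChar F ℂ := AddChar.FiniteField.primitiveChar_to_Complex F

theorem exists_functional (φ : AddChar (symMat F n) ℂ) :
    ∃ L : Dual F (symMat F n), ∀ S, φ S = psi0 F (L S) := by
  classical
  haveI : Finite (Dual F (symMat F n)) := Finite.of_injective _ DFunLike.coe_injective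
  haveI := Fintype.ofFinite (Dual F (symMat F n))
  haveI := Fintype.ofFinite (symMat F n)
  let T : Dual F (symMat F n) → AddChar (symMat F n) ℂ := fun L => (psi0 F).compAddMonoidHom L.toAddMonoidHom
  have hinj : Function.Injective T := fun L L' h => LinearMap.ext fun S => by
    by_contra hne
    have hp : (psi0 F).IsPrimitive := AddChar.FiniteField.primitiveChar_to_Complex_isPrimitive F
    refine hp (sub_ne_zero.2 hne) (DFunLike.ext _ _ fun a => ?_)
    have h1 : psi0 F (L (a • S)) = psi0 F (L' (a • S)) := congrArg (fun χ : AddChar (symMat F n) ℂ => χ (a • S)) h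
    have h2 := (psi0 F).map_add_eq_mul (L (a • S) - L' (a • S)) (L' (a • S))
    rw [sub_add_cancel, h1] at h2
    have h3 : psi0 F (L' (a • S)) ≠ 0 := fun h0 => by
      have := (psi0 F).map_add_eq_mul (L' (a • S)) (-L' (a • S))
      rw [add_neg_cancel, AddChar.map_zero_eq_one, h0, zero_mul] at this
      exact one_ne_zero this
    rw [AddChar.mulShift_apply, AddChar.one_apply]
    calc psi0 F ((L S - L' S) * a) = psi0 F (L (a • S) - L' (a • S)) := by
          rw [map_smul, map_smul, smul_eq_mul, smul_eq_mul]; ring_nf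
      _ = 1 := (mul_eq_right₀ h3).1 h2.symm
  have hcard : Fintype.card (Dual F (symMat F n)) = Fintype.card (AddChar (symMat F n) ℂ) := by
    rw [AddChar.card_eq, Module.card_eq_pow_finrank (K := F) (V := Dual F (symMat F n)),
      Module.card_eq_pow_finrank (K := F) (V := symMat F n), Subspace.dual_finrank_eq]
  obtain ⟨L, hL⟩ := ((Fintype.bijective_iff_injective_and_card T).2 ⟨hinj, hcard⟩).2 φ
  exact ⟨L, fun S => by rw [← hL]; rfl⟩

section Rep

variable {U : Type*} [AddCommGroup U] [Module ℂ U] [FiniteDimensional ℂ U]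
  (ρ : Matrix.symplecticGroup (Fin n) F →* Module.End ℂ U)

/-- The radical in the representation. -/
noncomputable abbrev siegelZ (S : symMat F n) : Module.End ℂ U := ρ (siegelU S)

/-- An occurring functional forces its whole orbit to occur. -/
theorem card_orbit_le_finrank {φ : AddChar (symMat F n) ℂ} (hφ : eigSpace (siegelZ ρ) φ ≠ ⊥)
    {L : Dual F (symMat F n)} (hL : ∀ S, φ S = psi0 F (L S)) :
    (quadOrbit F (quadFn L)).card ≤ finrank ℂ U := by
  classical
  haveI := Fintype.ofFinite (symMat F n)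
  have h0 : siegelZ ρ 0 = 1 := by rw [siegelZ, siegelU_zero, map_one]
  have hadd : ∀ a b, siegelZ ρ (a + b) = siegelZ ρ a * siegelZ ρ b := fun a b => by
    rw [siegelZ, siegelU_add, map_mul]
  have hex : ∀ Q' ∈ quadOrbit F (quadFn L), ∃ L' : Dual F (symMat F n),
      quadFn L' = Q' ∧ eigSpace (siegelZ ρ) ((psi0 F).compAddMonoidHom L'.toAddMonoidHom) ≠ ⊥ := by
    intro Q' hQ'
    obtain ⟨g, rfl⟩ := mem_quadOrbit.1 hQ'
    let M : Matrix.GeneralLinearGroup (Fin n) F :=
      ⟨LinearMap.toMatrix' g.toLinearMap, LinearMap.toMatrix' g.symm.toLinearMap,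
        by rw [← LinearMap.toMatrix'_comp, LinearEquiv.comp_symm, LinearMap.toMatrix'_id],
        by rw [← LinearMap.toMatrix'_comp, LinearEquiv.symm_comp, LinearMap.toMatrix'_id]⟩
    refine ⟨L.comp (congMat M.val), funext fun v => ?_, ?_⟩
    · show L (congMat M.val (sqVec v)) = L (sqVec (g v))
      rw [congMat_sqVec]
      congr 2
      exact LinearMap.toMatrix'_mulVec _ _
    · obtain ⟨u, hu, hu0⟩ := Submodule.exists_mem_ne_zero_of_ne_bot hφ
      refine (Submodule.ne_bot_iff _).2 ⟨ρ (siegelM M)⁻¹ u, fun S => ?_, fun h => hu0 ?_⟩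
      · show ρ (siegelU S) (ρ (siegelM M)⁻¹ u) = psi0 F (L (congMat M.val S)) • _
        rw [← hL, ← map_smul, ← hu (congMat M.val S)]
        show _ = ρ (siegelM M)⁻¹ (ρ (siegelU (congMat M.val S)) u)
        rw [← Module.End.mul_apply, ← map_mul, ← Module.End.mul_apply, ← map_mul]
        congr 2
        rw [eq_inv_mul_iff_mul_eq, ← mul_assoc, mul_inv_eq_iff_eq_mul]
        exact siegelM_mul_U M S
      · have := congrArg (ρ (siegelM M)) h
        rwa [map_zero, ← Module.End.mul_apply, ← map_mul, mul_inv_cancel, map_one, Module.End.one_apply] at this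
  choose f hf1 hf2 using hex
  have hle : (quadOrbit F (quadFn L)).card ≤
      ((Finset.univ : Finset (AddChar (symMat F n) ℂ)).filter fun χ => eigSpace (siegelZ ρ) χ ≠ ⊥).card := by
    rw [← Finset.card_attach]
    refine Finset.card_le_card_of_injOn (fun x => (psi0 F).compAddMonoidHom (f x.1 x.2).toAddMonoidHom)
      (fun x _ => by simpa using hf2 x.1 x.2) ?_
    intro x _ y _ h
    refine Subtype.ext ?_
    rw [← hf1 x.1 x.2, ← hf1 y.1 y.2]
    funext v
    by_contra hne
    have hp : (psi0 F).IsPrimitive := AddChar.FiniteField.primitiveChar_to_Complex_isPrimitive F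
    refine hp (sub_ne_zero.2 hne) (DFunLike.ext _ _ fun a => ?_)
    have h1 : psi0 F (f x.1 x.2 (a • sqVec v)) = psi0 F (f y.1 y.2 (a • sqVec v)) :=
      congrArg (fun χ : AddChar (symMat F n) ℂ => χ (a • sqVec v)) h
    rw [map_smul (f x.1 x.2), map_smul (f y.1 y.2), smul_eq_mul, smul_eq_mul] at h1
    rw [AddChar.mulShift_apply, AddChar.one_apply, sub_mul, mul_comm _ a, mul_comm _ a, sub_eq_add_neg,
      AddChar.map_add_eq_mul]
    show psi0 F (a * f x.1 x.2 (sqVec v)) * psi0 F (-(a * f y.1 y.2 (sqVec v))) = 1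
    rw [h1, ← AddChar.map_add_eq_mul, add_neg_cancel, AddChar.map_zero_eq_one]
  refine hle.trans ?_
  have hs := sum_finrank (z := siegelZ ρ) h0 hadd
  rw [← Nat.cast_sum, Nat.cast_inj] at hs
  rw [← hs]
  refine le_trans ?_ (Finset.sum_le_sum_of_subset (Finset.filter_subset (fun χ => eigSpace (siegelZ ρ) χ ≠ ⊥) _))
  rw [Finset.card_eq_sum_ones]
  refine Finset.sum_le_sum fun χ hχ => ?_
  exact Nat.one_le_iff_ne_zero.2 fun h => (Finset.mem_filter.1 hχ).2 (Submodule.finrank_eq_zero.1 h)

/-- If all occurring characters are trivial at `S`, so is the operator. -/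
theorem rep_siegelU_eq_one (S : symMat F n)
    (h : ∀ φ : AddChar (symMat F n) ℂ, eigSpace (siegelZ ρ) φ ≠ ⊥ → φ S = 1) : ρ (siegelU S) = 1 := by
  classical
  haveI := Fintype.ofFinite (symMat F n)
  have h0 : siegelZ ρ 0 = 1 := by rw [siegelZ, siegelU_zero, map_one]
  have hadd : ∀ a b, siegelZ ρ (a + b) = siegelZ ρ a * siegelZ ρ b := fun a b => by
    rw [siegelZ, siegelU_add, map_mul]
  refine LinearMap.ext fun u => ?_
  have hu : u = ∑ χ : AddChar (symMat F n) ℂ, eigProj (siegelZ ρ) χ u := by
    rw [← LinearMap.sum_apply, sum_eigProj h0, Module.End.one_apply]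
  conv_lhs => rw [hu]
  rw [Module.End.one_apply]
  conv_rhs => rw [hu]
  rw [map_sum]
  refine Finset.sum_congr rfl fun χ _ => ?_
  have hm := eigProj_mem hadd χ u
  by_cases hb : eigSpace (siegelZ ρ) χ = ⊥
  · rw [hb, Submodule.mem_bot] at hm
    rw [hm, map_zero]
  · exact (hm S).trans (by rw [h χ hb, one_smul])

end Rep

/-- A non-trivial representation is non-trivial on every non-trivial radical element. -/
theorem rep_eq_one_of_siegelU (hn : 2 ≤ n) (hex : n = 2 → 3 ≤ Fintype.card F) {k : ℕ}
    (ρ : Representation ℂ (Matrix.symplecticGroup (Fin n) F) (Fin k → ℂ)) {S : symMat F n} (hS : S ≠ 0)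
    (h : ρ (siegelU S) = 1) : ∀ g, ρ g = 1 := by
  classical
  have hperf : commutator (Matrix.symplecticGroup (Fin n) F) = ⊤ :=
    LinGroup.commutator_symplectic_eq_top (by
      rcases eq_or_lt_of_le hn with e | e
      · exact Or.inr (Or.inl ⟨e.symm, hex e.symm⟩)
      · exact Or.inl e)
  haveI := LinGroup.isSimpleGroup_PSp (F := F) (m := n) hn hex
  set Z := Subgroup.center (Matrix.symplecticGroup (Fin n) F)
  have hmem : siegelU S ∈ (MonoidHom.ker ρ) := h
  have hnc : siegelU S ∉ Z := fun hc => by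
    rcases (Classical.center_symplecticGroup n (siegelU S)).1 hc with e | e
    · refine hS (Subtype.ext ?_)
      have := congrArg Matrix.toBlocks₁₂ e
      simpa [siegelU, ← fromBlocks_one] using this
    · refine hS (Subtype.ext ?_)
      have := congrArg Matrix.toBlocks₁₂ e
      simpa [siegelU, ← fromBlocks_one, fromBlocks_neg] using this
  rcases ((inferInstance : (MonoidHom.ker ρ).Normal).map (QuotientGroup.mk' Z)
    (QuotientGroup.mk'_surjective _)).eq_bot_or_eq_top with hb | ht
  · have h1 := Subgroup.mem_map_of_mem (QuotientGroup.mk' Z) hmem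
    rw [hb, Subgroup.mem_bot] at h1
    exact absurd ((QuotientGroup.eq_one_iff _).1 h1) hnc
  · have hsup : MonoidHom.ker ρ ⊔ Z = ⊤ := by
      have := congrArg (Subgroup.comap (QuotientGroup.mk' Z)) ht
      rwa [Subgroup.comap_map_eq, Subgroup.comap_top, QuotientGroup.ker_mk'] at this
    have hle : commutator (Matrix.symplecticGroup (Fin n) F) ≤ MonoidHom.ker ρ := by
      rw [commutator_def, Subgroup.commutator_le]
      intro a _ b _
      have hab : ∀ x : Matrix.symplecticGroup (Fin n) F, ∃ y ∈ MonoidHom.ker ρ, ∀ w, ρ w * ρ x = ρ x * ρ w := by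
        intro x
        have hx : x ∈ ((MonoidHom.ker ρ ⊔ Z : Subgroup _) : Set _) := by rw [hsup]; trivial
        rw [Subgroup.normal_mul] at hx
        obtain ⟨y, hy, z, hz, rfl⟩ := hx
        refine ⟨y, hy, fun w => ?_⟩
        have hy' : ρ y = 1 := hy
        rw [map_mul, hy', one_mul, ← map_mul, ← map_mul, Subgroup.mem_center_iff.1 hz w]
      obtain ⟨-, -, ha⟩ := hab a
      show ρ (a * b * a⁻¹ * b⁻¹) = 1
      rw [map_mul, map_mul, map_mul, ← ha b, mul_assoc (ρ b), ← map_mul, mul_inv_cancel, map_one, mul_one, ← map_mul,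
        mul_inv_cancel, map_one]
    intro g
    exact hle (hperf ▸ Subgroup.mem_top g)

end Cfsg.Agent.Lib.MinDegree
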