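import Mathlib
import Cfsg.Agent.Lib.MinDegree.Siegel

/-!
Transvections, dilatations and Levi elements of `GL_{r+1}`; characters of `F^r`.
-/

set_option autoImplicit false

namespace Cfsg.Agent.Lib.MinDegree

open Classical Module Matrix

variable {F : Type*} [Field F] {ι : Type*} [Fintype ι] [DecidableEq ι]

theorem exists_dot {κ : Type*} {f : κ → ι → F} (hf : LinearIndependent F f) (c : κ → F) :
    ∃ β : ι → F, ∀ i, β ⬝ᵥ f i = c i := by
  obtain ⟨L, hL⟩ := LinearMap.exists_extend ((Module.Basis.span hf).constr F c)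
  refine ⟨fun j => L (Pi.single j 1), fun i => ?_⟩
  have h := LinearMap.congr_fun hL (Module.Basis.span hf i)
  rw [LinearMap.comp_apply, Submodule.subtype_apply, Module.Basis.constr_basis, Module.Basis.span_apply] at h
  have key : ∀ z : ι → F, (fun j => L (Pi.single j 1)) ⬝ᵥ z = L z := fun z => by
    conv_rhs => rw [pi_eq_sum_univ' z]
    simp only [map_sum, map_smul, dotProduct, smul_eq_mul]
    exact Finset.sum_congr rfl fun j _ => mul_comm _ _
  exact (key _).trans h

/-- `1 + v φᵀ`. -/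
def trMat (v φ : ι → F) : Matrix ι ι F := 1 + vecMulVec v φ

theorem trMat_mulVec (v φ z : ι → F) : trMat v φ *ᵥ z = z + (φ ⬝ᵥ z) • v := by
  rw [trMat, add_mulVec, one_mulVec, vecMulVec_mulVec, op_smul_eq_smul]

theorem det_trMat (v φ : ι → F) : (trMat v φ).det = 1 + φ ⬝ᵥ v := by
  rw [trMat, vecMulVec_eq Unit, det_one_add_replicateCol_mul_replicateRow]

theorem trMat_mul (v v' φ φ' : ι → F) (h : φ ⬝ᵥ v' = 0) :
    trMat v φ * trMat v' φ' = 1 + vecMulVec v φ + vecMulVec v' φ' := by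
  rw [trMat, trMat, mul_add, mul_one, add_mul, one_mul, vecMulVec_mul_vecMulVec, h, zero_smul, vecMulVec_zero, add_zero]

theorem trMat_add_left (v v' φ : ι → F) (h : φ ⬝ᵥ v' = 0) : trMat v φ * trMat v' φ = trMat (v + v') φ := by
  rw [trMat_mul _ _ _ _ h, trMat, add_vecMulVec, add_assoc]

theorem trMat_add_right (v φ φ' : ι → F) (h : φ ⬝ᵥ v = 0) : trMat v φ * trMat v φ' = trMat v (φ + φ') := by
  rw [trMat_mul _ _ _ _ h, trMat, vecMulVec_add, add_assoc]

theorem trMat_zero (φ : ι → F) : trMat 0 φ = 1 := by simp [trMat]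

theorem trMat_smul (c : F) (v φ : ι → F) : trMat (c • v) φ = trMat v (c • φ) := by
  rw [trMat, trMat, smul_vecMulVec, vecMulVec_smul]

theorem mul_trMat (g : Matrix ι ι F) (v φ φ' : ι → F) (h : φ' ᵥ* g = φ) :
    g * trMat v φ = trMat (g *ᵥ v) φ' * g := by
  rw [trMat, trMat, mul_add, mul_one, add_mul, one_mul, mul_vecMulVec, vecMulVec_mul, h]

theorem trMat_eq_trMat_iff {v φ v' φ' : ι → F} :
    trMat v φ = trMat v' φ' ↔ vecMulVec v φ = vecMulVec v' φ' := by
  constructor
  · intro h; exact add_left_cancel (a := (1 : Matrix ι ι F)) h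
  · intro h; rw [trMat, trMat, h]

/-- The transvection in `SL`. -/
def trSL (v φ : ι → F) (h : φ ⬝ᵥ v = 0) : Matrix.SpecialLinearGroup ι F :=
  ⟨trMat v φ, by rw [det_trMat, h, add_zero]⟩

/-- The transvection in `GL`. -/
def trGL (v φ : ι → F) (h : φ ⬝ᵥ v = 0) : GL ι F := Matrix.SpecialLinearGroup.toGL (trSL v φ h)

theorem trGL_val (v φ : ι → F) (h : φ ⬝ᵥ v = 0) : (trGL v φ h).val = trMat v φ := rfl

theorem trGL_mul_left (v v' φ : ι → F) (h : φ ⬝ᵥ v = 0) (h' : φ ⬝ᵥ v' = 0) :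
    trGL v φ h * trGL v' φ h' = trGL (v + v') φ (by rw [dotProduct_add, h, h', add_zero]) :=
  Units.ext (trMat_add_left v v' φ h')

theorem trGL_inv (v φ : ι → F) (h : φ ⬝ᵥ v = 0) :
    (trGL v φ h)⁻¹ = trGL (-v) φ (by rw [dotProduct_neg, h, neg_zero]) := by
  refine inv_eq_of_mul_eq_one_right (Units.ext ?_)
  rw [trGL_mul_left, trGL_val, add_neg_cancel, trMat_zero]
  rfl

/-- The dilatation `1 + (c - 1) v βᵀ`. -/
def dilGL (v β : ι → F) (h : β ⬝ᵥ v = 1) (c : Fˣ) : GL ι F where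
  val := trMat (((c : F) - 1) • v) β
  inv := trMat ((((c⁻¹ : Fˣ) : F) - 1) • v) β
  val_inv := by
    refine Matrix.ext_of_mulVec_single fun i => ?_
    rw [← mulVec_mulVec, trMat_mulVec, trMat_mulVec, one_mulVec, dotProduct_add, dotProduct_smul, dotProduct_smul, h]
    simp only [smul_eq_mul, mul_one, smul_smul, add_smul, add_assoc, add_eq_left, ← add_smul]
    rw [show ∀ x : F, x * (((c⁻¹ : Fˣ) : F) - 1) + (x + x * (((c⁻¹ : Fˣ) : F) - 1)) * ((c : F) - 1) = 0 from fun x => by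
      have := c.mul_inv
      linear_combination x * this, zero_smul]
  inv_val := by
    refine Matrix.ext_of_mulVec_single fun i => ?_
    rw [← mulVec_mulVec, trMat_mulVec, trMat_mulVec, one_mulVec, dotProduct_add, dotProduct_smul, dotProduct_smul, h]
    simp only [smul_eq_mul, mul_one, smul_smul, add_smul, add_assoc, add_eq_left, ← add_smul]
    rw [show ∀ x : F, x * ((c : F) - 1) + (x + x * ((c : F) - 1)) * (((c⁻¹ : Fˣ) : F) - 1) = 0 from fun x => by
      have := c.mul_inv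
      linear_combination x * this, zero_smul]

theorem dilGL_mulVec (v β : ι → F) (h : β ⬝ᵥ v = 1) (c : Fˣ) (z : ι → F) :
    (dilGL v β h c).val *ᵥ z = z + ((β ⬝ᵥ z) * ((c : F) - 1)) • v := by
  rw [show (dilGL v β h c).val = trMat (((c : F) - 1) • v) β from rfl, trMat_mulVec, smul_smul]

theorem det_dilGL (v β : ι → F) (h : β ⬝ᵥ v = 1) (c : Fˣ) : (dilGL v β h c).val.det = c := by
  rw [show (dilGL v β h c).val = trMat (((c : F) - 1) • v) β from rfl, det_trMat, dotProduct_smul, h]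
  simp

variable {r : ℕ}

/-- `diag (a, A)`. -/
def blk (a : F) (A : Matrix (Fin r) (Fin r) F) : Matrix (Fin (r + 1)) (Fin (r + 1)) F :=
  Matrix.of (Fin.cons (Fin.cons a 0) fun i => Fin.cons 0 (A i))

theorem blk_mulVec (a : F) (A : Matrix (Fin r) (Fin r) F) (x : F) (z : Fin r → F) :
    blk a A *ᵥ Fin.cons x z = Fin.cons (a * x) (A *ᵥ z) := by
  funext i
  refine Fin.cases ?_ (fun i => ?_) i <;> simp [blk, mulVec, dotProduct, Fin.sum_univ_succ]

theorem vecMul_blk (a : F) (A : Matrix (Fin r) (Fin r) F) (x : F) (z : Fin r → F) :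
    Fin.cons x z ᵥ* blk a A = Fin.cons (x * a) (z ᵥ* A) := by
  funext i
  refine Fin.cases ?_ (fun i => ?_) i <;> simp [blk, vecMul, dotProduct, Fin.sum_univ_succ]

theorem blk_mul (a b : F) (A B : Matrix (Fin r) (Fin r) F) : blk a A * blk b B = blk (a * b) (A * B) := by
  refine Matrix.ext_iff_mulVec.2 fun z => ?_
  rw [← Fin.cons_self_tail z, ← mulVec_mulVec, blk_mulVec, blk_mulVec, blk_mulVec, mulVec_mulVec, mul_assoc]

theorem blk_one : blk (1 : F) (1 : Matrix (Fin r) (Fin r) F) = 1 := by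
  refine Matrix.ext_iff_mulVec.2 fun z => ?_
  rw [← Fin.cons_self_tail z, blk_mulVec, one_mulVec, one_mulVec, one_mul]

theorem blk_trMat (v φ : Fin r → F) : blk (1 : F) (trMat v φ) = trMat (Fin.cons 0 v) (Fin.cons 0 φ) := by
  refine Matrix.ext_iff_mulVec.2 fun z => ?_
  rw [← Fin.cons_self_tail z, blk_mulVec, trMat_mulVec, trMat_mulVec]
  funext i
  refine Fin.cases ?_ (fun i => ?_) i <;> simp [dotProduct, Fin.sum_univ_succ, Fin.tail]

theorem det_blk (a : F) (A : Matrix (Fin r) (Fin r) F) : (blk a A).det = a * A.det := by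
  rw [det_succ_row_zero, Fin.sum_univ_succ]
  have h : (blk a A).submatrix Fin.succ Fin.succ = A := by
    ext i j; simp [blk]
  simp [blk] at h ⊢
  simp [h]

/-- The Levi subgroup of `GL_{r+1}`. -/
def levGL : Fˣ × GL (Fin r) F →* GL (Fin (r + 1)) F where
  toFun x := ⟨blk (x.1 : F) x.2.val, blk ((x.1⁻¹ : Fˣ) : F) x.2⁻¹.val,
    by rw [blk_mul, x.1.mul_inv, x.2.mul_inv, blk_one], by rw [blk_mul, x.1.inv_mul, x.2.inv_mul, blk_one]⟩
  map_one' := Units.ext blk_one
  map_mul' x y := Units.ext (blk_mul _ _ _ _).symm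

/-- The Levi subgroup of `SL_{r+1}`. -/
noncomputable def levSL : GL (Fin r) F →* Matrix.SpecialLinearGroup (Fin (r + 1)) F where
  toFun A := ⟨blk (((Matrix.GeneralLinearGroup.det A)⁻¹ : Fˣ) : F) A.val, by
    rw [det_blk, ← Matrix.GeneralLinearGroup.val_det_apply, Units.inv_mul]⟩
  map_one' := Subtype.ext (by
    show blk _ _ = 1
    rw [map_one, inv_one, Units.val_one, Units.val_one, blk_one])
  map_mul' A B := Subtype.ext (by
    show blk _ _ = blk _ _ * blk _ _
    rw [blk_mul, map_mul, mul_inv, Units.val_mul, Units.val_mul])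

variable [Fintype F]

/-- The character `w ↦ ψ (w ⬝ y)`. -/
noncomputable def dotChar (y : Fin r → F) : AddChar (Fin r → F) ℂ :=
  (psi0 F).compAddMonoidHom (AddMonoidHom.mk' (fun w => w ⬝ᵥ y) fun a b => add_dotProduct a b y)

theorem dotChar_apply (y w : Fin r → F) : dotChar y w = psi0 F (w ⬝ᵥ y) := rfl

theorem dotChar_bijective : Function.Bijective (dotChar : (Fin r → F) → AddChar (Fin r → F) ℂ) := by
  rw [Fintype.bijective_iff_injective_and_card]
  refine ⟨fun y y' h => funext fun i => ?_, (AddChar.card_eq).symm⟩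
  by_contra hne
  refine AddChar.FiniteField.primitiveChar_to_Complex_isPrimitive F (sub_ne_zero.2 hne) (DFunLike.ext _ _ fun t => ?_)
  have h1 : psi0 F (t * y i) = psi0 F (t * y' i) := by
    have := congrArg (fun χ : AddChar (Fin r → F) ℂ => χ (Pi.single i t)) h
    simpa [dotChar_apply, single_dotProduct] using this
  rw [AddChar.mulShift_apply, AddChar.one_apply, sub_mul, mul_comm _ t, mul_comm _ t, sub_eq_add_neg, AddChar.map_add_eq_mul]
  show psi0 F (t * y i) * psi0 F (-(t * y' i)) = 1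
  rw [h1, ← AddChar.map_add_eq_mul, add_neg_cancel, AddChar.map_zero_eq_one]

theorem dotChar_eq_zero_iff (y : Fin r → F) : dotChar y = 0 ↔ y = 0 := by
  have h0 : dotChar (0 : Fin r → F) = 0 := DFunLike.ext _ _ fun w => by
    rw [dotChar_apply, dotProduct_zero, AddChar.map_zero_eq_one, AddChar.zero_apply]
  exact ⟨fun h => dotChar_bijective.1 (h.trans h0.symm), fun h => h ▸ h0⟩

/-- The action of `(a, A)` on row vectors. -/
noncomputable def rowAct (a : Fˣ) (A : GL (Fin r) F) : (Fin r → F) →+ (Fin r → F) :=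
  AddMonoidHom.mk' (fun w => (a : F) • (w ᵥ* A⁻¹.val)) fun w w' => by rw [add_vecMul, smul_add]

theorem dotChar_rowAct (a : Fˣ) (A : GL (Fin r) F) (y : Fin r → F) :
    (dotChar y).compAddMonoidHom (rowAct a A) = dotChar ((a : F) • (A⁻¹.val *ᵥ y)) :=
  DFunLike.ext _ _ fun w => by
    show psi0 F (((a : F) • (w ᵥ* A⁻¹.val)) ⬝ᵥ y) = psi0 F (w ⬝ᵥ _)
    rw [smul_dotProduct, dotProduct_smul, dotProduct_mulVec]

theorem dotChar_rowAct_eq_iff (a : Fˣ) (A : GL (Fin r) F) (y : Fin r → F) :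
    (dotChar y).compAddMonoidHom (rowAct a A) = dotChar y ↔ A.val *ᵥ y = (a : F) • y := by
  rw [dotChar_rowAct, dotChar_bijective.1.eq_iff]
  constructor
  · intro h
    conv_lhs => rw [← h]
    rw [mulVec_smul, mulVec_mulVec, A.mul_inv, one_mulVec]
  · intro h
    rw [← mulVec_smul, ← h, mulVec_mulVec, A.inv_mul, one_mulVec]

end Cfsg.Agent.Lib.MinDegree
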