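import Mathlib
import Cfsg.Agent.Lib.MinDegree.Eigen

/-!
A representation restricted to an abelian subgroup normalised by a group transitive on its non-trivial characters.
-/

set_option autoImplicit false

namespace Cfsg.Agent.Lib.MinDegree

open Classical Module

variable {G : Type*} [Group G] {H : Type*} [Group H] {A : Type*} [AddCommGroup A]

/-- An abelian subgroup with a transitive normalising group. -/
structure RadData (u : A → G) (ι : H →* G) (act : H → (A →+ A)) : Prop where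
  map_zero : u 0 = 1
  map_add : ∀ a b, u (a + b) = u a * u b
  conj : ∀ h a, ι h * u a = u (act h a) * ι h
  trans : ∀ φ χ : AddChar A ℂ, φ ≠ 0 → χ ≠ 0 → ∃ h, χ = φ.compAddMonoidHom (act h)

variable {u : A → G} {ι : H →* G} {act : H → (A →+ A)} (hd : RadData u ι act)
  {U : Type*} [AddCommGroup U] [Module ℂ U] (ρ : G →* Module.End ℂ U)

/-- The abelian subgroup acting. -/
abbrev radZ (u : A → G) (ρ : G →* Module.End ℂ U) (a : A) : Module.End ℂ U := ρ (u a)

include hd

theorem RadData.z_zero : radZ u ρ 0 = 1 := by rw [radZ, hd.map_zero, _root_.map_one]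

theorem RadData.z_add (a b : A) : radZ u ρ (a + b) = radZ u ρ a * radZ u ρ b := by
  rw [radZ, hd.map_add, _root_.map_mul]

theorem RadData.inv_mem (h : H) {χ : AddChar A ℂ} {v : U} (hv : v ∈ eigSpace (radZ u ρ) χ) :
    ρ (ι h⁻¹) v ∈ eigSpace (radZ u ρ) (χ.compAddMonoidHom (act h)) := fun a => by
  have e : u a * ι h⁻¹ = ι h⁻¹ * u (act h a) := by
    rw [_root_.map_inv, eq_inv_mul_iff_mul_eq, ← mul_assoc, hd.conj, mul_inv_cancel_right]
  show ρ (u a) (ρ (ι h⁻¹) v) = χ (act h a) • ρ (ι h⁻¹) v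
  rw [← Module.End.mul_apply, ← _root_.map_mul, e, _root_.map_mul, Module.End.mul_apply]
  exact (congrArg (ρ (ι h⁻¹)) (hv (act h a))).trans (_root_.map_smul _ _ _)

theorem RadData.zero_mem (h : H) {v : U} (hv : v ∈ eigSpace (radZ u ρ) (0 : AddChar A ℂ)) :
    ρ (ι h) v ∈ eigSpace (radZ u ρ) (0 : AddChar A ℂ) := by
  have h1 := hd.inv_mem ρ h⁻¹ hv
  rw [inv_inv] at h1
  exact h1

/-- The action on the fixed space. -/
noncomputable def RadData.fixedRep : H →* Module.End ℂ (eigSpace (radZ u ρ) (0 : AddChar A ℂ)) where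
  toFun h := (ρ (ι h)).restrict fun _ hv => hd.zero_mem ρ h hv
  map_one' := LinearMap.ext fun v => Subtype.ext (by
    show ρ (ι 1) v.1 = v.1
    rw [_root_.map_one, _root_.map_one]; rfl)
  map_mul' g k := LinearMap.ext fun v => Subtype.ext (by
    show ρ (ι (g * k)) v.1 = _
    rw [_root_.map_mul, _root_.map_mul]; rfl)

variable [FiniteDimensional ℂ U]

theorem RadData.finrank_eig_le {φ χ : AddChar A ℂ} (hφ : φ ≠ 0) (hχ : χ ≠ 0) :
    finrank ℂ (eigSpace (radZ u ρ) φ) ≤ finrank ℂ (eigSpace (radZ u ρ) χ) := by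
  obtain ⟨h, rfl⟩ := hd.trans φ χ hφ hχ
  refine LinearMap.finrank_le_finrank_of_injective
    (f := (ρ (ι h⁻¹)).restrict fun _ hv => hd.inv_mem ρ h hv) fun a b e => Subtype.ext ?_
  have e' := congrArg (fun x => ρ (ι h) x) (congrArg Subtype.val e)
  simpa [← Module.End.mul_apply, ← _root_.map_mul] using e'

variable [Fintype A]

/-- Dimension and trace on the abelian subgroup. -/
theorem RadData.exists_mult :
    ∃ m : ℕ, (∀ χ : AddChar A ℂ, χ ≠ 0 → finrank ℂ (eigSpace (radZ u ρ) χ) = m) ∧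
      finrank ℂ U = finrank ℂ (eigSpace (radZ u ρ) (0 : AddChar A ℂ)) + m * (Fintype.card A - 1) ∧
      (∀ a, a ≠ 0 → LinearMap.trace ℂ U (ρ (u a)) = (finrank ℂ (eigSpace (radZ u ρ) (0 : AddChar A ℂ)) : ℂ) - m) ∧
      ((∃ a, ρ (u a) ≠ 1) → 1 ≤ m) := by
  classical
  obtain ⟨m, hm⟩ : ∃ m, ∀ χ : AddChar A ℂ, χ ≠ 0 → finrank ℂ (eigSpace (radZ u ρ) χ) = m := by
    by_cases hex : ∃ φ : AddChar A ℂ, φ ≠ 0
    · obtain ⟨φ, hφ⟩ := hex
      exact ⟨_, fun χ hχ => le_antisymm (hd.finrank_eig_le ρ hχ hφ) (hd.finrank_eig_le ρ hφ hχ)⟩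
    · exact ⟨0, fun χ hχ => absurd ⟨χ, hχ⟩ hex⟩
  have hsplit : ∀ f : AddChar A ℂ → ℂ, ∑ ψ, f ψ = f 0 + ∑ ψ ∈ Finset.univ.erase 0, f ψ :=
    fun f => (Finset.add_sum_erase _ _ (Finset.mem_univ _)).symm
  refine ⟨m, hm, ?_, fun a ha => ?_, fun hne => ?_⟩
  · refine (Nat.cast_inj (R := ℂ)).1 ?_
    rw [← sum_finrank (z := radZ u ρ) (hd.z_zero ρ) (hd.z_add ρ), hsplit,
      Finset.sum_congr rfl fun ψ hψ => by rw [hm ψ (Finset.ne_of_mem_erase hψ)], Finset.sum_const,
      Finset.card_erase_of_mem (Finset.mem_univ _), Finset.card_univ, AddChar.card_eq, nsmul_eq_mul,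
      Nat.cast_add, Nat.cast_mul, mul_comm]
  · have hM : ∀ b, radZ u ρ b * ρ (u a) = ρ (u a) * radZ u ρ b := fun b => by
      rw [radZ, ← _root_.map_mul, ← _root_.map_mul, ← hd.map_add, ← hd.map_add, add_comm]
    rw [trace_eq_sum (z := radZ u ρ) (hd.z_zero ρ) (hd.z_add ρ) hM]
    have hres : ∀ ψ : AddChar A ℂ, LinearMap.trace ℂ (eigSpace (radZ u ρ) ψ)
        ((ρ (u a)).restrict fun _ hv => apply_mem_eigSpace hM hv) = ψ a * (finrank ℂ (eigSpace (radZ u ρ) ψ) : ℂ) := fun ψ => by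
      rw [show (ρ (u a)).restrict (fun _ hv => apply_mem_eigSpace hM hv) = ψ a • (1 : Module.End ℂ (eigSpace (radZ u ρ) ψ)) from
        LinearMap.ext fun v => Subtype.ext (v.2 a), _root_.map_smul, LinearMap.trace_one, smul_eq_mul]
    rw [Finset.sum_congr rfl fun ψ _ => hres ψ, hsplit,
      Finset.sum_congr rfl fun ψ hψ => by rw [hm ψ (Finset.ne_of_mem_erase hψ)], ← Finset.sum_mul,
      Finset.sum_erase_eq_sub (Finset.mem_univ _), AddChar.sum_apply_eq_ite, if_neg ha, AddChar.zero_apply]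
    ring
  · by_contra h0
    obtain ⟨a, ha⟩ := hne
    refine ha (eq_one_of_forall_eq_bot (z := radZ u ρ) (hd.z_zero ρ) (hd.z_add ρ) (fun ψ hψ => ?_) a)
    exact Submodule.finrank_eq_zero.1 (by rw [hm ψ hψ]; omega)

/-- With multiplicity one, a normalising element counts its fixed characters. -/
theorem RadData.trace_eq_fixed (h1 : ∀ χ : AddChar A ℂ, χ ≠ 0 → finrank ℂ (eigSpace (radZ u ρ) χ) = 1) (h : H)
    (hcomm : ∀ χ : AddChar A ℂ, χ ≠ 0 → χ.compAddMonoidHom (act h) = χ →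
      ∃ g k : H, χ.compAddMonoidHom (act g) = χ ∧ χ.compAddMonoidHom (act k) = χ ∧ h⁻¹ = g⁻¹ * k⁻¹ * g * k) :
    LinearMap.trace ℂ U (ρ (ι h⁻¹)) = LinearMap.trace ℂ _ (hd.fixedRep ρ h⁻¹) +
      ((Finset.univ.filter fun χ : AddChar A ℂ => χ ≠ 0 ∧ χ.compAddMonoidHom (act h) = χ).card : ℂ) := by
  classical
  set M := ρ (ι h⁻¹) with hM
  have hmaps : ∀ χ : AddChar A ℂ, ∀ v, (eigProj (radZ u ρ) χ * M) v ∈ eigSpace (radZ u ρ) χ :=
    fun χ v => eigProj_mem (hd.z_add ρ) χ _
  have hsum : LinearMap.trace ℂ U M = ∑ χ : AddChar A ℂ,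
      LinearMap.trace ℂ (eigSpace (radZ u ρ) χ) ((eigProj (radZ u ρ) χ * M).restrict fun v _ => hmaps χ v) := by
    conv_lhs => rw [← one_mul M, ← sum_eigProj (hd.z_zero ρ), Finset.sum_mul, map_sum]
    exact Finset.sum_congr rfl fun χ _ => (LinearMap.trace_restrict_eq_of_forall_mem _ _ (hmaps χ)).symm
  rw [hsum, ← Finset.add_sum_erase _ _ (Finset.mem_univ (0 : AddChar A ℂ))]
  congr 1
  · congr 1
    refine LinearMap.ext fun v => Subtype.ext ?_
    exact eigProj_of_mem _ (hd.inv_mem ρ h v.2)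
  rw [Finset.card_eq_sum_ones, Nat.cast_sum, Finset.sum_filter]
  rw [← Finset.add_sum_erase _ _ (Finset.mem_univ (0 : AddChar A ℂ)), if_neg (fun h' => h'.1 rfl), zero_add]
  refine Finset.sum_congr rfl fun χ hχ => ?_
  have hχ0 := Finset.ne_of_mem_erase hχ
  by_cases hfix : χ.compAddMonoidHom (act h) = χ
  · rw [if_pos ⟨hχ0, hfix⟩, Nat.cast_one]
    have hone : (eigProj (radZ u ρ) χ * M).restrict (fun v _ => hmaps χ v) =
        (1 : Module.End ℂ (eigSpace (radZ u ρ) χ)) := by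
      refine LinearMap.ext fun v => Subtype.ext ?_
      show eigProj (radZ u ρ) χ (M v.1) = v.1
      obtain ⟨g, k, hg, hk, e⟩ := hcomm χ hχ0 hfix
      have hstable : ∀ l : H, χ.compAddMonoidHom (act l) = χ → ∃ c : ℂ, c ≠ 0 ∧
          ∀ w : eigSpace (radZ u ρ) χ, ρ (ι l⁻¹) w.1 = c • w.1 := by
        intro l hl
        have hmem : ∀ w, w ∈ eigSpace (radZ u ρ) χ → ρ (ι l⁻¹) w ∈ eigSpace (radZ u ρ) χ := fun w hw => by
          have := hd.inv_mem ρ l hw
          rwa [hl] at this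
        obtain ⟨b, hb0, hb⟩ := finrank_eq_one_iff'.1 (h1 χ hχ0)
        obtain ⟨c, hc⟩ := hb ⟨_, hmem b.1 b.2⟩
        have hc' : ρ (ι l⁻¹) b.1 = c • b.1 := (congrArg Subtype.val hc).symm
        refine ⟨c, fun h0 => hb0 (Subtype.ext ?_), fun w => ?_⟩
        · rw [h0, zero_smul] at hc'
          have := congrArg (ρ (ι l)) hc'
          rwa [← Module.End.mul_apply, ← _root_.map_mul, ← _root_.map_mul, mul_inv_cancel, _root_.map_one, _root_.map_one,
            _root_.map_zero, Module.End.one_apply] at this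
        · obtain ⟨d, rfl⟩ := hb w
          rw [Submodule.coe_smul, _root_.map_smul, hc', smul_comm]
      obtain ⟨c, hc0, hc⟩ := hstable g hg
      obtain ⟨d, hd0, hd'⟩ := hstable k hk
      have hfwd : ∀ (l : H) (c : ℂ), c ≠ 0 → (∀ w : eigSpace (radZ u ρ) χ, ρ (ι l⁻¹) w.1 = c • w.1) →
          ∀ w : eigSpace (radZ u ρ) χ, ρ (ι l) w.1 = c⁻¹ • w.1 := by
        intro l c hc0 hc w
        have := congrArg (ρ (ι l)) (hc w)
        rw [← Module.End.mul_apply, ← _root_.map_mul, ← _root_.map_mul, mul_inv_cancel, _root_.map_one, _root_.map_one,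
          Module.End.one_apply, _root_.map_smul] at this
        rw [eq_inv_smul_iff₀ hc0]
        exact this.symm
      have hMv : M v.1 = v.1 := by
        rw [hM, e, _root_.map_mul, _root_.map_mul, _root_.map_mul, _root_.map_mul, _root_.map_mul, _root_.map_mul,
          Module.End.mul_apply, Module.End.mul_apply, Module.End.mul_apply]
        simp only [hfwd k d hd0 hd', hfwd g c hc0 hc, _root_.map_smul, hd', hc, smul_smul]
        rw [show d⁻¹ * c⁻¹ * d * c = 1 by field_simp, one_smul]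
      rw [hMv]
      exact eigProj_of_mem χ v.2
    rw [hone, LinearMap.trace_one, h1 χ hχ0, Nat.cast_one]
  · rw [if_neg fun h' => hfix h'.2]
    have hzero : (eigProj (radZ u ρ) χ * M).restrict (fun v _ => hmaps χ v) =
        (0 : Module.End ℂ (eigSpace (radZ u ρ) χ)) := by
      refine LinearMap.ext fun v => Subtype.ext ?_
      show eigProj (radZ u ρ) χ (M v.1) = 0
      have hw := hd.inv_mem ρ h v.2
      set ξ := χ.compAddMonoidHom (act h)
      rw [eigProj, LinearMap.smul_apply, LinearMap.sum_apply,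
        Finset.sum_congr rfl fun a _ => show (χ (-a) • radZ u ρ a) (M v.1) = (χ (-a) * ξ a) • M v.1 by
          rw [LinearMap.smul_apply, smul_smul_eq_aux (hw a)],
        ← Finset.sum_smul]
      have hs : ∑ a, χ (-a) * ξ a = 0 := by
        have hne : (χ.compAddMonoidHom (-AddMonoidHom.id A)) * ξ ≠ 0 := by
          intro h0
          refine hfix (DFunLike.ext _ _ fun a => ?_)
          have h2 : χ (-a) * ξ a = 1 := by
            have := congrArg (fun f : AddChar A ℂ => f a) h0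
            simpa using this
          have h3 := χ.map_add_eq_mul a (-a)
          rw [add_neg_cancel, AddChar.map_zero_eq_one] at h3
          calc ξ a = χ a * χ (-a) * ξ a := by rw [← h3, one_mul]
            _ = χ a := by rw [mul_assoc, h2, mul_one]
        have := AddChar.sum_eq_ite ((χ.compAddMonoidHom (-AddMonoidHom.id A)) * ξ)
        rw [if_neg hne] at this
        simpa using this
      rw [hs, zero_smul, smul_zero]
    rw [hzero, _root_.map_zero]
where
  smul_smul_eq_aux {x y : U} {a b : ℂ} (e : x = b • y) : a • x = (a * b) • y := by rw [e, smul_smul]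

end Cfsg.Agent.Lib.MinDegree
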