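import Mathlib
import Cfsg.Agent.Lib.MinDegree.Radical
import Cfsg.Agent.Lib.MinDegree.LinearBase

/-!
`SL_{r+1}` and `GL_{r+1}` on a representation: the radical of a point stabiliser.
-/

set_option autoImplicit false

namespace Cfsg.Agent.Lib.MinDegree

open Classical Module Matrix

variable {F : Type*} [Field F]

theorem exists_notMem_line {r : ℕ} (hr : 2 ≤ r) (y : Fin r → F) : ∃ z, z ∉ Submodule.span F {y} := by
  by_contra h
  push Not at h
  have htop : Submodule.span F {y} = ⊤ := eq_top_iff.2 fun z _ => h z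
  have h1 : finrank F (Submodule.span F {y}) ≤ 1 := by
    simpa using finrank_span_le_card (R := F) ({y} : Set (Fin r → F))
  rw [htop, finrank_top, finrank_fin_fun] at h1
  omega

theorem pair_indep {ι : Type*} {x y : ι → F} (hx : x ≠ 0) (hy : y ∉ Submodule.span F {x}) :
    LinearIndependent F ![x, y] := by
  rw [LinearIndependent.pair_iff' hx]
  exact fun a h => hy (Submodule.mem_span_singleton.2 ⟨a, h⟩)

theorem sl_transitive {r : ℕ} (hr : 2 ≤ r) {y y' : Fin r → F} (hy : y ≠ 0) (hy' : y' ≠ 0) :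
    ∃ g : Matrix.SpecialLinearGroup (Fin r) F, g.1 *ᵥ y = y' := by
  have key : ∀ {a b : Fin r → F}, a ≠ 0 → b ∉ Submodule.span F {a} →
      ∃ g : Matrix.SpecialLinearGroup (Fin r) F, g.1 *ᵥ a = b := by
    intro a b ha hb
    obtain ⟨β, hβ⟩ := exists_dot (pair_indep ha hb) ![1, 1]
    have h0 : β ⬝ᵥ a = 1 := hβ 0
    have h1 : β ⬝ᵥ b = 1 := hβ 1
    refine ⟨trSL (b - a) β (by rw [dotProduct_sub, h0, h1, sub_self]), ?_⟩
    show trMat (b - a) β *ᵥ a = b
    rw [trMat_mulVec, h0, one_smul, add_sub_cancel]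
  by_cases hdep : y' ∈ Submodule.span F {y}
  · obtain ⟨z, hz⟩ := exists_notMem_line hr y
    obtain ⟨c, rfl⟩ := Submodule.mem_span_singleton.1 hdep
    have hc : c ≠ 0 := fun h => hy' (by rw [h, zero_smul])
    have hz0 : z ≠ 0 := fun h => hz (h ▸ zero_mem _)
    have hy'z : c • y ∉ Submodule.span F {z} := by
      intro h
      obtain ⟨d, hd⟩ := Submodule.mem_span_singleton.1 h
      have hd0 : d ≠ 0 := fun e => hy' (by rw [← hd, e, zero_smul])
      exact hz (Submodule.mem_span_singleton.2 ⟨d⁻¹ * c, by rw [mul_smul, ← hd, smul_smul, inv_mul_cancel₀ hd0, one_smul]⟩)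
    obtain ⟨g, hg⟩ := key hy hz
    obtain ⟨k, hk⟩ := key hz0 hy'z
    exact ⟨k * g, by rw [Matrix.SpecialLinearGroup.coe_mul, ← mulVec_mulVec, hg, hk]⟩
  · exact key hy hdep

variable {r : ℕ}

/-- The first basis vector. -/
def e0 : Fin (r + 1) → F := Fin.cons 1 0

theorem cons_zero_dot_e0 (w : Fin r → F) : (Fin.cons 0 w : Fin (r + 1) → F) ⬝ᵥ e0 = 0 := by
  simp [e0, dotProduct, Fin.sum_univ_succ]

/-- The radical in `SL`. -/
def uSL (w : Fin r → F) : Matrix.SpecialLinearGroup (Fin (r + 1)) F := trSL e0 (Fin.cons 0 w) (cons_zero_dot_e0 w)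

/-- The radical in `GL`. -/
def uGL (w : Fin r → F) : GL (Fin (r + 1)) F := Matrix.SpecialLinearGroup.toGL (uSL w)

theorem uSL_zero : uSL (0 : Fin r → F) = 1 := Subtype.ext (by
  show trMat _ (Fin.cons 0 0) = 1
  rw [show (Fin.cons 0 0 : Fin (r + 1) → F) = 0 by funext i; refine Fin.cases ?_ (fun _ => ?_) i <;> simp]
  simp [trMat])

theorem uSL_add (a b : Fin r → F) : uSL (a + b) = uSL a * uSL b := Subtype.ext (by
  show trMat _ _ = trMat _ _ * trMat _ _
  rw [trMat_add_right _ _ _ (cons_zero_dot_e0 a)]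
  congr 1
  funext i; refine Fin.cases ?_ (fun _ => ?_) i <;> simp)

theorem blk_mul_trMat (a : Fˣ) (A : GL (Fin r) F) (w : Fin r → F) :
    blk (a : F) A.val * trMat e0 (Fin.cons 0 w) = trMat e0 (Fin.cons 0 (rowAct a A w)) * blk (a : F) A.val := by
  rw [mul_trMat _ _ _ (Fin.cons 0 (w ᵥ* A⁻¹.val)) (by rw [vecMul_blk, zero_mul, vecMul_vecMul, A.inv_mul, vecMul_one])]
  congr 1
  rw [show blk (a : F) A.val *ᵥ e0 = (a : F) • e0 by
    rw [e0, blk_mulVec, mulVec_zero]
    funext i; refine Fin.cases ?_ (fun _ => ?_) i <;> simp, trMat_smul]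
  congr 1
  funext i; refine Fin.cases ?_ (fun _ => ?_) i <;> simp [rowAct]

variable [Fintype F]

theorem radData_SL (hr : 2 ≤ r) :
    RadData (uSL (F := F) (r := r)) levSL (fun A => rowAct (Matrix.GeneralLinearGroup.det A)⁻¹ A) where
  map_zero := uSL_zero
  map_add := uSL_add
  conj A w := Subtype.ext (blk_mul_trMat _ A w)
  trans φ χ hφ hχ := by
    obtain ⟨y, rfl⟩ := dotChar_bijective.2 φ
    obtain ⟨y', rfl⟩ := dotChar_bijective.2 χ
    obtain ⟨g, hg⟩ := sl_transitive hr (fun h => hχ ((dotChar_eq_zero_iff y').2 h)) (fun h => hφ ((dotChar_eq_zero_iff y).2 h))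
    refine ⟨Matrix.SpecialLinearGroup.toGL g, ?_⟩
    have hd : Matrix.GeneralLinearGroup.det (Matrix.SpecialLinearGroup.toGL g) = 1 := Units.ext g.2
    rw [dotChar_rowAct, hd, inv_one, Units.val_one, one_smul, ← hg, mulVec_mulVec]
    rw [show (Matrix.SpecialLinearGroup.toGL g)⁻¹.val * g.1 = 1 from (Matrix.SpecialLinearGroup.toGL g).inv_mul,
      one_mulVec]

theorem radData_GL (hr : 1 ≤ r) :
    RadData (uGL (F := F) (r := r)) levGL (fun x : Fˣ × GL (Fin r) F => rowAct x.1 x.2) where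
  map_zero := by rw [uGL, uSL_zero, map_one]
  map_add a b := by rw [uGL, uSL_add, map_mul]; rfl
  conj x w := Units.ext (blk_mul_trMat x.1 x.2 w)
  trans φ χ hφ hχ := by
    obtain ⟨y, rfl⟩ := dotChar_bijective.2 φ
    obtain ⟨y', rfl⟩ := dotChar_bijective.2 χ
    have hy : y ≠ 0 := fun h => hφ ((dotChar_eq_zero_iff y).2 h)
    have hy' : y' ≠ 0 := fun h => hχ ((dotChar_eq_zero_iff y').2 h)
    obtain ⟨e, he⟩ := exists_equiv_map (F := F) (f := fun _ : Fin 1 => y') (g := fun _ : Fin 1 => y)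
      (linearIndependent_unique_iff.2 hy') (linearIndependent_unique_iff.2 hy)
    let M : GL (Fin r) F :=
      ⟨LinearMap.toMatrix' e.toLinearMap, LinearMap.toMatrix' e.symm.toLinearMap,
        by rw [← LinearMap.toMatrix'_comp, LinearEquiv.comp_symm, LinearMap.toMatrix'_id],
        by rw [← LinearMap.toMatrix'_comp, LinearEquiv.symm_comp, LinearMap.toMatrix'_id]⟩
    have hM : M.val *ᵥ y' = y := (LinearMap.toMatrix'_mulVec _ _).trans (he 0)
    refine ⟨(1, M), ?_⟩
    rw [dotChar_rowAct, Units.val_one, one_smul, ← hM, mulVec_mulVec, M.inv_mul, one_mulVec]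

/-- Every transvection is conjugate under `SL` into the radical. -/
theorem exists_conj_uSL (hr : 1 ≤ r) {v φ : Fin (r + 1) → F} (hv : v ≠ 0) (hφ : φ ≠ 0) (h : φ ⬝ᵥ v = 0) :
    ∃ (g : Matrix.SpecialLinearGroup (Fin (r + 1)) F) (w : Fin r → F), w ≠ 0 ∧ g * trSL v φ h = uSL w * g := by
  obtain ⟨g, hg⟩ := sl_transitive (r := r + 1) (by omega) hv (y' := e0) (fun h0 => one_ne_zero (congrFun h0 0))
  have hgi : (g⁻¹).1 * g.1 = 1 := congrArg Subtype.val (inv_mul_cancel g)
  have h0 : (φ ᵥ* (g⁻¹).1) ⬝ᵥ e0 = 0 := by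
    rw [← hg, ← dotProduct_mulVec, mulVec_mulVec, hgi, one_mulVec, h]
  have hc : φ ᵥ* (g⁻¹).1 = Fin.cons 0 (Fin.tail (φ ᵥ* (g⁻¹).1)) := by
    have h1 : (φ ᵥ* (g⁻¹).1) 0 = 0 := by
      simpa [e0, dotProduct, Fin.sum_univ_succ] using h0
    rw [← h1, Fin.cons_self_tail]
  have hback : (φ ᵥ* (g⁻¹).1) ᵥ* g.1 = φ := by rw [vecMul_vecMul, hgi, vecMul_one]
  refine ⟨g, Fin.tail (φ ᵥ* (g⁻¹).1), fun h1 => hφ ?_, Subtype.ext ?_⟩
  · rw [← hback, hc, h1]
    rw [show (Fin.cons 0 0 : Fin (r + 1) → F) = 0 by funext i; refine Fin.cases ?_ (fun _ => ?_) i <;> simp, zero_vecMul]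
  · show g.1 * trMat v φ = trMat e0 (Fin.cons 0 _) * g.1
    rw [← hc, ← hg]
    exact mul_trMat _ _ _ _ hback

/-- The fixed non-zero characters of a transvection. -/
theorem card_fixed_chars {v φ : Fin r → F} (hv : v ≠ 0) (hφ : φ ≠ 0) (h : φ ⬝ᵥ v = 0) :
    (Finset.univ.filter fun χ : AddChar (Fin r → F) ℂ => χ ≠ 0 ∧
      χ.compAddMonoidHom (rowAct 1 (trGL v φ h)) = χ).card + 1 = Fintype.card F ^ (r - 1) := by
  classical
  have hiff : ∀ y, ((dotChar y).compAddMonoidHom (rowAct 1 (trGL v φ h)) = dotChar y ↔ φ ⬝ᵥ y = 0) := fun y => by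
    rw [dotChar_rowAct_eq_iff, trGL_val, trMat_mulVec, Units.val_one, one_smul, add_eq_left, smul_eq_zero,
      or_iff_left hv]
  have hr : 1 ≤ r := by
    by_contra h0
    obtain rfl : r = 0 := by omega
    exact hv (Subsingleton.elim _ _)
  set S := (Finset.univ : Finset (Fin r → F)).filter fun y => φ ⬝ᵥ y = 0 with hS
  have hc : (Finset.univ.filter fun χ : AddChar (Fin r → F) ℂ => χ ≠ 0 ∧
      χ.compAddMonoidHom (rowAct 1 (trGL v φ h)) = χ).card = (S.erase 0).card := by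
    refine (Finset.card_equiv (Equiv.ofBijective _ dotChar_bijective) fun y => ?_).symm
    simp [hS, hiff, dotChar_eq_zero_iff]
  rw [hc, Finset.card_erase_add_one (by simp [hS])]
  let L : (Fin r → F) →+ F := AddMonoidHom.mk' (fun y => φ ⬝ᵥ y) (dotProduct_add φ)
  have hsurj : Function.Surjective L := fun c => by
    obtain ⟨i, hi⟩ := Function.ne_iff.1 hφ
    refine ⟨Pi.single i (c / φ i), ?_⟩
    show φ ⬝ᵥ Pi.single i (c / φ i) = c
    rw [dotProduct_single, mul_div_cancel₀ _ hi]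
  have hk := L.ker.card_mul_index
  rw [AddSubgroup.index_ker, AddMonoidHom.range_eq_top.2 hsurj, AddSubgroup.card_top,
    Nat.card_eq_fintype_card (α := F), Nat.card_eq_fintype_card (α := Fin r → F), Fintype.card_fun, Fintype.card_fin] at hk
  have hSL : Nat.card L.ker = S.card := by
    rw [Nat.card_eq_fintype_card, Fintype.card_of_subtype S fun y => by simp [hS, L, AddMonoidHom.mem_ker]]
  rw [hSL, show Fintype.card F ^ r = Fintype.card F ^ (r - 1) * Fintype.card F by rw [← pow_succ, Nat.sub_add_cancel hr]] at hk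
  exact Nat.eq_of_mul_eq_mul_right Fintype.card_pos hk

end Cfsg.Agent.Lib.MinDegree
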