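import Mathlib
import Cfsg.Agent.Lib.Chars.Integral
import Cfsg.Agent.Lib.MinDegree.LinearStep

/-!
The transvection class of `SL_{r+1}`, the resulting divisibility, irreducible constituents, permutation
representations of two-transitive actions.
-/

set_option autoImplicit false

namespace Cfsg.Agent.Lib.MinDegree

open Classical Module Matrix

section General

variable {G : Type*} [Group G]

theorem exists_irreducible_moving [Finite G] {W : Type} [AddCommGroup W] [Module ℂ W] [FiniteDimensional ℂ W]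
    (ρ : Representation ℂ G W) {g : G} (hg : ρ g ≠ 1) :
    ∃ (k : ℕ) (σ : Representation ℂ G (Fin k → ℂ)), σ.IsIrreducible ∧ k ≤ finrank ℂ W ∧ σ g ≠ 1 := by
  suffices H : ∀ d, ∀ (W : Type) [AddCommGroup W] [Module ℂ W] [FiniteDimensional ℂ W] (ρ : Representation ℂ G W),
      finrank ℂ W ≤ d → ρ g ≠ 1 → ∃ (k : ℕ) (σ : Representation ℂ G (Fin k → ℂ)), σ.IsIrreducible ∧ k ≤ finrank ℂ W ∧ σ g ≠ 1 from
    H _ W ρ le_rfl hg
  intro d
  induction d with
  | zero =>
    intro W _ _ _ ρ hd hg
    haveI : Subsingleton W := Module.finrank_zero_iff.1 (Nat.le_zero.1 hd)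
    exact absurd (LinearMap.ext fun v => Subsingleton.elim _ _) hg
  | succ d ih =>
    intro W _ _ _ ρ hd hg
    haveI : Nontrivial W := by
      by_contra h
      haveI := not_nontrivial_iff_subsingleton.1 h
      exact hg (LinearMap.ext fun v => Subsingleton.elim _ _)
    by_cases hirr : ρ.IsIrreducible
    · refine ⟨finrank ℂ W, Chars.conjRep ρ (Module.finBasis ℂ W).equivFun,
        Chars.isIrreducible_of_equiv (Chars.conjRepEquiv ρ _), le_rfl, fun h => hg (LinearMap.ext fun v => ?_)⟩
      have := LinearMap.congr_fun h ((Module.finBasis ℂ W).equivFun v)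
      simp only [Chars.conjRep, MonoidHom.coe_mk, OneHom.coe_mk, LinearEquiv.conj_apply, LinearMap.comp_apply,
        LinearEquiv.coe_coe, LinearEquiv.symm_apply_apply, Module.End.one_apply] at this
      exact (Module.finBasis ℂ W).equivFun.injective this
    · haveI : Nontrivial (Subrepresentation ρ) :=
        ⟨⊥, ⊤, fun h => bot_ne_top (α := Submodule ℂ W) (congrArg Subrepresentation.toSubmodule h)⟩
      obtain ⟨S, hSb, hSt⟩ : ∃ S : Subrepresentation ρ, S ≠ ⊥ ∧ S ≠ ⊤ := by
        by_contra h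
        push Not at h
        exact hirr ⟨fun S => or_iff_not_imp_left.2 (h S)⟩
      obtain ⟨S', hS'⟩ := exists_isCompl S
      have hS't : S' ≠ ⊤ := fun h => hSb (eq_bot_iff.2 ((hS'.disjoint).le_bot.trans' (by rw [h, inf_top_eq])))
      have step : ∀ T : Subrepresentation ρ, T ≠ ⊤ → T.toRepresentation g ≠ 1 →
          ∃ (k : ℕ) (σ : Representation ℂ G (Fin k → ℂ)), σ.IsIrreducible ∧ k ≤ finrank ℂ W ∧ σ g ≠ 1 := by
        intro T hT hTg
        have hlt : finrank ℂ T.toSubmodule < finrank ℂ W :=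
          Submodule.finrank_lt fun h => hT (Subrepresentation.toSubmodule_injective h)
        obtain ⟨k, σ, h1, h2, h3⟩ := ih T.toSubmodule T.toRepresentation (by omega) hTg
        exact ⟨k, σ, h1, h2.trans hlt.le, h3⟩
      by_cases hSg : S.toRepresentation g = 1
      · refine step S' hS't fun hS'g => hg (LinearMap.ext fun v => ?_)
        have htop : S.toSubmodule ⊔ S'.toSubmodule = ⊤ :=
          congrArg Subrepresentation.toSubmodule (codisjoint_iff.1 hS'.codisjoint)
        obtain ⟨a, ha, b, hb, rfl⟩ := Submodule.mem_sup.1 (show v ∈ S.toSubmodule ⊔ S'.toSubmodule by rw [htop]; trivial)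
        have h1 : ρ g a = a := congrArg Subtype.val (LinearMap.congr_fun hSg ⟨a, ha⟩)
        have h2 : ρ g b = b := congrArg Subtype.val (LinearMap.congr_fun hS'g ⟨b, hb⟩)
        rw [map_add, h1, h2]
        rfl
      · exact step S hSt hSg

/-- In a two-transitive permutation representation an invariant subspace is small or large. -/
theorem two_transitive_invariant {X : Type*} [Fintype X] [DecidableEq X] [MulAction G X] [Finite G]
    (h2 : MulAction.IsMultiplyPretransitive G X 2) (S : Submodule ℂ (X → ℂ))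
    (hS : ∀ (g : G), ∀ f ∈ S, (fun x => f (g • x)) ∈ S) :
    (finrank ℂ S ≤ 1 ∧ ∀ f ∈ S, ∀ x y, f x = f y) ∨ ∀ x y : X, (Pi.single x (1 : ℂ) - Pi.single y 1) ∈ S := by
  classical
  haveI : Fintype G := Fintype.ofFinite G
  by_cases hc : ∀ f ∈ S, ∀ x y, f x = f y
  · refine Or.inl ⟨?_, hc⟩
    by_cases hX : Nonempty X
    · obtain ⟨x0⟩ := hX
      have hle : S ≤ Submodule.span ℂ {(fun _ => 1 : X → ℂ)} := fun f hf =>
        Submodule.mem_span_singleton.2 ⟨f x0, funext fun x => by rw [Pi.smul_apply, smul_eq_mul, mul_one]; exact hc f hf x0 x⟩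
      refine (Submodule.finrank_mono hle).trans ?_
      simpa using finrank_span_le_card (R := ℂ) ({(fun _ => 1 : X → ℂ)} : Set (X → ℂ))
    · haveI := not_nonempty_iff.1 hX
      haveI : Subsingleton S := ⟨fun a b => Subtype.ext (Subsingleton.elim _ _)⟩
      rw [Module.finrank_zero_of_subsingleton]
      omega
  right
  push Not at hc
  obtain ⟨f, hf, a, b, hab⟩ := hc
  have hp : MulAction.IsPretransitive G X := MulAction.isPretransitive_of_is_two_pretransitive (h2 := h2)
  set avg : X → (X → ℂ) := fun x => ∑ g ∈ (Finset.univ.filter fun g : G => g • x = x), fun z => f (g • z) with havg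
  have havgS : ∀ x, avg x ∈ S := fun x => Submodule.sum_mem _ fun g _ => hS g f hf
  obtain ⟨x0, hx0⟩ : ∃ x0, (Fintype.card X : ℂ) * f x0 ≠ ∑ z, f z := by
    by_contra h
    push Not at h
    have hX : (Fintype.card X : ℂ) ≠ 0 := Nat.cast_ne_zero.2 (Fintype.card_pos_iff.2 ⟨a⟩).ne'
    exact hab (mul_left_cancel₀ hX ((h a).trans (h b).symm))
  set c := avg x0 x0
  have hconst : ∀ y z : X, y ≠ x0 → z ≠ x0 → avg x0 y = avg x0 z := by
    intro y z hy hz
    obtain ⟨g, hg0, hgy⟩ := (MulAction.is_two_pretransitive_iff.1 h2 : ∀ {a b c d : X} (_ : a ≠ b) (_ : c ≠ d), ∃ g : G, g • a = c ∧ g • b = d) hy.symm hz.symm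
    simp only [havg, Finset.sum_apply]
    symm
    refine Finset.sum_equiv (Equiv.mulRight g) (fun l => ?_) fun l _ => ?_
    · simp only [Finset.mem_filter, Finset.mem_univ, true_and, Equiv.coe_mulRight, mul_smul, hg0]
    · simp only [Equiv.coe_mulRight, mul_smul, hgy]
  have hsum : ∑ z, avg x0 z = ((Finset.univ.filter fun g : G => g • x0 = x0).card : ℂ) * ∑ z, f z := by
    simp only [havg, Finset.sum_apply]
    rw [Finset.sum_comm, Finset.sum_congr rfl fun g _ => show ∑ z, f (g • z) = ∑ z, f z from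
      Fintype.sum_equiv (MulAction.toPerm g) _ _ fun z => rfl, Finset.sum_const, nsmul_eq_mul]
  have hval : c = ((Finset.univ.filter fun g : G => g • x0 = x0).card : ℂ) * f x0 := by
    simp only [c, havg, Finset.sum_apply]
    rw [Finset.sum_congr rfl fun g hg => by rw [(Finset.mem_filter.1 hg).2], Finset.sum_const, nsmul_eq_mul]
  obtain ⟨y0, hy0, hcy⟩ : ∃ y0, y0 ≠ x0 ∧ avg x0 y0 ≠ c := by
    by_contra h
    push Not at h
    have hall : ∀ z, avg x0 z = c := fun z => by
      by_cases hz : z = x0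
      · rw [hz]
      · exact h z hz
    rw [Finset.sum_congr rfl fun z _ => hall z, Finset.sum_const, nsmul_eq_mul, Finset.card_univ, hval, mul_left_comm] at hsum
    exact hx0 (mul_left_cancel₀ (Nat.cast_ne_zero.2 (Finset.card_pos.2
      ⟨(1 : G), by simp⟩).ne') hsum)
  intro x y
  obtain ⟨g, hg⟩ := hp.exists_smul_eq x x0
  obtain ⟨k, hk⟩ := hp.exists_smul_eq y x0
  have hform : ∀ z, avg x0 z = avg x0 y0 + (c - avg x0 y0) * if z = x0 then 1 else 0 := fun z => by
    by_cases hz : z = x0
    · rw [if_pos hz, hz]; ring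
    · rw [if_neg hz, hconst z y0 hz hy0]; ring
  have h1 := S.smul_mem (c - avg x0 y0)⁻¹ (S.sub_mem (hS g _ (havgS x0)) (hS k _ (havgS x0)))
  convert h1 using 1
  funext z
  have hne : c - avg x0 y0 ≠ 0 := sub_ne_zero.2 hcy.symm
  have e1 : g • z = x0 ↔ z = x := by rw [← hg]; exact (MulAction.toPerm g).injective.eq_iff
  have e2 : k • z = x0 ↔ z = y := by rw [← hk]; exact (MulAction.toPerm k).injective.eq_iff
  simp only [Pi.smul_apply, Pi.sub_apply, smul_eq_mul, hform (g • z), hform (k • z), Pi.single_apply, e1, e2]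
  field_simp
  ring

theorem aug_finrank {X : Type*} [Fintype X] [DecidableEq X] {S : Submodule ℂ (X → ℂ)}
    (h : ∀ x y : X, (Pi.single x (1 : ℂ) - Pi.single y 1) ∈ S) : Fintype.card X ≤ finrank ℂ S + 1 := by
  classical
  by_cases hX : Nonempty X
  · obtain ⟨x0⟩ := hX
    have hle : (⊤ : Submodule ℂ (X → ℂ)) ≤ S ⊔ Submodule.span ℂ {Pi.single x0 1} := fun f _ => by
      have : f = ∑ x, f x • (Pi.single x (1 : ℂ) - Pi.single x0 1) + (∑ x, f x) • (Pi.single x0 1 : X → ℂ) := by
        rw [Finset.sum_smul, ← Finset.sum_add_distrib]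
        simp only [smul_sub, sub_add_cancel]
        funext z
        simp [Finset.sum_apply, Pi.single_apply]
      rw [this]
      exact Submodule.add_mem_sup (Submodule.sum_mem _ fun x _ => S.smul_mem _ (h x x0))
        (Submodule.smul_mem _ _ (Submodule.mem_span_singleton_self _))
    have h1 := Submodule.finrank_mono hle
    rw [finrank_top, Module.finrank_fintype_fun_eq_card] at h1
    refine h1.trans ((Submodule.finrank_add_le_finrank_add_finrank _ _).trans (Nat.add_le_add_left ?_ _))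
    simpa using finrank_span_le_card (R := ℂ) ({Pi.single x0 1} : Set (X → ℂ))
  · haveI := not_nonempty_iff.1 hX
    simp

/-- An irreducible representation with a vector fixed by a point stabiliser of a two-transitive action. -/
theorem finrank_of_fixed_vector [Finite G] {X : Type*} [Fintype X] [MulAction G X]
    (h2 : MulAction.IsMultiplyPretransitive G X 2) {W : Type*} [AddCommGroup W] [Module ℂ W] [FiniteDimensional ℂ W]
    (ρ : Representation ℂ G W) [ρ.IsIrreducible] (x0 : X) {v : W} (hv : v ≠ 0)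
    (hfix : ∀ g : G, g • x0 = x0 → ρ g v = v) : finrank ℂ W ≤ 1 ∨ Fintype.card X ≤ finrank ℂ W + 1 := by
  classical
  haveI : Fintype G := Fintype.ofFinite G
  let Φ : (X → ℂ) →ₗ[ℂ] W :=
    { toFun := fun f => ∑ g : G, f (g • x0) • ρ g v
      map_add' := fun a b => by simp [add_smul, Finset.sum_add_distrib]
      map_smul' := fun c a => by simp [smul_smul, Finset.smul_sum] }
  have heq : ∀ (h : G) (f : X → ℂ), Φ (fun x => f (h • x)) = ρ h⁻¹ (Φ f) := fun h f => by
    show ∑ g : G, f (h • g • x0) • ρ g v = ρ h⁻¹ (∑ g : G, f (g • x0) • ρ g v)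
    rw [map_sum]
    refine Fintype.sum_equiv (Equiv.mulLeft h) _ _ fun g => ?_
    rw [Equiv.coe_mulLeft, map_smul, ← Module.End.mul_apply, ← map_mul, inv_mul_cancel_left, mul_smul]
  let R : Subrepresentation ρ := ⟨LinearMap.range Φ, fun g => by
    rintro _ ⟨f, rfl⟩
    refine ⟨fun x => f (g⁻¹ • x), ?_⟩
    rw [heq, inv_inv]⟩
  have hR : LinearMap.range Φ ≠ ⊥ := fun hb => by
    have h1 : Φ (Pi.single x0 1) = 0 := by
      have : Φ (Pi.single x0 1) ∈ LinearMap.range Φ := ⟨_, rfl⟩
      rwa [hb, Submodule.mem_bot] at this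
    have h2' : Φ (Pi.single x0 1) = ((Finset.univ.filter fun g : G => g • x0 = x0).card : ℂ) • v := by
      show ∑ g : G, (Pi.single x0 (1 : ℂ) : X → ℂ) (g • x0) • ρ g v = _
      rw [Finset.card_eq_sum_ones, Nat.cast_sum, Finset.sum_smul, Finset.sum_filter]
      refine Finset.sum_congr rfl fun g _ => ?_
      by_cases hg : g • x0 = x0
      · rw [if_pos hg, hg, Pi.single_eq_same, Nat.cast_one, hfix g hg]
      · rw [if_neg hg, Pi.single_eq_of_ne hg, zero_smul]
    rw [h2'] at h1
    rcases smul_eq_zero.1 h1 with h | h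
    · refine (Finset.card_pos.2 ⟨(1 : G), ?_⟩).ne' (Nat.cast_eq_zero.1 h)
      simp
    · exact hv h
  have hsurj : LinearMap.range Φ = ⊤ := by
    rcases IsSimpleOrder.eq_bot_or_eq_top R with h | h
    · exact absurd (congrArg Subrepresentation.toSubmodule h) hR
    · exact congrArg Subrepresentation.toSubmodule h
  have hk := Φ.finrank_range_add_finrank_ker
  rw [hsurj, finrank_top, Module.finrank_fintype_fun_eq_card] at hk
  rcases two_transitive_invariant h2 (LinearMap.ker Φ) (fun g f hf => by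
    rw [LinearMap.mem_ker] at hf ⊢
    rw [heq, hf, map_zero]) with ⟨h, -⟩ | h
  · exact Or.inr (by omega)
  · have := aug_finrank h
    exact Or.inl (by omega)

end General

section Class

variable {F : Type*} [Field F] [Fintype F]

theorem card_dot_ker [DecidableEq F] {n : ℕ} {φ : Fin n → F} (hφ : φ ≠ 0) :
    ((Finset.univ : Finset (Fin n → F)).filter fun y => φ ⬝ᵥ y = 0).card * Fintype.card F = Fintype.card F ^ n := by
  classical
  let L : (Fin n → F) →+ F := AddMonoidHom.mk' (fun y => φ ⬝ᵥ y) (dotProduct_add φ)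
  have hsurj : Function.Surjective L := fun c => by
    obtain ⟨i, hi⟩ := Function.ne_iff.1 hφ
    refine ⟨Pi.single i (c / φ i), ?_⟩
    show φ ⬝ᵥ Pi.single i (c / φ i) = c
    rw [dotProduct_single, mul_div_cancel₀ _ hi]
  have hk := L.ker.card_mul_index
  rw [AddSubgroup.index_ker, AddMonoidHom.range_eq_top.2 hsurj, AddSubgroup.card_top,
    Nat.card_eq_fintype_card (α := F), Nat.card_eq_fintype_card (α := Fin n → F), Fintype.card_fun, Fintype.card_fin] at hk
  rw [← hk, Nat.card_eq_fintype_card,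
    Fintype.card_of_subtype ((Finset.univ : Finset (Fin n → F)).filter fun y => φ ⬝ᵥ y = 0) fun y => by simp [L, AddMonoidHom.mem_ker]]

/-- The size of the transvection class. -/
theorem index_centralizer_trSL {r : ℕ} (hr : 2 ≤ r) {v φ : Fin (r + 1) → F} (hv : v ≠ 0) (hφ : φ ≠ 0) (h : φ ⬝ᵥ v = 0) :
    (Subgroup.centralizer ({trSL v φ h} : Set (Matrix.SpecialLinearGroup (Fin (r + 1)) F))).index * (Fintype.card F - 1) =
      (Fintype.card F ^ (r + 1) - 1) * (Fintype.card F ^ r - 1) := by
  classical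
  set P := (Finset.univ : Finset ((Fin (r + 1) → F) × (Fin (r + 1) → F))).filter
    fun p => p.1 ≠ 0 ∧ p.2 ≠ 0 ∧ p.2 ⬝ᵥ p.1 = 0 with hP
  set C := (Finset.univ : Finset (Matrix.SpecialLinearGroup (Fin (r + 1)) F)).filter (IsConj (trSL v φ h)) with hC
  set f : (Fin (r + 1) → F) × (Fin (r + 1) → F) → Matrix.SpecialLinearGroup (Fin (r + 1)) F := fun p =>
    if hp : p.2 ⬝ᵥ p.1 = 0 then trSL p.1 p.2 hp else 1 with hf
  have hidx : (Subgroup.centralizer ({trSL v φ h} : Set (Matrix.SpecialLinearGroup (Fin (r + 1)) F))).index = C.card := by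
    rw [← Chars.card_conjClass_eq_index, Nat.card_eq_fintype_card, Fintype.card_subtype]
  have huconj : ∀ w w' : Fin r → F, w ≠ 0 → w' ≠ 0 → IsConj (uSL w) (uSL w') := fun w w' hw hw' => by
    obtain ⟨g, hg⟩ := sl_transitive hr hw hw'
    let A : GL (Fin r) F := (Matrix.SpecialLinearGroup.toGL ⟨g.1ᵀ, by rw [det_transpose]; exact g.2⟩)⁻¹
    refine isConj_iff.2 ⟨levSL A, ?_⟩
    rw [mul_inv_eq_iff_eq_mul, (radData_SL hr).conj A w]
    congr 2
    show (((Matrix.GeneralLinearGroup.det A)⁻¹ : Fˣ) : F) • (w ᵥ* A⁻¹.val) = w'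
    rw [show Matrix.GeneralLinearGroup.det A = 1 by
      simp only [A, map_inv]
      rw [inv_eq_one]
      exact Units.ext (by show g.1ᵀ.det = 1; rw [det_transpose]; exact g.2), inv_one, Units.val_one, one_smul]
    simp only [A, inv_inv]
    show w ᵥ* g.1ᵀ = w'
    rw [vecMul_transpose, hg]
  have hmap : ∀ p ∈ P, f p ∈ C := fun p hp => by
    obtain ⟨-, h1, h2, h3⟩ := Finset.mem_filter.1 hp
    refine Finset.mem_filter.2 ⟨Finset.mem_univ _, ?_⟩
    simp only [hf, dif_pos h3]
    obtain ⟨g, w, hw, e⟩ := exists_conj_uSL (by omega) hv hφ h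
    obtain ⟨g', w', hw', e'⟩ := exists_conj_uSL (by omega) h1 h2 h3
    exact ((isConj_iff.2 ⟨g, by rw [e, mul_inv_cancel_right]⟩ : IsConj (trSL v φ h) (uSL w))).trans
      ((huconj w w' hw hw').trans (isConj_iff.2 ⟨g', by rw [e', mul_inv_cancel_right]⟩).symm)
  have hfib : ∀ x ∈ C, (P.filter fun p => f p = x).card = Fintype.card F - 1 := fun x hx => by
    obtain ⟨-, hx⟩ := Finset.mem_filter.1 hx
    obtain ⟨g, rfl⟩ := isConj_iff.1 hx
    set v1 := g.1 *ᵥ v with hv1
    set φ1 := φ ᵥ* (g⁻¹).1 with hφ1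
    have hgi : (g⁻¹).1 * g.1 = 1 := congrArg Subtype.val (inv_mul_cancel g)
    have h1 : φ1 ⬝ᵥ v1 = 0 := by rw [hφ1, hv1, ← dotProduct_mulVec, mulVec_mulVec, hgi, one_mulVec, h]
    have hx1 : g * trSL v φ h * g⁻¹ = trSL v1 φ1 h1 := by
      rw [mul_inv_eq_iff_eq_mul]
      exact Subtype.ext (mul_trMat _ _ _ _ (by rw [hφ1, vecMul_vecMul, hgi, vecMul_one]))
    have hv1' : v1 ≠ 0 := fun h0 => hv (by
      have := congrArg ((g⁻¹).1 *ᵥ ·) h0
      simpa [hv1, mulVec_mulVec, hgi, -Matrix.SpecialLinearGroup.coe_inv] using this)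
    have hφ1' : φ1 ≠ 0 := fun h0 => hφ (by
      have := congrArg (· ᵥ* g.1) h0
      simpa [hφ1, vecMul_vecMul, hgi, -Matrix.SpecialLinearGroup.coe_inv] using this)
    rw [hx1, ← Fintype.card_units, ← Finset.card_univ]
    symm
    refine Finset.card_bij (fun c _ => ((c : F) • v1, ((c⁻¹ : Fˣ) : F) • φ1)) (fun c _ => ?_) (fun c _ c' _ e => ?_) fun p hp => ?_
    · have hd : (((c⁻¹ : Fˣ) : F) • φ1) ⬝ᵥ ((c : F) • v1) = 0 := by rw [smul_dotProduct, dotProduct_smul, h1, smul_zero, smul_zero]
      refine Finset.mem_filter.2 ⟨Finset.mem_filter.2 ⟨Finset.mem_univ _, smul_ne_zero c.ne_zero hv1',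
        smul_ne_zero (c⁻¹).ne_zero hφ1', hd⟩, ?_⟩
      simp only [hf, dif_pos hd]
      refine Subtype.ext ?_
      show trMat _ _ = trMat _ _
      rw [trMat_smul, smul_smul, c.mul_inv, one_smul]
    · obtain ⟨i, hi⟩ := Function.ne_iff.1 hv1'
      exact Units.ext (mul_right_cancel₀ hi (congrFun (congrArg Prod.fst e) i))
    · obtain ⟨hp1, hp2⟩ := Finset.mem_filter.1 hp
      obtain ⟨-, a1, a2, a3⟩ := Finset.mem_filter.1 hp1
      simp only [hf, dif_pos a3] at hp2
      have hm : vecMulVec p.1 p.2 = vecMulVec v1 φ1 := trMat_eq_trMat_iff.1 (congrArg Subtype.val hp2)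
      obtain ⟨j, hj⟩ := Function.ne_iff.1 a2
      have hj' : φ1 j ≠ 0 := fun h0 => by
        obtain ⟨i, hi⟩ := Function.ne_iff.1 a1
        have := congrFun (congrFun hm i) j
        rw [vecMulVec_apply, vecMulVec_apply, h0, mul_zero] at this
        exact mul_ne_zero hi hj this
      have hp1' : p.1 = (φ1 j / p.2 j) • v1 := funext fun i => by
        have := congrFun (congrFun hm i) j
        rw [vecMulVec_apply, vecMulVec_apply] at this
        rw [Pi.smul_apply, smul_eq_mul, div_mul_eq_mul_div, eq_div_iff hj, this, mul_comm]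
      refine ⟨Units.mk0 _ (div_ne_zero hj' hj), Finset.mem_univ _, Prod.ext hp1'.symm (funext fun l => ?_)⟩
      obtain ⟨i, hi⟩ := Function.ne_iff.1 hv1'
      simp only [Pi.zero_apply] at hi hj
      have := congrFun (congrFun hm i) l
      rw [vecMulVec_apply, vecMulVec_apply, hp1', Pi.smul_apply, smul_eq_mul] at this
      show ((Units.mk0 _ (div_ne_zero hj' hj))⁻¹ : Fˣ).val * φ1 l = p.2 l
      rw [Units.val_inv_eq_inv_val, Units.val_mk0]
      refine mul_left_cancel₀ hi ?_
      rw [← mul_assoc, mul_comm (v1 i), mul_assoc, ← this]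
      field_simp
  have hcount := Finset.card_eq_sum_card_fiberwise hmap
  rw [Finset.sum_congr rfl hfib, Finset.sum_const, smul_eq_mul] at hcount
  rw [hidx, ← hcount]
  have hPc : P.card = ∑ a ∈ (Finset.univ : Finset (Fin (r + 1) → F)).erase 0,
      (((Finset.univ : Finset (Fin (r + 1) → F)).filter fun y => a ⬝ᵥ y = 0).erase 0).card := by
    rw [← Finset.card_sigma]
    refine Finset.card_bij (fun p _ => (⟨p.1, p.2⟩ : (_ : Fin (r + 1) → F) × (Fin (r + 1) → F))) (fun p hp => ?_)
      (fun p _ p' _ e => ?_) fun s hs => ?_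
    · obtain ⟨-, a1, a2, a3⟩ := Finset.mem_filter.1 hp
      simp [a1, a2, dotProduct_comm p.1, a3]
    · simp only [Sigma.mk.injEq, heq_eq_eq] at e
      exact Prod.ext e.1 e.2
    · simp only [Finset.mem_sigma, Finset.mem_erase, Finset.mem_filter, Finset.mem_univ, and_true, true_and] at hs
      refine ⟨(s.1, s.2), ?_, rfl⟩
      simp [hP, hs.1, hs.2.1, dotProduct_comm s.2, hs.2.2]
  rw [hPc, Finset.sum_congr rfl fun a ha => show _ = Fintype.card F ^ r - 1 by
    rw [Finset.card_erase_of_mem (by simp)]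
    congr 1
    have := card_dot_ker (Finset.ne_of_mem_erase ha)
    rw [pow_succ] at this
    exact Nat.eq_of_mul_eq_mul_right Fintype.card_pos this,
    Finset.sum_const, smul_eq_mul, Finset.card_erase_of_mem (Finset.mem_univ _), Finset.card_univ, Fintype.card_fun,
    Fintype.card_fin]

/-- The central character of the transvection class. -/
theorem dvd_class_mul_deficit {r : ℕ} {k : ℕ} (ρ : Representation ℂ (Matrix.SpecialLinearGroup (Fin (r + 1)) F) (Fin k → ℂ))
    [ρ.IsIrreducible] {v φ : Fin (r + 1) → F} (h : φ ⬝ᵥ v = 0) {D : ℕ}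
    (htr : LinearMap.trace ℂ _ (ρ (trSL v φ h)) + (D : ℂ) = k) :
    k ∣ (Subgroup.centralizer ({trSL v φ h} : Set (Matrix.SpecialLinearGroup (Fin (r + 1)) F))).index * D := by
  set C := (Subgroup.centralizer ({trSL v φ h} : Set (Matrix.SpecialLinearGroup (Fin (r + 1)) F))).index
  have hk : 0 < k := by
    have := Chars.finrank_pos_of_isIrreducible ρ
    rwa [Module.finrank_fin_fun] at this
  have hint := Chars.isIntegral_central_value ρ (trSL v φ h)
  rw [Module.finrank_fin_fun] at hint
  refine Chars.dvd_of_isIntegral_div hk.ne' ?_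
  have hc : (ρ.character (trSL v φ h) : ℂ) = (k : ℂ) - D := by
    rw [Representation.character, ← htr]; ring
  rw [hc] at hint
  have : (((C * D : ℕ) : ℂ)) / k = (C : ℂ) - (C : ℂ) * ((k : ℂ) - D) / k := by
    have : (k : ℂ) ≠ 0 := Nat.cast_ne_zero.2 hk.ne'
    push_cast
    field_simp
    ring
  rw [this]
  exact (isIntegral_algebraMap (R := ℤ) (A := ℂ) (x := (C : ℤ))).sub hint

end Class

end Cfsg.Agent.Lib.MinDegree
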