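import Mathlib
import Cfsg.Agent.Lib.MinDegree.LinearStep

/-!
Transvections as commutators inside character stabilisers, and the resulting recursion.
-/

set_option autoImplicit false

namespace Cfsg.Agent.Lib.MinDegree

open Classical Module Matrix

variable {F : Type*} [Field F] {r : ℕ}

theorem comm_shear {v x φ β : Fin r → F} (hφv : φ ⬝ᵥ v = 0) (hφx : φ ⬝ᵥ x = 0) (hβv : β ⬝ᵥ v = 0)
    (hβx : β ⬝ᵥ x = 1) :
    trGL v φ hφv = (trGL v β hβv)⁻¹ * (trGL x φ hφx)⁻¹ * trGL v β hβv * trGL x φ hφx := by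
  have key : (trGL x φ hφx)⁻¹ * trGL v β hβv =
      trGL v β hβv * trGL (v - x) φ (by rw [dotProduct_sub, hφv, hφx, sub_zero]) := by
    rw [trGL_inv]
    refine Units.ext ?_
    show trMat (-x) φ * trMat v β = trMat v β * trMat (v - x) φ
    rw [mul_trMat (trMat v β) (v - x) φ φ (by rw [trMat, vecMul_add, vecMul_one, vecMul_vecMulVec, hφv, zero_smul, add_zero])]
    congr 2
    rw [trMat_mulVec, dotProduct_sub, hβv, hβx, zero_sub, neg_one_smul]
    abel
  rw [mul_assoc (trGL v β hβv)⁻¹, key, inv_mul_cancel_left, trGL_mul_left]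
  exact Units.ext (by rw [trGL_val, trGL_val, sub_add_cancel])

theorem comm_torus {v φ : Fin r → F} (hφv : φ ⬝ᵥ v = 0) (g : GL (Fin r) F) {c e : F} (hc : c ≠ 0) (he : e ≠ 0)
    (hce : e ≠ c) (hgv : g.val *ᵥ v = c • v) (hgφ : φ ᵥ* g.val = e • φ) :
    ∃ s : F, ∃ hs : (s • φ) ⬝ᵥ v = 0, trGL v φ hφv = g⁻¹ * (trGL v (s • φ) hs)⁻¹ * g * trGL v (s • φ) hs := by
  have hne : 1 - e / c ≠ 0 := by
    rw [sub_ne_zero]
    intro h
    exact hce ((div_eq_one_iff_eq hc).1 h.symm)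
  set s : F := (1 - e / c)⁻¹ with hs
  have hsv : (s • φ) ⬝ᵥ v = 0 := by rw [smul_dotProduct, hφv, smul_zero]
  refine ⟨s, hsv, ?_⟩
  set t : F := -(e / c) * s with ht
  have hX : (t • φ) ⬝ᵥ v = 0 := by rw [smul_dotProduct, hφv, smul_zero]
  have key : (trGL v (s • φ) hsv)⁻¹ * g = g * trGL v (t • φ) hX := by
    rw [trGL_inv]
    refine Units.ext ?_
    show trMat (-v) (s • φ) * g.val = g.val * trMat v (t • φ)
    rw [mul_trMat g.val v (t • φ) ((t / e) • φ) (by rw [smul_vecMul, hgφ, smul_smul, div_mul_cancel₀ _ he]), hgv,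
      trMat_smul, ← neg_one_smul F v, trMat_smul, smul_smul, smul_smul, ht]
    congr 3
    field_simp
  rw [mul_assoc g⁻¹, key, inv_mul_cancel_left]
  refine Units.ext ?_
  show _ = trMat v _ * trMat v _
  rw [trMat_add_right _ _ _ hX, trGL_val, ← add_smul]
  congr 1
  rw [show t + s = (1 - e / c) * s by rw [ht]; ring, hs, mul_inv_cancel₀ hne, one_smul]

end Cfsg.Agent.Lib.MinDegree
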