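import Mathlib
import Cfsg.Agent.Lib.MinDegree.LinearComm

/-!
The recursion for representations of `SL_{r+1}` and `GL_{r+1}` non-trivial on transvections.
-/

set_option autoImplicit false

namespace Cfsg.Agent.Lib.MinDegree

open Classical Module Matrix

variable {F : Type*} [Field F] {r : ℕ}

theorem exists_ker_notMem {φ : Fin r → F} {κ : Type*} [Fintype κ] (f : κ → Fin r → F) (h : Fintype.card κ + 1 < r) :
    ∃ x, φ ⬝ᵥ x = 0 ∧ x ∉ Submodule.span F (Set.range f) := by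
  by_contra hne
  push Not at hne
  let L : (Fin r → F) →ₗ[F] F :=
    { toFun := fun z => φ ⬝ᵥ z, map_add' := dotProduct_add φ, map_smul' := fun c z => dotProduct_smul c φ z }
  have h1 : finrank F (LinearMap.ker L) ≤ Fintype.card κ :=
    (Submodule.finrank_mono (fun z hz => hne z hz)).trans (finrank_range_le_card f)
  have h2 := L.finrank_range_add_finrank_ker
  have h3 := Submodule.finrank_le (LinearMap.range L)
  rw [finrank_fin_fun] at h2
  rw [finrank_self] at h3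
  omega

variable [Fintype F]

theorem exists_unit_pow_ne_one {d : ℕ} (h : ¬ (Fintype.card F - 1) ∣ d) : ∃ c : Fˣ, (c : F) ^ d ≠ 1 := by
  classical
  obtain ⟨g, hg⟩ := IsCyclic.exists_generator (α := Fˣ)
  refine ⟨g, fun h1 => h ?_⟩
  rw [← Fintype.card_units, ← Nat.card_eq_fintype_card, ← orderOf_eq_card_of_forall_mem_zpowers hg,
    orderOf_dvd_iff_pow_eq_one]
  exact Units.ext (by rw [Units.val_pow_eq_pow_val, h1, Units.val_one])

/-- Inside the stabiliser of `y` a transvection is a commutator: the shear case. -/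
theorem exists_shear_pair {v φ y : Fin r → F} (hv : v ≠ 0) (hφv : φ ⬝ᵥ v = 0) (hφy : φ ⬝ᵥ y = 0)
    (hr : 4 ≤ r ∨ 3 ≤ r ∧ y ∈ Submodule.span F {v}) :
    ∃ g k : GL (Fin r) F, Matrix.GeneralLinearGroup.det g = 1 ∧ Matrix.GeneralLinearGroup.det k = 1 ∧
      g.val *ᵥ y = y ∧ k.val *ᵥ y = y ∧ trGL v φ hφv = g⁻¹ * k⁻¹ * g * k := by
  have hdet : ∀ (a b : Fin r → F) (h : b ⬝ᵥ a = 0), Matrix.GeneralLinearGroup.det (trGL a b h) = 1 := fun a b h =>
    Units.ext (trSL a b h).2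
  have mk : ∀ x β : Fin r → F, φ ⬝ᵥ x = 0 → ∀ hβv : β ⬝ᵥ v = 0, β ⬝ᵥ x = 1 → β ⬝ᵥ y = 0 →
      ∃ g k : GL (Fin r) F, Matrix.GeneralLinearGroup.det g = 1 ∧ Matrix.GeneralLinearGroup.det k = 1 ∧
        g.val *ᵥ y = y ∧ k.val *ᵥ y = y ∧ trGL v φ hφv = g⁻¹ * k⁻¹ * g * k := fun x β hx hβv hβx hβy =>
    ⟨trGL v β hβv, trGL x φ hx, hdet _ _ _, hdet _ _ _, by rw [trGL_val, trMat_mulVec, hβy, zero_smul, add_zero],
      by rw [trGL_val, trMat_mulVec, hφy, zero_smul, add_zero], comm_shear hφv hx hβv hβx⟩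
  by_cases hy : y ∈ Submodule.span F {v}
  · obtain ⟨x, hx, hxs⟩ := exists_ker_notMem (φ := φ) (fun _ : Fin 1 => v) (by simp; omega)
    rw [Set.range_const] at hxs
    obtain ⟨β, hβ⟩ := exists_dot (pair_indep hv hxs) ![0, 1]
    obtain ⟨s, rfl⟩ := Submodule.mem_span_singleton.1 hy
    exact mk x β hx (hβ 0) (hβ 1) (by rw [dotProduct_smul, show β ⬝ᵥ v = 0 from hβ 0, smul_zero])
  · have hr4 : 4 ≤ r := hr.resolve_right fun h => hy h.2
    obtain ⟨x, hx, hxs⟩ := exists_ker_notMem (φ := φ) ![v, y] (by simp; omega)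
    obtain ⟨β, hβ⟩ := exists_dot (f := Fin.cons x ![v, y])
      (linearIndependent_finCons.2 ⟨pair_indep hv hy, hxs⟩) ![1, 0, 0]
    exact mk x β hx (hβ 1) (hβ 0) (hβ 2)

omit [Fintype F] in
theorem dot_val {φ : Fin r → F} (hφ : φ ≠ 0) : ∃ x, φ ⬝ᵥ x = 1 := by
  obtain ⟨i, hi⟩ := Function.ne_iff.1 hφ
  exact ⟨Pi.single i (φ i)⁻¹, by rw [dotProduct_single, mul_inv_cancel₀ hi]⟩

omit [Fintype F] in
theorem vecMul_dilGL (u β : Fin r → F) (h : β ⬝ᵥ u = 1) (c : Fˣ) (φ : Fin r → F) :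
    φ ᵥ* (dilGL u β h c).val = φ + (((c : F) - 1) * (φ ⬝ᵥ u)) • β := by
  rw [show (dilGL u β h c).val = trMat (((c : F) - 1) • u) β from rfl, trMat, vecMul_add, vecMul_one, vecMul_vecMulVec,
    dotProduct_smul, smul_eq_mul]

/-- Inside the stabiliser of a character of the radical of `SL_{r+1}`. -/
theorem exists_pair_SL (hr : 2 ≤ r) (h2 : r = 2 → Fintype.card F ≠ 2 ∧ Fintype.card F ≠ 4)
    (h3 : r = 3 → 4 ≤ Fintype.card F) {v φ y : Fin r → F} (hv : v ≠ 0) (hφ : φ ≠ 0) (hφv : φ ⬝ᵥ v = 0)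
    (hφy : φ ⬝ᵥ y = 0) :
    ∃ g k : GL (Fin r) F, g.val *ᵥ y = (((Matrix.GeneralLinearGroup.det g)⁻¹ : Fˣ) : F) • y ∧
      k.val *ᵥ y = (((Matrix.GeneralLinearGroup.det k)⁻¹ : Fˣ) : F) • y ∧ trGL v φ hφv = g⁻¹ * k⁻¹ * g * k := by
  by_cases hshear : 4 ≤ r ∨ 3 ≤ r ∧ y ∈ Submodule.span F {v}
  · obtain ⟨g, k, hg, hk, hgy, hky, e⟩ := exists_shear_pair hv hφv hφy hshear
    exact ⟨g, k, by rw [hg, inv_one, Units.val_one, one_smul, hgy], by rw [hk, inv_one, Units.val_one, one_smul, hky], e⟩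
  push Not at hshear
  obtain ⟨x, hx⟩ := dot_val hφ
  have fin : ∀ (β : Fin r → F) (hβ : β ⬝ᵥ v = 1) (c e : Fˣ), (e : F) ≠ c →
      (dilGL v β hβ c * dilGL x φ hx e).val *ᵥ y = ((c * e)⁻¹ : Fˣ).val • y →
      ∃ g k : GL (Fin r) F, g.val *ᵥ y = (((Matrix.GeneralLinearGroup.det g)⁻¹ : Fˣ) : F) • y ∧
        k.val *ᵥ y = (((Matrix.GeneralLinearGroup.det k)⁻¹ : Fˣ) : F) • y ∧ trGL v φ hφv = g⁻¹ * k⁻¹ * g * k := by
    intro β hβ c e hce hgy
    obtain ⟨s, hs, he⟩ := comm_torus hφv (dilGL v β hβ c * dilGL x φ hx e) (c := (c : F)) (e := (e : F))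
      c.ne_zero e.ne_zero hce
      (by rw [Units.val_mul, ← mulVec_mulVec, dilGL_mulVec, dilGL_mulVec, hφv, zero_mul, zero_smul, add_zero, hβ, one_mul,
        ← one_smul F v, smul_smul, ← add_smul, one_smul, mul_one, add_sub_cancel])
      (by rw [Units.val_mul, ← vecMul_vecMul, vecMul_dilGL v, hφv, mul_zero, zero_smul, add_zero, vecMul_dilGL x, hx, mul_one,
        ← one_smul F φ, smul_smul, ← add_smul, one_smul, mul_one, add_sub_cancel])
    refine ⟨_, _, ?_, ?_, he⟩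
    · have hd : Matrix.GeneralLinearGroup.det (dilGL v β hβ c * dilGL x φ hx e) = c * e := by
        rw [map_mul]
        exact congrArg₂ (· * ·) (Units.ext (det_dilGL v β hβ c)) (Units.ext (det_dilGL x φ hx e))
      rw [hd]
      exact hgy
    · rw [show Matrix.GeneralLinearGroup.det (trGL v (s • φ) hs) = 1 from Units.ext (trSL _ _ hs).2, inv_one,
        Units.val_one, one_smul, trGL_val, trMat_mulVec, smul_dotProduct, hφy, smul_zero, zero_smul, add_zero]
  rcases (show r = 2 ∨ r = 3 by omega) with hr2 | hr3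
  · subst hr2
    have hys : y ∈ Submodule.span F {v} := by
      by_contra hy
      exact absurd hy fun hy => by
        have hspan := (pair_indep hv hy).span_eq_top_of_card_eq_finrank (by simp)
        obtain ⟨i, hi⟩ := Function.ne_iff.1 hφ
        have : ∀ w, φ ⬝ᵥ w = 0 := fun w => by
          have hmem : w ∈ Submodule.span F (Set.range ![v, y]) := by rw [hspan]; trivial
          induction hmem using Submodule.span_induction with
          | mem z hz => obtain ⟨j, rfl⟩ := hz; fin_cases j <;> assumption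
          | zero => exact dotProduct_zero φ
          | add a b _ _ ha hb => rw [dotProduct_add, ha, hb, add_zero]
          | smul a b _ hb => rw [dotProduct_smul, hb, smul_zero]
        have h1 := this (Pi.single i 1)
        rw [dotProduct_single, mul_one] at h1
        exact hi h1
    obtain ⟨β, hβ⟩ := dot_val' hv
    have hq : ¬ (Fintype.card F - 1) ∣ 3 := fun hd => by
      have := Fintype.one_lt_card (α := F)
      rcases (Nat.dvd_prime Nat.prime_three).1 hd with h | h <;> have := h2 rfl <;> omega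
    obtain ⟨a, ha⟩ := exists_unit_pow_ne_one hq
    refine fin β hβ a (a * a)⁻¹ (fun h => ha ?_) ?_
    · calc (a : F) ^ 3 = (a : F) * ((a * a : Fˣ) : F) := by rw [Units.val_mul]; ring
        _ = 1 := by rw [← h, Units.inv_mul]
    · obtain ⟨s, rfl⟩ := Submodule.mem_span_singleton.1 hys
      rw [show (a * (a * a)⁻¹)⁻¹ = a by group, Units.val_mul, ← mulVec_mulVec, dilGL_mulVec, dilGL_mulVec, dotProduct_smul,
        hφv, smul_zero, zero_mul, zero_smul, add_zero, dotProduct_smul, hβ, smul_smul, ← add_smul]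
      congr 1
      simp only [smul_eq_mul, mul_one]
      ring
  · subst hr3
    have hyv : y ∉ Submodule.span F {v} := hshear.2 (le_refl _)
    obtain ⟨β, hβ⟩ := exists_dot (pair_indep hv hyv) ![1, 0]
    have hq : ¬ (Fintype.card F - 1) ∣ 2 := fun hd => by
      have := Nat.le_of_dvd (by norm_num) hd
      have := h3 rfl
      omega
    obtain ⟨c, hc⟩ := exists_unit_pow_ne_one hq
    have hβ0 : β ⬝ᵥ v = 1 := hβ 0
    refine fin β hβ0 c c⁻¹ (fun h => hc ?_) ?_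
    · rw [pow_two]
      nth_rw 1 [← h]
      exact c.inv_mul
    · rw [mul_inv_cancel, inv_one, Units.val_one, one_smul, Units.val_mul, ← mulVec_mulVec, dilGL_mulVec x, hφy, zero_mul,
        zero_smul, add_zero, dilGL_mulVec v, show β ⬝ᵥ y = 0 from hβ 1, zero_mul, zero_smul, add_zero]
where
  dot_val' {v : Fin 2 → F} (hv : v ≠ 0) : ∃ β, β ⬝ᵥ v = 1 := by
    obtain ⟨x, hx⟩ := dot_val hv
    exact ⟨x, by rw [dotProduct_comm, hx]⟩

/-- Inside the stabiliser of a character of the radical of `GL_{r+1}`, `q ≥ 3`. -/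
theorem exists_pair_GL (hq : 3 ≤ Fintype.card F) {v φ y : Fin r → F} (hv : v ≠ 0) (hφv : φ ⬝ᵥ v = 0)
    (hφy : φ ⬝ᵥ y = 0) :
    ∃ g k : Fˣ × GL (Fin r) F, g.2.val *ᵥ y = (g.1 : F) • y ∧ k.2.val *ᵥ y = (k.1 : F) • y ∧
      (((1 : Fˣ), trGL v φ hφv) : Fˣ × GL (Fin r) F) = g⁻¹ * k⁻¹ * g * k := by
  obtain ⟨c, hc⟩ : ∃ c : Fˣ, (c : F) ≠ 1 := by
    obtain ⟨c, hc⟩ := exists_unit_pow_ne_one (F := F) (d := 1) fun hd => by
      have := Nat.le_of_dvd one_pos hd
      omega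
    exact ⟨c, by rwa [pow_one] at hc⟩
  have fin : ∀ (β : Fin r → F) (hβ : β ⬝ᵥ v = 1) (a : Fˣ), (dilGL v β hβ c).val *ᵥ y = (a : F) • y →
      ∃ g k : Fˣ × GL (Fin r) F, g.2.val *ᵥ y = (g.1 : F) • y ∧ k.2.val *ᵥ y = (k.1 : F) • y ∧
        (((1 : Fˣ), trGL v φ hφv) : Fˣ × GL (Fin r) F) = g⁻¹ * k⁻¹ * g * k := by
    intro β hβ a hay
    obtain ⟨s, hs, he⟩ := comm_torus hφv (dilGL v β hβ c) (c := (c : F)) (e := 1) c.ne_zero one_ne_zero hc.symm
      (by rw [dilGL_mulVec, hβ, one_mul, ← one_smul F v, smul_smul, ← add_smul, one_smul, mul_one, add_sub_cancel])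
      (by rw [vecMul_dilGL, hφv, mul_zero, zero_smul, add_zero, one_smul])
    refine ⟨(a, dilGL v β hβ c), (1, trGL v (s • φ) hs), hay, ?_, Prod.ext ?_ he⟩
    · rw [Units.val_one, one_smul, trGL_val, trMat_mulVec, smul_dotProduct, hφy, smul_zero, zero_smul, add_zero]
    · show (1 : Fˣ) = a⁻¹ * 1⁻¹ * a * 1
      rw [inv_one, mul_one, mul_one, inv_mul_cancel]
  by_cases hy : y ∈ Submodule.span F {v}
  · obtain ⟨x, hx⟩ := dot_val hv
    obtain ⟨s, rfl⟩ := Submodule.mem_span_singleton.1 hy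
    refine fin x (by rw [dotProduct_comm, hx]) c ?_
    rw [dilGL_mulVec, dotProduct_smul, dotProduct_comm, hx, smul_smul, ← add_smul, smul_eq_mul]
    congr 1
    ring
  · obtain ⟨β, hβ⟩ := exists_dot (pair_indep hv hy) ![1, 0]
    have hβ0 : β ⬝ᵥ v = 1 := hβ 0
    refine fin β hβ0 1 ?_
    rw [dilGL_mulVec, show β ⬝ᵥ y = 0 from hβ 1, zero_mul, zero_smul, add_zero, Units.val_one, one_smul]

end Cfsg.Agent.Lib.MinDegree
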