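import Mathlib
import Cfsg.Agent.Lib.MinDegree.LinearRec

/-!
Degree, transvection trace and the trace of the fixed space for representations of `SL_{r+1}` and `GL_{r+1}`.
-/

set_option autoImplicit false

namespace Cfsg.Agent.Lib.MinDegree

open Classical Module Matrix

variable {F : Type*} [Field F] [Fintype F] {r : ℕ} {U : Type*} [AddCommGroup U] [Module ℂ U]

/-- Non-trivial on some transvection of `GL`. -/
def MovesTrGL {n : ℕ} (ρ : GL (Fin n) F →* Module.End ℂ U) : Prop :=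
  ∃ (v φ : Fin n → F) (h : φ ⬝ᵥ v = 0), ρ (trGL v φ h) ≠ 1

/-- Non-trivial on some transvection of `SL`. -/
def MovesTrSL {n : ℕ} (ρ : Matrix.SpecialLinearGroup (Fin n) F →* Module.End ℂ U) : Prop :=
  ∃ (v φ : Fin n → F) (h : φ ⬝ᵥ v = 0), ρ (trSL v φ h) ≠ 1

theorem trace_eq_of_conj {G : Type*} [Group G] (ρ : G →* Module.End ℂ U) {g x y : G} (h : g * x = y * g) :
    LinearMap.trace ℂ U (ρ x) = LinearMap.trace ℂ U (ρ y) := by
  have e : y = g * x * g⁻¹ := by rw [h, mul_inv_cancel_right]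
  rw [e, map_mul, LinearMap.trace_mul_comm, ← map_mul]
  congr 2
  group

theorem rep_eq_one_of_conj {G : Type*} [Group G] (ρ : G →* Module.End ℂ U) {g x y : G} (h : g * x = y * g)
    (hy : ρ y = 1) : ρ x = 1 := by
  have e : x = g⁻¹ * y * g := by rw [mul_assoc, ← h, inv_mul_cancel_left]
  rw [e, map_mul, map_mul, hy, mul_one, ← map_mul, inv_mul_cancel, map_one]

theorem trSL_ne {n : ℕ} {v φ : Fin n → F} {h : φ ⬝ᵥ v = 0} {G : Type*} [Group G]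
    (f : Matrix.SpecialLinearGroup (Fin n) F →* G) (hne : f (trSL v φ h) ≠ 1) : v ≠ 0 ∧ φ ≠ 0 := by
  constructor <;> intro h0 <;> apply hne <;>
  · have : trSL v φ h = 1 := Subtype.ext (by subst h0; show trMat _ _ = 1; simp [trMat])
    rw [this, map_one]

variable [FiniteDimensional ℂ U]

theorem sl_mult (hr : 2 ≤ r) (ρ : Matrix.SpecialLinearGroup (Fin (r + 1)) F →* Module.End ℂ U) (hne : MovesTrSL ρ) :
    ∃ m : ℕ, 1 ≤ m ∧ (∀ χ : AddChar (Fin r → F) ℂ, χ ≠ 0 → finrank ℂ (eigSpace (radZ uSL ρ) χ) = m) ∧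
      finrank ℂ U = finrank ℂ (eigSpace (radZ uSL ρ) (0 : AddChar (Fin r → F) ℂ)) + m * (Fintype.card F ^ r - 1) ∧
      ∀ (v φ : Fin (r + 1) → F) (h : φ ⬝ᵥ v = 0), v ≠ 0 → φ ≠ 0 →
        LinearMap.trace ℂ U (ρ (trSL v φ h)) = (finrank ℂ (eigSpace (radZ uSL ρ) (0 : AddChar (Fin r → F) ℂ)) : ℂ) - m := by
  classical
  obtain ⟨m, hm, hk, htr, hm1⟩ := (radData_SL (F := F) hr).exists_mult ρ
  obtain ⟨v, φ, h, hvφ⟩ := hne
  obtain ⟨hv, hφ⟩ : v ≠ 0 ∧ φ ≠ 0 := by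
    constructor <;> intro h0 <;> apply hvφ <;>
    · have : trSL v φ h = 1 := Subtype.ext (by subst h0; show trMat _ _ = 1; simp [trMat])
      rw [this, map_one]
  refine ⟨m, hm1 ?_, hm, ?_, fun v φ h hv hφ => ?_⟩
  · obtain ⟨g, w, -, hw⟩ := exists_conj_uSL (by omega) hv hφ h
    exact ⟨w, fun h1 => hvφ (rep_eq_one_of_conj ρ hw h1)⟩
  · rw [hk, Fintype.card_fun, Fintype.card_fin]
  · obtain ⟨g, w, hw0, hw⟩ := exists_conj_uSL (by omega) hv hφ h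
    rw [trace_eq_of_conj ρ hw, htr w hw0]

theorem levSL_trGL (v φ : Fin r → F) (h : φ ⬝ᵥ v = 0) :
    levSL (trGL v φ h) = trSL (Fin.cons 0 v) (Fin.cons 0 φ) (by
      simpa [dotProduct, Fin.sum_univ_succ] using h) := by
  refine Subtype.ext ?_
  show blk _ _ = trMat _ _
  rw [show Matrix.GeneralLinearGroup.det (trGL v φ h) = 1 from Units.ext (trSL v φ h).2, inv_one, Units.val_one, trGL_val,
    blk_trMat]

theorem cons_zero_ne_zero {v : Fin r → F} (hv : v ≠ 0) : (Fin.cons 0 v : Fin (r + 1) → F) ≠ 0 := fun h0 =>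
  hv (by funext i; simpa using congrFun h0 i.succ)

/-- With multiplicity one the fixed space has transvection deficit `q^(r-1)`. -/
theorem sl_fixed_trace (hr : 2 ≤ r) (h2 : r = 2 → Fintype.card F ≠ 2 ∧ Fintype.card F ≠ 4)
    (h3 : r = 3 → 4 ≤ Fintype.card F) (ρ : Matrix.SpecialLinearGroup (Fin (r + 1)) F →* Module.End ℂ U)
    (hne : MovesTrSL ρ)
    (h1 : ∀ χ : AddChar (Fin r → F) ℂ, χ ≠ 0 → finrank ℂ (eigSpace (radZ uSL ρ) χ) = 1)
    {v φ : Fin r → F} (hv : v ≠ 0) (hφ : φ ≠ 0) (h : φ ⬝ᵥ v = 0) :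
    LinearMap.trace ℂ _ ((radData_SL (F := F) hr).fixedRep ρ (trGL v φ h)) + (Fintype.card F ^ (r - 1) : ℕ) =
      (finrank ℂ (eigSpace (radZ uSL ρ) (0 : AddChar (Fin r → F) ℂ)) : ℂ) := by
  classical
  obtain ⟨m, hm1, hm, -, htr⟩ := sl_mult hr ρ hne
  have hm_eq : m = 1 := by
    obtain ⟨χ, hχ⟩ : ∃ χ : AddChar (Fin r → F) ℂ, χ ≠ 0 :=
      ⟨dotChar v, fun h => hv ((dotChar_eq_zero_iff v).1 h)⟩
    rw [← hm χ hχ, h1 χ hχ]
  set hh : GL (Fin r) F := trGL (-v) φ (by rw [dotProduct_neg, h, neg_zero]) with hh_def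
  have hinv : hh⁻¹ = trGL v φ h := by
    rw [hh_def, trGL_inv]
    congr 1
    exact neg_neg v
  have hdet : ∀ (a b : Fin r → F) (hab : b ⬝ᵥ a = 0), (Matrix.GeneralLinearGroup.det (trGL a b hab))⁻¹ = 1 :=
    fun a b hab => by rw [show Matrix.GeneralLinearGroup.det (trGL a b hab) = 1 from Units.ext (trSL a b hab).2, inv_one]
  have hfix := (radData_SL (F := F) hr).trace_eq_fixed ρ h1 hh fun χ hχ hf => by
    obtain ⟨y, rfl⟩ := dotChar_bijective.2 χ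
    rw [hh_def, hdet, dotChar_rowAct_eq_iff, trGL_val, trMat_mulVec, Units.val_one, one_smul, add_eq_left,
      smul_eq_zero, or_iff_left (neg_ne_zero.2 hv)] at hf
    obtain ⟨g, k, hg, hk, he⟩ := exists_pair_SL hr h2 h3 hv hφ h hf
    exact ⟨g, k, (dotChar_rowAct_eq_iff _ g y).2 hg, (dotChar_rowAct_eq_iff _ k y).2 hk, by rw [hinv]; exact he⟩
  have hcard := card_fixed_chars (neg_ne_zero.2 hv) hφ (show φ ⬝ᵥ (-v) = 0 by rw [dotProduct_neg, h, neg_zero])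
  rw [hinv, levSL_trGL, htr _ _ _ (cons_zero_ne_zero hv) (cons_zero_ne_zero hφ), hm_eq] at hfix
  rw [← hcard, Nat.cast_add, Nat.cast_one]
  have heq : (Finset.univ.filter fun χ : AddChar (Fin r → F) ℂ => χ ≠ 0 ∧
      χ.compAddMonoidHom (rowAct (Matrix.GeneralLinearGroup.det hh)⁻¹ hh) = χ) =
    (Finset.univ.filter fun χ : AddChar (Fin r → F) ℂ => χ ≠ 0 ∧ χ.compAddMonoidHom (rowAct 1 hh) = χ) := by
    rw [hh_def, hdet]
  rw [heq] at hfix
  push_cast at hfix ⊢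
  linear_combination -hfix

theorem gl_mult (hr : 1 ≤ r) (ρ : GL (Fin (r + 1)) F →* Module.End ℂ U) (hne : MovesTrGL ρ) :
    ∃ m : ℕ, 1 ≤ m ∧ (∀ χ : AddChar (Fin r → F) ℂ, χ ≠ 0 → finrank ℂ (eigSpace (radZ uGL ρ) χ) = m) ∧
      finrank ℂ U = finrank ℂ (eigSpace (radZ uGL ρ) (0 : AddChar (Fin r → F) ℂ)) + m * (Fintype.card F ^ r - 1) ∧
      ∀ (v φ : Fin (r + 1) → F) (h : φ ⬝ᵥ v = 0), v ≠ 0 → φ ≠ 0 →
        LinearMap.trace ℂ U (ρ (trGL v φ h)) = (finrank ℂ (eigSpace (radZ uGL ρ) (0 : AddChar (Fin r → F) ℂ)) : ℂ) - m := by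
  classical
  obtain ⟨m, hm, hk, htr, hm1⟩ := (radData_GL (F := F) hr).exists_mult ρ
  obtain ⟨v, φ, h, hvφ⟩ := hne
  obtain ⟨hv, hφ⟩ := trSL_ne (ρ.toHomUnits.comp Matrix.SpecialLinearGroup.toGL) (h := h) fun h0 => hvφ (by
    have := congrArg Units.val h0
    exact this)
  refine ⟨m, hm1 ?_, hm, ?_, fun v φ h hv hφ => ?_⟩
  · obtain ⟨g, w, -, hw⟩ := exists_conj_uSL hr hv hφ h
    refine ⟨w, fun h1 => hvφ (rep_eq_one_of_conj ρ (g := Matrix.SpecialLinearGroup.toGL g) ?_ h1)⟩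
    rw [trGL, uGL, ← map_mul, hw, map_mul]
  · rw [hk, Fintype.card_fun, Fintype.card_fin]
  · obtain ⟨g, w, hw0, hw⟩ := exists_conj_uSL hr hv hφ h
    rw [trace_eq_of_conj ρ (g := Matrix.SpecialLinearGroup.toGL g) (y := uGL w) (by rw [trGL, uGL, ← map_mul, hw, map_mul]),
      htr w hw0]

/-- With multiplicity one, `q ≥ 3`, the fixed space has transvection deficit `q^(r-1)`. -/
theorem gl_fixed_trace (hr : 1 ≤ r) (hq : 3 ≤ Fintype.card F) (ρ : GL (Fin (r + 1)) F →* Module.End ℂ U)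
    (hne : MovesTrGL ρ)
    (h1 : ∀ χ : AddChar (Fin r → F) ℂ, χ ≠ 0 → finrank ℂ (eigSpace (radZ uGL ρ) χ) = 1)
    {v φ : Fin r → F} (hv : v ≠ 0) (hφ : φ ≠ 0) (h : φ ⬝ᵥ v = 0) :
    LinearMap.trace ℂ _ ((radData_GL (F := F) hr).fixedRep ρ (1, trGL v φ h)) + (Fintype.card F ^ (r - 1) : ℕ) =
      (finrank ℂ (eigSpace (radZ uGL ρ) (0 : AddChar (Fin r → F) ℂ)) : ℂ) := by
  classical
  obtain ⟨m, hm1, hm, -, htr⟩ := gl_mult hr ρ hne
  have hm_eq : m = 1 := by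
    obtain ⟨χ, hχ⟩ : ∃ χ : AddChar (Fin r → F) ℂ, χ ≠ 0 :=
      ⟨dotChar v, fun h => hv ((dotChar_eq_zero_iff v).1 h)⟩
    rw [← hm χ hχ, h1 χ hχ]
  set hh : Fˣ × GL (Fin r) F := (1, trGL (-v) φ (by rw [dotProduct_neg, h, neg_zero])) with hh_def
  have hinv : hh⁻¹ = (1, trGL v φ h) := by
    rw [hh_def, Prod.inv_mk, inv_one, trGL_inv]
    congr 2
    exact neg_neg v
  have hfix := (radData_GL (F := F) hr).trace_eq_fixed ρ h1 hh fun χ hχ hf => by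
    obtain ⟨y, rfl⟩ := dotChar_bijective.2 χ
    rw [hh_def, dotChar_rowAct_eq_iff, trGL_val, trMat_mulVec, Units.val_one, one_smul, add_eq_left,
      smul_eq_zero, or_iff_left (neg_ne_zero.2 hv)] at hf
    obtain ⟨g, k, hg, hk, he⟩ := exists_pair_GL hq hv h hf
    exact ⟨g, k, (dotChar_rowAct_eq_iff _ _ y).2 hg, (dotChar_rowAct_eq_iff _ _ y).2 hk, by rw [hinv]; exact he⟩
  have hcard := card_fixed_chars (neg_ne_zero.2 hv) hφ (show φ ⬝ᵥ (-v) = 0 by rw [dotProduct_neg, h, neg_zero])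
  have hlev : levGL ((1 : Fˣ), trGL v φ h) = trGL (Fin.cons 0 v) (Fin.cons 0 φ) (by
      simpa [dotProduct, Fin.sum_univ_succ] using h) := Units.ext (blk_trMat v φ)
  rw [hinv, hlev, htr _ _ _ (cons_zero_ne_zero hv) (cons_zero_ne_zero hφ), hm_eq] at hfix
  rw [← hcard, Nat.cast_add, Nat.cast_one]
  rw [show (Finset.univ.filter fun χ : AddChar (Fin r → F) ℂ => χ ≠ 0 ∧
      χ.compAddMonoidHom (rowAct hh.1 hh.2) = χ) =
    (Finset.univ.filter fun χ : AddChar (Fin r → F) ℂ => χ ≠ 0 ∧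
      χ.compAddMonoidHom (rowAct 1 (trGL (-v) φ (by rw [dotProduct_neg, h, neg_zero]))) = χ) from rfl] at hfix
  push_cast at hfix ⊢
  linear_combination -hfix

end Cfsg.Agent.Lib.MinDegree
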