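import Mathlib
import Cfsg.Agent.Lib.MinDegree.LinearClass
import Cfsg.Agent.Lib.MinDegree.LinearMult
import Cfsg.Agent.Lib.LinGroup.Generation

/-!
Moving transvections; the exceptional field of two elements.
-/

set_option autoImplicit false

namespace Cfsg.Agent.Lib.MinDegree

open Classical Module Matrix
open scoped LinearAlgebra.Projectivization

variable {F : Type*} [Field F] {n : ℕ}

theorem transvection_eq_trSL {i j : Fin n} (hij : i ≠ j) (c : F) :
    Matrix.SpecialLinearGroup.transvection hij c =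
      trSL (Pi.single i c) (Pi.single j 1) (by simp [Pi.single_apply, hij.symm, hij]) := by
  refine Subtype.ext ?_
  show Matrix.transvection i j c = trMat _ _
  refine Matrix.ext fun a b => ?_
  simp only [Matrix.transvection, trMat, Matrix.add_apply, vecMulVec_apply, Pi.single_apply, Matrix.single_apply]
  by_cases ha : a = i <;> by_cases hb : b = j <;> simp [ha, hb, Ne.symm]

/-- A representation moving no transvection is trivial. -/
theorem eq_one_of_not_moves {U : Type*} [AddCommGroup U] [Module ℂ U]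
    (ρ : Matrix.SpecialLinearGroup (Fin n) F →* Module.End ℂ U) (h : ¬ MovesTrSL ρ) (A : Matrix.SpecialLinearGroup (Fin n) F) :
    ρ A = 1 := by
  refine LinGroup.SL_transvection_induction (fun A => ρ A = 1) (map_one ρ) (fun i j hij c => ?_)
    (fun A B ha hb => by rw [map_mul, ha, hb, mul_one]) A
  by_contra hne
  rw [transvection_eq_trSL hij c] at hne
  exact h ⟨_, _, _, hne⟩

variable [Fintype F]

theorem movesGL_of_trace {U : Type*} [AddCommGroup U] [Module ℂ U] [FiniteDimensional ℂ U] (hn : 2 ≤ n)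
    (σ : GL (Fin n) F →* Module.End ℂ U) {D : ℕ} (hD : 0 < D)
    (h : ∀ (v φ : Fin n → F) (hvφ : φ ⬝ᵥ v = 0), v ≠ 0 → φ ≠ 0 →
      LinearMap.trace ℂ U (σ (trGL v φ hvφ)) + (D : ℂ) = finrank ℂ U) :
    MovesTrGL σ ∧ MovesTrSL (σ.comp Matrix.SpecialLinearGroup.toGL) := by
  have hij : (⟨0, by omega⟩ : Fin n) ≠ ⟨1, by omega⟩ := fun e => by simp [Fin.ext_iff] at e
  set v : Fin n → F := Pi.single ⟨0, by omega⟩ 1
  set φ : Fin n → F := Pi.single ⟨1, by omega⟩ 1
  have hvφ : φ ⬝ᵥ v = 0 := by simp [v, φ, Pi.single_apply, hij]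
  have hne : σ (trGL v φ hvφ) ≠ 1 := fun h1 => by
    have := h v φ hvφ (by simp [v]) (by simp [φ])
    rw [h1, LinearMap.trace_one, add_eq_left] at this
    exact absurd this (Nat.cast_ne_zero.2 (by omega))
  exact ⟨⟨v, φ, hvφ, hne⟩, ⟨v, φ, hvφ, hne⟩⟩

/-- Over two elements the stabiliser of the first point is generated by the radical and the Levi group. -/
theorem exists_stab_decomp {r : ℕ} (h2 : Fintype.card F = 2) (g : Matrix.SpecialLinearGroup (Fin (r + 1)) F)
    (hg : g • Projectivization.mk F (e0 (F := F) (r := r)) (fun h0 => one_ne_zero (congrFun h0 0)) =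
      Projectivization.mk F (e0 (F := F) (r := r)) (fun h0 => one_ne_zero (congrFun h0 0))) :
    ∃ (w : Fin r → F) (A : GL (Fin r) F), g = uSL w * levSL A := by
  have hone : ∀ c : Fˣ, c = 1 := by
    classical
    haveI : Subsingleton Fˣ := Fintype.card_le_one_iff_subsingleton.1 (by rw [Fintype.card_units, h2])
    exact fun c => @Subsingleton.elim Fˣ this c 1
  have hcol : g.1 *ᵥ e0 = e0 := by
    rw [Projectivization.smul_mk, Projectivization.mk_eq_mk_iff] at hg
    obtain ⟨c, hc⟩ := hg
    rw [hone c, one_smul] at hc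
    exact hc.symm
  have hc0 : ∀ i, g.1 i 0 = e0 i := fun i => by
    have := congrFun hcol i
    simpa [e0, mulVec, dotProduct, Fin.sum_univ_succ] using this
  set M : Matrix (Fin r) (Fin r) F := g.1.submatrix Fin.succ Fin.succ with hM
  have hd : M.det = 1 := by
    have h := g.2
    rw [det_succ_column_zero, Fin.sum_univ_succ] at h
    simp [hc0, e0] at h
    exact h
  let A : GL (Fin r) F := Matrix.SpecialLinearGroup.toGL ⟨M, hd⟩
  refine ⟨(fun j => g.1 0 j.succ) ᵥ* A⁻¹.val, A, Subtype.ext ?_⟩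
  show g.1 = trMat e0 (Fin.cons 0 _) * blk _ M
  rw [show (((Matrix.GeneralLinearGroup.det A)⁻¹ : Fˣ) : F) = 1 from congrArg Units.val (hone _)]
  rw [trMat, add_mul, one_mul, vecMulVec_mul, vecMul_blk, zero_mul, vecMul_vecMul]
  rw [show A⁻¹.val * M = 1 from A.inv_mul, vecMul_one]
  funext i j
  refine Fin.cases ?_ (fun i => ?_) i <;> refine Fin.cases ?_ (fun j => ?_) j <;>
    simp [blk, hc0, e0, vecMulVec_apply, hM]

end Cfsg.Agent.Lib.MinDegree
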