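import Mathlib
import Cfsg.Agent.Lib.MinDegree.LinearFour

/-!
The degree bound `q + q² + ⋯ + q^r` for `SL_{r+1}(q)`.
-/

set_option autoImplicit false

namespace Cfsg.Agent.Lib.MinDegree

open Classical Module Matrix
open scoped LinearAlgebra.Projectivization

/-- `q + q² + ⋯ + q^r`. -/
def slTarget (q r : ℕ) : ℕ := ∑ i ∈ Finset.range r, q ^ (i + 1)

theorem slTarget_succ (q r : ℕ) : slTarget q (r + 1) = slTarget q r + q ^ (r + 1) := Finset.sum_range_succ _ _

theorem slTarget_le (q : ℕ) (hq : 2 ≤ q) : ∀ r, slTarget q r + 2 ≤ 2 * q ^ r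
  | 0 => by simp [slTarget]
  | r + 1 => by
    have h := slTarget_le q hq r
    have h1 : 2 * q ^ r ≤ q ^ (r + 1) := by
      rw [pow_succ']
      exact Nat.mul_le_mul_right _ hq
    rw [slTarget_succ]
    omega

theorem slTarget_closed (q : ℕ) (hq : 1 ≤ q) : ∀ r, (q - 1) * slTarget q r + q = q ^ (r + 1)
  | 0 => by simp [slTarget]
  | r + 1 => by
    obtain ⟨p, rfl⟩ := Nat.exists_eq_add_of_le' hq
    have h := slTarget_closed (p + 1) hq r
    rw [slTarget_succ, Nat.add_sub_cancel] at *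
    rw [mul_add, add_right_comm, h]
    ring

theorem slTarget_mono (q : ℕ) {r s : ℕ} (h : r ≤ s) : slTarget q r ≤ slTarget q s := by
  unfold slTarget
  gcongr

theorem no_degree_three {q k C : ℕ} (hq : 2 ≤ q) (h2 : q ≠ 2) (h4 : q ≠ 4) (h10 : q ≠ 10)
    (hC : C * (q - 1) = (q ^ 3 - 1) * (q ^ 2 - 1)) (hdvd : k ∣ C * q ^ 2)
    (hlo : q ^ 2 + q ≤ k + 2) (hhi : k < q ^ 2 + q) : False := by
  obtain ⟨p, rfl⟩ := Nat.exists_eq_add_of_le' (show 1 ≤ q by omega)
  have e1 : (p + 1) ^ 3 - 1 = p * ((p + 1) ^ 2 + (p + 1) + 1) := by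
    have : (p + 1) ^ 3 = p * ((p + 1) ^ 2 + (p + 1) + 1) + 1 := by ring
    omega
  have e2 : (p + 1) ^ 2 - 1 = p * (p + 2) := by
    have : (p + 1) ^ 2 = p * (p + 2) + 1 := by ring
    omega
  rw [Nat.add_sub_cancel, e1, e2] at hC
  have hC' : C = ((p + 1) ^ 2 + (p + 1) + 1) * (p * (p + 2)) :=
    Nat.eq_of_mul_eq_mul_right (show 0 < p by omega) (hC.trans (by ring))
  subst hC'
  obtain ⟨d, hd⟩ := hdvd
  set Q : ℤ := (p : ℤ) + 1 with hQ
  have hdZ : (Q ^ 2 + Q + 1) * (Q ^ 2 - 1) * Q ^ 2 = (k : ℤ) * d := by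
    have : ((((p + 1) ^ 2 + (p + 1) + 1) * (p * (p + 2)) * (p + 1) ^ 2 : ℕ) : ℤ) = ((k * d : ℕ) : ℤ) := congrArg Nat.cast hd
    push_cast at this
    rw [hQ]
    linear_combination this
  rcases (show k + 1 = (p + 1) ^ 2 + (p + 1) ∨ k + 2 = (p + 1) ^ 2 + (p + 1) by omega) with hk | hk
  · have hkZ : (k : ℤ) = Q ^ 2 + Q - 1 := by
      have : ((k + 1 : ℕ) : ℤ) = (((p + 1) ^ 2 + (p + 1) : ℕ) : ℤ) := congrArg Nat.cast hk
      push_cast at this
      rw [hQ]; linarith
    have hdvd2 : (k : ℤ) ∣ 4 * Q - 2 := ⟨(Q ^ 4 + Q ^ 2 - 2 * Q + 2) - d, by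
      rw [mul_sub, ← hdZ, hkZ]; ring⟩
    have hle := Int.le_of_dvd (by omega) hdvd2
    have hq3 : (3 : ℤ) ≤ Q := by omega
    nlinarith
  · have hkZ : (k : ℤ) = (Q - 1) * (Q + 2) := by
      have : ((k + 2 : ℕ) : ℤ) = (((p + 1) ^ 2 + (p + 1) : ℕ) : ℤ) := congrArg Nat.cast hk
      push_cast at this
      rw [hQ]; linarith
    have hp0 : Q - 1 ≠ 0 := by omega
    have hdvd2 : Q + 2 ∣ 12 := ⟨(Q ^ 4 + 2 * Q ^ 2 - 3 * Q + 6) - d, by
      refine mul_left_cancel₀ hp0 ?_
      rw [mul_sub, mul_sub, ← mul_assoc (Q - 1) (Q + 2) (d : ℤ), ← hkZ, ← hdZ]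
      ring⟩
    have hdvd3 : p + 3 ∣ 12 := by
      have : ((p + 3 : ℕ) : ℤ) ∣ ((12 : ℕ) : ℤ) := by
        push_cast
        rwa [show (p : ℤ) + 3 = Q + 2 by rw [hQ]; ring]
      exact_mod_cast this
    have := Nat.le_of_dvd (by norm_num) hdvd3
    have hp9 : p ≤ 9 := by omega
    interval_cases p <;> omega

theorem no_degree_big {q r k C : ℕ} (hq : 2 ≤ q) (hr : 3 ≤ r) (hrq : r = 3 → 3 ≤ q)
    (hC : C * (q - 1) = (q ^ (r + 1) - 1) * (q ^ r - 1)) (hdvd : k ∣ C * q ^ r) (hk : k + 1 = slTarget q r) : False := by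
  obtain ⟨s, rfl⟩ := Nat.exists_eq_add_of_le' (show 1 ≤ r by omega)
  obtain ⟨d, hd⟩ := hdvd
  set T := slTarget q (s + 1) with hT
  set T' := slTarget q s with hT'
  have c1 := slTarget_closed q (by omega) (s + 1)
  have c2 := slTarget_closed q (by omega) s
  rw [← hT] at c1; rw [← hT'] at c2
  obtain ⟨p, rfl⟩ := Nat.exists_eq_add_of_le' (show 1 ≤ q by omega)
  rw [Nat.add_sub_cancel] at c1 c2 hC
  have a1 : (p + 1) ^ (s + 1 + 1) - 1 = p * (T + 1) := by rw [← c1, mul_add]; omega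
  have a2 : (p + 1) ^ (s + 1) - 1 = p * (T' + 1) := by rw [← c2, mul_add]; omega
  rw [a1, a2] at hC
  have hC' : C = (T + 1) * (p * (T' + 1)) := Nat.eq_of_mul_eq_mul_right (show 0 < p by omega) (hC.trans (by ring))
  have hqT : (p + 1) * (T' + 1) = T := by
    refine Nat.eq_of_mul_eq_mul_left (show 0 < p by omega) ?_
    have : (p + 1) * (p * T' + (p + 1)) = p * T + (p + 1) := by rw [c2, c1, ← pow_succ']
    nlinarith
  set Q : ℤ := (p : ℤ) + 1 with hQ
  have hkZ : (k : ℤ) + 1 = T := by exact_mod_cast hk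
  have hqZ : Q * ((T' : ℤ) + 1) = T := by
    have : (((p + 1) * (T' + 1) : ℕ) : ℤ) = (T : ℤ) := congrArg Nat.cast hqT
    push_cast at this
    rw [hQ]; exact this
  have hdZ : ((T : ℤ) + 1) * ((Q - 1) * ((T' : ℤ) + 1)) * ((Q - 1) * ((T' : ℤ) + 1) + 1) = (k : ℤ) * d := by
    have h1 : (p + 1) ^ (s + 1) = p * (T' + 1) + 1 := by rw [← c2]; ring
    have : ((C * (p + 1) ^ (s + 1) : ℕ) : ℤ) = ((k * d : ℕ) : ℤ) := congrArg Nat.cast hd
    rw [hC', h1] at this
    push_cast at this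
    rw [hQ, add_sub_cancel_right]
    linear_combination this
  have hres : (k : ℤ) ∣ 2 * (Q - 1) * (2 * Q - 1) := by
    refine ⟨Q ^ 2 * d - (Q - 1) * (((k : ℤ) + 3) * ((Q - 1) * ((k : ℤ) + 1) + Q) + 2 * (Q - 1)), ?_⟩
    have e : Q ^ 2 * ((k : ℤ) * d) = ((k : ℤ) + 2) * (Q - 1) * ((k : ℤ) + 1) * ((Q - 1) * ((k : ℤ) + 1) + Q) := by
      have hs' : Q * ((T' : ℤ) + 1) = (k : ℤ) + 1 := hqZ.trans hkZ.symm
      rw [← hdZ, ← hkZ, show Q ^ 2 * (((k : ℤ) + 1 + 1) * ((Q - 1) * ((T' : ℤ) + 1)) * ((Q - 1) * ((T' : ℤ) + 1) + 1)) =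
        ((k : ℤ) + 2) * (Q - 1) * (Q * ((T' : ℤ) + 1)) * ((Q - 1) * (Q * ((T' : ℤ) + 1)) + Q) by ring, hs']
    linear_combination -e
  have hpos : 0 < 2 * (Q - 1) * (2 * Q - 1) := by
    have : (2 : ℤ) ≤ Q := by omega
    nlinarith
  have hle := Int.le_of_dvd hpos hres
  have hQ2 : (2 : ℤ) ≤ Q := by omega
  rcases (show s = 2 ∨ 3 ≤ s by omega) with rfl | hs
  · have hQ3 : (3 : ℤ) ≤ Q := by have := hrq rfl; omega
    have hTv : (T : ℤ) = Q + Q ^ 2 + Q ^ 3 := by
      rw [hT, hQ]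
      simp [slTarget, Finset.sum_range_succ]
    nlinarith [mul_le_mul_of_nonneg_right hQ3 (sq_nonneg Q)]
  · have hmono := slTarget_mono (p + 1) (show 4 ≤ s + 1 by omega)
    have hTv : Q + Q ^ 2 + Q ^ 3 + Q ^ 4 ≤ (T : ℤ) := by
      have : ((slTarget (p + 1) 4 : ℕ) : ℤ) ≤ (T : ℤ) := by exact_mod_cast hmono
      refine le_trans (le_of_eq ?_) this
      rw [hQ]
      simp [slTarget, Finset.sum_range_succ]
    nlinarith [mul_le_mul_of_nonneg_right hQ2 (sq_nonneg Q),
      mul_le_mul_of_nonneg_right hQ2 (pow_nonneg (le_trans (by norm_num) hQ2 : (0 : ℤ) ≤ Q) 3)]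

variable {F : Type*} [Field F] [Fintype F]

/-- The degree-24 case in `SL_5(2)` does not occur. -/
theorem sl_five_two_bound (h2 : Fintype.card F = 2) {k : ℕ}
    (ρ : Representation ℂ (Matrix.SpecialLinearGroup (Fin (4 + 1)) F) (Fin k → ℂ)) [ρ.IsIrreducible]
    (hd0 : finrank ℂ (eigSpace (radZ (uSL (F := F) (r := 4)) ρ) (0 : AddChar (Fin 4 → F) ℂ)) = 9)
    (hk : k = 24)
    (htr : ∀ (v φ : Fin 4 → F) (h : φ ⬝ᵥ v = 0), v ≠ 0 → φ ≠ 0 →
      LinearMap.trace ℂ _ ((radData_SL (F := F) (by norm_num : 2 ≤ 4)).fixedRep ρ (trGL v φ h)) + ((8 : ℕ) : ℂ) =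
        (finrank ℂ (eigSpace (radZ (uSL (F := F) (r := 4)) ρ) (0 : AddChar (Fin 4 → F) ℂ)) : ℂ)) : False := by
  classical
  set W := eigSpace (radZ (uSL (F := F) (r := 4)) ρ) (0 : AddChar (Fin 4 → F) ℂ)
  set hd := radData_SL (F := F) (by norm_num : 2 ≤ 4)
  set σ : Representation ℂ (Matrix.SpecialLinearGroup (Fin 4) F) W :=
    (hd.fixedRep ρ).comp Matrix.SpecialLinearGroup.toGL with hσ
  obtain ⟨-, v0, φ0, h0, hm⟩ := movesGL_of_trace (by norm_num : 2 ≤ 4) (hd.fixedRep ρ) (D := 8) (by norm_num) htr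
  by_cases hirr : σ.IsIrreducible
  · have hv0 : v0 ≠ 0 ∧ φ0 ≠ 0 := by
      constructor <;> intro h0' <;> apply hm <;>
      · have : trSL v0 φ0 h0 = 1 := Subtype.ext (by subst h0'; show trMat _ _ = 1; simp [trMat])
        rw [this, map_one]
    let τ := Chars.conjRep σ (Module.finBasisOfFinrankEq ℂ W hd0).equivFun
    haveI := hirr
    haveI : τ.IsIrreducible := Chars.isIrreducible_of_equiv (Chars.conjRepEquiv σ _)
    have ht : LinearMap.trace ℂ _ (τ (trSL v0 φ0 h0)) + ((8 : ℕ) : ℂ) = ((9 : ℕ) : ℂ) := by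
      rw [show ((9 : ℕ) : ℂ) = (finrank ℂ W : ℂ) by rw [hd0], ← htr v0 φ0 h0 hv0.1 hv0.2]
      congr 1
      show LinearMap.trace ℂ _ ((Module.finBasisOfFinrankEq ℂ W hd0).equivFun.conj (σ (trSL v0 φ0 h0))) = _
      rw [LinearMap.trace_conj']
      rfl
    have hdv := dvd_class_mul_deficit (r := 3) τ h0 ht
    have hC := index_centralizer_trSL (r := 3) (by norm_num) hv0.1 hv0.2 h0
    rw [h2] at hC
    norm_num at hC
    rw [hC] at hdv
    norm_num at hdv
  · haveI : Nontrivial W := Module.nontrivial_of_finrank_pos (R := ℂ) (by omega)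
    haveI : Nontrivial (Subrepresentation σ) :=
      ⟨⊥, ⊤, fun h => bot_ne_top (α := Submodule ℂ W) (congrArg Subrepresentation.toSubmodule h)⟩
    obtain ⟨S, hSb, hSt⟩ : ∃ S : Subrepresentation σ, S ≠ ⊥ ∧ S ≠ ⊤ := by
      by_contra h
      push Not at h
      exact hirr ⟨fun S => or_iff_not_imp_left.2 (h S)⟩
    obtain ⟨S', hS'⟩ := exists_isCompl S
    have hS'b : S' ≠ ⊥ := fun h => hSt (by
      have := codisjoint_iff.1 hS'.codisjoint
      rwa [h, sup_bot_eq] at this)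
    have big : ∀ T : Subrepresentation σ, T ≠ ⊥ → 7 ≤ finrank ℂ T.toSubmodule := by
      intro T hT
      by_contra hlt
      let τT : Matrix.SpecialLinearGroup (Fin (3 + 1)) F →* Module.End ℂ T.toSubmodule := T.toRepresentation
      have hnm : ¬ MovesTrSL (U := T.toSubmodule) τT := fun hmv => by
        obtain ⟨m, hm1, -, hmk, -⟩ := sl_mult (F := F) (r := 3) (U := T.toSubmodule) (by norm_num) τT hmv
        rw [h2] at hmk
        norm_num at hmk
        omega
      obtain ⟨u, hu, hu0⟩ := Submodule.exists_mem_ne_zero_of_ne_bot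
        (fun h => hT (Subrepresentation.toSubmodule_injective h) : T.toSubmodule ≠ ⊥)
      have hfixA : ∀ A : GL (Fin 4) F, ρ (levSL A) u.1 = u.1 := fun A => by
        haveI : Subsingleton Fˣ := Fintype.card_le_one_iff_subsingleton.1 (by rw [Fintype.card_units, h2])
        have hA : A = Matrix.SpecialLinearGroup.toGL ⟨A.val, congrArg Units.val (Subsingleton.elim (Matrix.GeneralLinearGroup.det A) 1)⟩ :=
          Units.ext rfl
        have h1 := LinearMap.congr_fun (eq_one_of_not_moves (U := T.toSubmodule) τT hnm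
          ⟨A.val, congrArg Units.val (Subsingleton.elim (Matrix.GeneralLinearGroup.det A) 1)⟩) ⟨u, hu⟩
        have h3 : (hd.fixedRep ρ) (Matrix.SpecialLinearGroup.toGL ⟨A.val, congrArg Units.val (Subsingleton.elim (Matrix.GeneralLinearGroup.det A) 1)⟩) u = u :=
          congrArg Subtype.val h1
        rw [← hA] at h3
        exact congrArg Subtype.val h3
      haveI : Fintype (ℙ F (Fin (4 + 1) → F)) := Fintype.ofFinite _
      have hcardX : Fintype.card (ℙ F (Fin (4 + 1) → F)) = 31 := by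
        rw [← Nat.card_eq_fintype_card, Projectivization.card'' (k := F), Nat.card_eq_fintype_card (α := Fin (4 + 1) → F),
          Fintype.card_fun, Fintype.card_fin, Nat.card_eq_fintype_card (α := F), h2]
        norm_num
      have hfr := finrank_of_fixed_vector (X := ℙ F (Fin (4 + 1) → F)) inferInstance ρ
        (Projectivization.mk F (e0 (F := F) (r := 4)) (fun h0 => one_ne_zero (congrFun h0 0)))
        (v := u.1) (fun h => hu0 (Subtype.ext h)) fun g hg => by
          obtain ⟨w, A, rfl⟩ := exists_stab_decomp h2 g hg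
          rw [map_mul, Module.End.mul_apply, hfixA A]
          exact (u.2 w).trans (by rw [AddChar.zero_apply, one_smul])
      rw [Module.finrank_fin_fun, hk, hcardX] at hfr
      omega
    have h7 := big S hSb
    have h7' := big S' hS'b
    have hsum := Submodule.finrank_sup_add_finrank_inf_eq S.toSubmodule S'.toSubmodule
    rw [show S.toSubmodule ⊔ S'.toSubmodule = ⊤ from congrArg Subrepresentation.toSubmodule (codisjoint_iff.1 hS'.codisjoint),
      show S.toSubmodule ⊓ S'.toSubmodule = ⊥ from congrArg Subrepresentation.toSubmodule (disjoint_iff.1 hS'.disjoint),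
      finrank_top, finrank_bot] at hsum
    omega

theorem sl_lower_irr : ∀ r : ℕ, 2 ≤ r → (r = 2 → Fintype.card F ≠ 2 ∧ Fintype.card F ≠ 4) →
    (r = 3 → 4 ≤ Fintype.card F) → ∀ (k : ℕ) (ρ : Representation ℂ (Matrix.SpecialLinearGroup (Fin (r + 1)) F) (Fin k → ℂ)),
      ρ.IsIrreducible → MovesTrSL ρ → slTarget (Fintype.card F) r ≤ k := by
  classical
  intro r
  induction r using Nat.strong_induction_on with
  | _ r ih =>
    intro hr h2 h3 k ρ hirr hne
    have hq : 2 ≤ Fintype.card F := Fintype.one_lt_card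
    obtain ⟨m, hm1, hm, hk, htr⟩ := sl_mult hr ρ hne
    rw [Module.finrank_fin_fun] at hk
    set d0 := finrank ℂ (eigSpace (radZ uSL ρ) (0 : AddChar (Fin r → F) ℂ)) with hd0
    have hqr : 4 ≤ Fintype.card F ^ r := le_trans (by norm_num) (Nat.pow_le_pow_left hq r |>.trans' (Nat.pow_le_pow_right (by norm_num) hr))
    by_contra hlt
    have hm_eq : m = 1 := by
      by_contra hne1
      have h4 := Nat.mul_le_mul_right (Fintype.card F ^ r - 1) (show 2 ≤ m by omega)
      have h5 := slTarget_le (Fintype.card F) hq r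
      omega
    subst hm_eq
    rw [one_mul] at hk
    set σ := (radData_SL (F := F) hr).fixedRep ρ with hσ
    have hσtr : ∀ (v φ : Fin r → F) (h : φ ⬝ᵥ v = 0), v ≠ 0 → φ ≠ 0 →
        LinearMap.trace ℂ _ (σ (trGL v φ h)) + ((Fintype.card F ^ (r - 1) : ℕ) : ℂ) = (d0 : ℂ) :=
      fun v φ h hv hφ => sl_fixed_trace hr h2 h3 ρ hne hm hv hφ h
    obtain ⟨hmovG, hmovS⟩ := movesGL_of_trace hr σ (pow_pos (by omega) _) hσtr
    obtain ⟨v, φ, h, hvφ⟩ := hne
    have hvφ' : v ≠ 0 ∧ φ ≠ 0 := by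
      constructor <;> intro h0 <;> apply hvφ <;>
      · have : trSL v φ h = 1 := Subtype.ext (by subst h0; show trMat _ _ = 1; simp [trMat])
        rw [this, map_one]
    haveI := hirr
    have hdvd := dvd_class_mul_deficit ρ h (D := Fintype.card F ^ r) (by
      rw [htr v φ h hvφ'.1 hvφ'.2, hk, Nat.cast_add, Nat.cast_sub (by omega : 1 ≤ Fintype.card F ^ r)]
      ring)
    have hC := index_centralizer_trSL hr hvφ'.1 hvφ'.2 h
    generalize (Subgroup.centralizer ({trSL v φ h} : Set (Matrix.SpecialLinearGroup (Fin (r + 1)) F))).index = C at hdvd hC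
    obtain ⟨s, rfl⟩ := Nat.exists_eq_add_of_le' (show 1 ≤ r by omega)
    rw [Nat.add_sub_cancel] at hσtr
    rcases (show s = 1 ∨ 2 ≤ s by omega) with rfl | hs
    · obtain ⟨hne2, hne4⟩ := h2 rfl
      obtain ⟨m', hm', -, hd, -⟩ := gl_mult (le_refl 1) σ hmovG
      rw [pow_one] at hd
      have h6 := Nat.le_mul_of_pos_left (Fintype.card F - 1) hm'
      have hT : slTarget (Fintype.card F) (1 + 1) = Fintype.card F ^ 2 + Fintype.card F := by
        simp [slTarget, Finset.sum_range_succ, add_comm]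
      rw [hT] at hlt
      refine no_degree_three hq hne2 hne4 (fun h10 => ?_) hC hdvd ?_ (by omega)
      · obtain ⟨p, ⟨a, hp, hpa⟩⟩ : ∃ p, ∃ a : ℕ+, p.Prime ∧ Fintype.card F = p ^ (a : ℕ) := by
          obtain ⟨p, hchar⟩ := CharP.exists F
          obtain ⟨a, hp, ha⟩ := FiniteField.card F p
          exact ⟨p, a, hp, ha⟩
        rw [h10] at hpa
        have hd2' : (2 : ℕ) ∣ p ^ (a : ℕ) := by rw [← hpa]; norm_num
        have hd5' : (5 : ℕ) ∣ p ^ (a : ℕ) := by rw [← hpa]; norm_num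
        have hd2 : (2 : ℕ) ∣ p := Nat.prime_two.dvd_of_dvd_pow hd2'
        have hd5 : (5 : ℕ) ∣ p := (by norm_num : Nat.Prime 5).dvd_of_dvd_pow hd5'
        have e2 := (Nat.prime_dvd_prime_iff_eq Nat.prime_two hp).1 hd2
        have e5 := (Nat.prime_dvd_prime_iff_eq (by norm_num) hp).1 hd5
        omega
      · rw [show (1 + 1 : ℕ) = 2 from rfl] at hk
        omega
    by_cases hexc : (s = 2 → Fintype.card F ≠ 2 ∧ Fintype.card F ≠ 4) ∧ (s = 3 → 4 ≤ Fintype.card F)
    · obtain ⟨v', φ', h', hm'⟩ := hmovS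
      obtain ⟨k', τ, hτirr, hk', hτ⟩ := exists_irreducible_moving (σ.comp Matrix.SpecialLinearGroup.toGL) hm'
      have hIH := ih s (by omega) hs hexc.1 hexc.2 k' τ hτirr ⟨v', φ', h', hτ⟩
      have hd : slTarget (Fintype.card F) s ≤ d0 := hIH.trans hk'
      rw [slTarget_succ] at hlt
      exact no_degree_big hq (by omega) (fun h => by have := h3 h; omega) hC hdvd (by rw [slTarget_succ]; omega)
    obtain ⟨m', hm', hm'h, hd, htr'⟩ := gl_mult (r := s) (by omega) σ hmovG
    rw [← hd0] at hd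
    have hm'1 : m' = 1 := by
      obtain ⟨v', φ', h', hmv⟩ := hmovG
      have hv' : v' ≠ 0 ∧ φ' ≠ 0 := by
        constructor <;> intro h0 <;> apply hmv <;>
        · have : trGL v' φ' h' = 1 := Units.ext (by subst h0; show trMat _ _ = 1; simp [trMat])
          rw [this, map_one]
      have e := hσtr v' φ' h' hv'.1 hv'.2
      rw [htr' v' φ' h' hv'.1 hv'.2, hd] at e
      generalize finrank ℂ (eigSpace (radZ uGL σ) (0 : AddChar (Fin s → F) ℂ)) = d1 at e
      have e1 : ((Fintype.card F ^ s : ℕ) : ℂ) * 1 = ((Fintype.card F ^ s : ℕ) : ℂ) * (m' : ℂ) := by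
        push_cast [Nat.cast_sub (show 1 ≤ Fintype.card F ^ s from Nat.one_le_pow _ _ (by omega))] at e ⊢
        linear_combination e
      have := mul_left_cancel₀ (Nat.cast_ne_zero.2 (pow_ne_zero s (show Fintype.card F ≠ 0 by omega))) e1
      exact_mod_cast this.symm
    subst hm'1
    rw [one_mul] at hd
    have nested : 3 ≤ Fintype.card F → Fintype.card F ^ (s - 1) - 1 ≤
        finrank ℂ (eigSpace (radZ uGL σ) (0 : AddChar (Fin s → F) ℂ)) := fun hq3 => by
      have hs1 : 1 ≤ s := by omega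
      let σ1 : GL (Fin s) F →* Module.End ℂ (eigSpace (radZ uGL σ) (0 : AddChar (Fin s → F) ℂ)) :=
        ((radData_GL (F := F) hs1).fixedRep σ).comp (MonoidHom.inr Fˣ (GL (Fin s) F))
      have hσ1 : MovesTrGL (U := eigSpace (radZ uGL σ) (0 : AddChar (Fin s → F) ℂ)) σ1 :=
        (movesGL_of_trace (U := eigSpace (radZ uGL σ) (0 : AddChar (Fin s → F) ℂ)) hs σ1
          (D := Fintype.card F ^ (s - 1)) (pow_pos (by omega) _) fun v φ h hv hφ =>
          gl_fixed_trace hs1 hq3 σ hmovG hm'h hv hφ h).1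
      obtain ⟨s', rfl⟩ := Nat.exists_eq_add_of_le' (show 1 ≤ s by omega)
      obtain ⟨m'', hm'', -, hd'', -⟩ := gl_mult (U := eigSpace (radZ uGL σ) (0 : AddChar (Fin (s' + 1) → F) ℂ)) (r := s') (by omega) σ1 hσ1
      rw [Nat.add_sub_cancel]
      have := Nat.le_mul_of_pos_left (Fintype.card F ^ s' - 1) hm''
      omega
    push Not at hexc
    by_cases hs2 : s = 2
    · subst hs2
      have hq4 : Fintype.card F = 4 := by
        have h4 := h3 rfl
        by_contra hne
        exact absurd (hexc fun _ => ⟨by omega, hne⟩).1 (by norm_num)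
      have hn := nested (by omega)
      rw [hq4] at hn hd hk hC hdvd hlt
      norm_num [slTarget, Finset.sum_range_succ] at hn hd hk hC hdvd hlt
      have hCv : C = 5355 := by omega
      subst hCv
      have aux : ∀ j : ℕ, 81 ≤ j → j < 84 → ¬ j ∣ 342720 := fun j a b => by interval_cases j <;> norm_num
      exact aux k (by omega) (by omega) (by simpa using hdvd)
    · obtain ⟨hs3, hq23⟩ := hexc fun h => absurd h hs2
      subst hs3
      by_cases hq2 : Fintype.card F = 2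
      · rw [hq2] at hd hk hC hdvd hlt
        norm_num [slTarget, Finset.sum_range_succ] at hd hk hC hdvd hlt
        subst hC
        have hlo : 22 ≤ k := by omega
        have aux : ∀ j : ℕ, 22 ≤ j → j < 30 → j ∣ 7440 → j = 24 := fun j a b => by interval_cases j <;> norm_num
        have hk24 : k = 24 := aux k hlo (by omega) (by simpa using hdvd)
        refine sl_five_two_bound hq2 ρ (show d0 = 9 by omega) hk24 fun v φ h hv hφ => ?_
        have := hσtr v φ h hv hφ
        rw [hq2] at this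
        exact this
      · have hq3 : Fintype.card F = 3 := by omega
        have hn := nested (by omega)
        rw [hq3] at hn hd hk hC hdvd hlt
        norm_num [slTarget, Finset.sum_range_succ] at hn hd hk hC hdvd hlt
        have hCv : C = 9680 := by omega
        subst hCv
        have aux : ∀ j : ℕ, 114 ≤ j → j < 120 → ¬ j ∣ 784080 := fun j a b => by interval_cases j <;> norm_num
        exact aux k (by omega) (by omega) (by simpa using hdvd)

end Cfsg.Agent.Lib.MinDegree
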