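import Mathlib
import Cfsg.Agent.Lib.Chars.Basic
import Cfsg.Agent.Lib.MinDegree.Eigen
import Cfsg.Agent.Lib.MinDegree.Heisenberg
import Cfsg.Agent.Lib.MinDegree.UnitaryBase

/-!
Lower bound for the degree of a representation non-trivial on a root subgroup of a unitary group, by induction
along Heisenberg parabolics.
-/

set_option autoImplicit false

namespace Cfsg.Agent.Lib.MinDegree

open Classical Module
open scoped ComplexConjugate

universe u

variable {F : Type u} [Field F] [Fintype F] {q : ℕ} (hF : Fintype.card F = q ^ 2)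

/-- The space `F × F × F^m`. -/
abbrev HSpace (F : Type u) (m : ℕ) := F × F × (Fin m → F)

/-- Its form. -/
noncomputable abbrev hForm (m : ℕ) : HSpace F m → HSpace F m → F :=
  uExt (Forms.qPowHom hF) (Cfsg.hermForm m F q)

/-- The degree bound, indexed by `n - 2`. -/
def suTarget (q : ℕ) : ℕ → ℕ
  | 0 => q - 1
  | 1 => (q - 1) * q
  | m + 2 => (q - 1) * q ^ (m + 2) + suTarget q m

/-- Groups to which the argument applies. -/
structure UData (m : ℕ) {A : Type u} [Group A] (K : Subgroup ((HSpace F m ≃ₗ[F] HSpace F m) × A)) : Prop where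
  iso : ∀ x ∈ K, x.1 ∈ biIsoGroup (hForm hF m)
  det : ∀ g ∈ biIsoGroup (hForm hF m), LinearEquiv.det g = 1 → (g, (1 : A)) ∈ K
  scale : ∀ k : F, k ≠ 0 → Forms.qPowHom hF k = k → ∃ x ∈ K, ∃ r : F,
    x.1 (1, 0, 0) = r • ((1 : F), (0 : F), (0 : Fin m → F)) ∧ r * Forms.qPowHom hF r = k

variable {hF} {m : ℕ} {A : Type u} [Group A] {K : Subgroup ((HSpace F m ≃ₗ[F] HSpace F m) × A)}

/-- A determinant-one isometry as an element of `K`. -/
noncomputable def UData.lift (hK : UData hF m K) (g : HSpace F m ≃ₗ[F] HSpace F m) (hg : g ∈ uGroup (hermSpace_std hF m).ext) :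
    K :=
  ⟨(g, 1), hK.det g (uGroup_le _ hg) (det_eq_one_of_mem_uGroup _ hg)⟩

theorem zT_mem (c : skew (Forms.qPowHom hF)) :
    zT (hermSpace_std hF m) c ∈ uGroup (hermSpace_std hF m).ext := uT_mem _ _ _ _

/-- The central root elements. -/
noncomputable def UData.z (hK : UData hF m K) (c : skew (Forms.qPowHom hF)) : K :=
  hK.lift (zT (hermSpace_std hF m) c) (zT_mem c)

variable (hK : UData hF m K)

theorem UData.z_zero : hK.z 0 = 1 := Subtype.ext (Prod.ext (zT_zero (hermSpace_std hF m)) rfl)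

theorem UData.z_add (c d : skew (Forms.qPowHom hF)) : hK.z (c + d) = hK.z c * hK.z d :=
  Subtype.ext (Prod.ext (zT_add (hermSpace_std hF m) c d) (one_mul 1).symm)

theorem UData.conj_z (x : K) {r : F} (hr : x.1.1 (1, 0, 0) = r • ((1 : F), (0 : F), (0 : Fin m → F)))
    (c d : skew (Forms.qPowHom hF)) (hd : (d : F) = r * Forms.qPowHom hF r * c) :
    x * hK.z c * x⁻¹ = hK.z d := by
  refine Subtype.ext (Prod.ext ?_ ?_)
  · exact conj_zT (hermSpace_std hF m) (hK.iso _ x.2) hr c d hd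
  · show x.1.2 * 1 * x.1.2⁻¹ = 1
    group

theorem UData.exists_conj_z {c d : skew (Forms.qPowHom hF)} (hc : c ≠ 0) (hd : d ≠ 0) :
    ∃ x : K, x * hK.z c * x⁻¹ = hK.z d := by
  have hc0 : (c : F) ≠ 0 := fun h => hc (Subtype.ext h)
  have hd0 : (d : F) ≠ 0 := fun h => hd (Subtype.ext h)
  have hcs : Forms.qPowHom hF (c : F) = -(c : F) := eq_neg_of_add_eq_zero_right (mem_skew.1 c.2)
  have hds : Forms.qPowHom hF (d : F) = -(d : F) := eq_neg_of_add_eq_zero_right (mem_skew.1 d.2)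
  obtain ⟨x, hx, r, hr, hrk⟩ := hK.scale ((d : F) / c) (div_ne_zero hd0 hc0)
    (by rw [map_div₀, hcs, hds, neg_div_neg_eq])
  exact ⟨⟨x, hx⟩, hK.conj_z ⟨x, hx⟩ hr c d (by rw [hrk, div_mul_cancel₀ _ hc0])⟩

variable {U : Type} [AddCommGroup U] [Module ℂ U] [FiniteDimensional ℂ U] (ρ : K →* Module.End ℂ U)

omit [FiniteDimensional ℂ U] in
theorem rep_z_add (c d : skew (Forms.qPowHom hF)) : ρ (hK.z (c + d)) = ρ (hK.z c) * ρ (hK.z d) := by
  rw [hK.z_add, map_mul]

omit [FiniteDimensional ℂ U] in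
theorem rep_z_zero : ρ (hK.z 0) = 1 := by rw [hK.z_zero, map_one]

omit [FiniteDimensional ℂ U] in
theorem trace_z_eq {c d : skew (Forms.qPowHom hF)} (hc : c ≠ 0) (hd : d ≠ 0) :
    LinearMap.trace ℂ U (ρ (hK.z d)) = LinearMap.trace ℂ U (ρ (hK.z c)) := by
  obtain ⟨x, hx⟩ := hK.exists_conj_z hc hd
  rw [← hx, map_mul, LinearMap.trace_mul_comm, ← map_mul]
  congr 2
  group

/-- All non-trivial eigenspaces have one dimension. -/
theorem finrank_eig_eq {ψ φ : AddChar (skew (Forms.qPowHom hF)) ℂ} (hψ : ψ ≠ 0) (hφ : φ ≠ 0) :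
    finrank ℂ (eigSpace (fun c => ρ (hK.z c)) ψ) = finrank ℂ (eigSpace (fun c => ρ (hK.z c)) φ) := by
  classical
  haveI : Fintype (skew (Forms.qPowHom hF)) := Fintype.ofFinite _
  obtain ⟨c₁, hc₁⟩ := AddChar.ne_zero_iff.1 hψ
  have hc₁' : c₁ ≠ 0 := fun h => hc₁ (by rw [h, AddChar.map_zero_eq_one])
  have key : ∀ χ : AddChar (skew (Forms.qPowHom hF)) ℂ, χ ≠ 0 →
      ∑ a, χ (-a) * LinearMap.trace ℂ U (ρ (hK.z a)) =
        LinearMap.trace ℂ U (ρ (hK.z 0)) - LinearMap.trace ℂ U (ρ (hK.z c₁)) := fun χ hχ => by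
    have hs : ∑ a, χ (-a) = 0 := (Fintype.sum_equiv (Equiv.neg _) _ (fun a => χ a) (fun a => rfl)).trans
      (by rw [AddChar.sum_eq_ite, if_neg hχ])
    have h1 : ∀ a, χ (-a) * LinearMap.trace ℂ U (ρ (hK.z a)) = χ (-a) * LinearMap.trace ℂ U (ρ (hK.z c₁)) +
        if a = 0 then LinearMap.trace ℂ U (ρ (hK.z 0)) - LinearMap.trace ℂ U (ρ (hK.z c₁)) else 0 := fun a => by
      split_ifs with ha
      · rw [ha, neg_zero, AddChar.map_zero_eq_one]; ring
      · rw [trace_z_eq hK ρ hc₁' ha, add_zero]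
    rw [Finset.sum_congr rfl fun a _ => h1 a, Finset.sum_add_distrib, ← Finset.sum_mul, hs, zero_mul, zero_add,
      Finset.sum_ite_eq' Finset.univ (0 : skew (Forms.qPowHom hF)) fun _ => _, if_pos (Finset.mem_univ _)]
  refine (Nat.cast_inj (R := ℂ)).1 ?_
  rw [finrank_eq (rep_z_zero hK ρ) (rep_z_add hK ρ), finrank_eq (rep_z_zero hK ρ) (rep_z_add hK ρ), key ψ hψ, key φ hφ]

/-- The elements of `K` commuting with the central root elements. -/
def UData.cent : Subgroup K := Subgroup.centralizer (Set.range hK.z)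

/-- Their action on an eigenspace. -/
noncomputable def UData.centRep (ψ : AddChar (skew (Forms.qPowHom hF)) ℂ) :
    hK.cent →* Module.End ℂ (eigSpace (fun c => ρ (hK.z c)) ψ) where
  toFun x := (ρ x.1).restrict fun _ hu => apply_mem_eigSpace
    (fun a => by rw [← map_mul, ← map_mul, Subgroup.mem_centralizer_iff.1 x.2 _ ⟨a, rfl⟩]) hu
  map_one' := LinearMap.ext fun v => Subtype.ext (by show ρ 1 v.1 = v.1; rw [map_one]; rfl)
  map_mul' x y := LinearMap.ext fun v => Subtype.ext (by show ρ (x.1 * y.1) v.1 = _; rw [map_mul]; rfl)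

theorem UData.centRep_apply (ψ : AddChar (skew (Forms.qPowHom hF)) ℂ) (x : hK.cent)
    (v : eigSpace (fun c => ρ (hK.z c)) ψ) : (hK.centRep ρ ψ x v).1 = ρ x.1 v.1 := rfl

theorem UData.z_mem_cent (c : skew (Forms.qPowHom hF)) : hK.z c ∈ hK.cent := by
  refine Subgroup.mem_centralizer_iff.2 ?_
  rintro _ ⟨a, rfl⟩
  rw [← hK.z_add, add_comm, hK.z_add]

theorem UData.centRep_z (ψ : AddChar (skew (Forms.qPowHom hF)) ℂ) (c : skew (Forms.qPowHom hF)) :
    hK.centRep ρ ψ ⟨hK.z c, hK.z_mem_cent c⟩ = ψ c • 1 :=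
  LinearMap.ext fun v => Subtype.ext (v.2 c)

variable (hF) in
/-- A chosen second coordinate. -/
noncomputable def fill (w : Fin m → F) : F :=
  letI := _root_.Classical.decEq (Fin m → F)
  if w = 0 then 0 else ((hermSpace_std hF m).exists_fill w).choose

theorem fill_spec (w : Fin m → F) :
    fill hF w + Forms.qPowHom hF (fill hF w) + Cfsg.hermForm m F q w w = 0 := by
  rw [fill]
  split_ifs with h
  · rw [h, map_zero, (hermSpace_std hF m).zero_left, add_zero, add_zero]
  · exact ((hermSpace_std hF m).exists_fill w).choose_spec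

/-- The radical elements. -/
noncomputable def UData.rad (w : Fin m → F) : K :=
  hK.lift (uT (hermSpace_std hF m) w (fill hF w) (fill_spec w)) (uT_mem _ _ _ _)

theorem UData.rad_mem_cent (w : Fin m → F) : hK.rad w ∈ hK.cent := by
  refine Subgroup.mem_centralizer_iff.2 ?_
  rintro _ ⟨c, rfl⟩
  refine Subtype.ext (Prod.ext ?_ rfl)
  show zT (hermSpace_std hF m) c * uT (hermSpace_std hF m) w (fill hF w) (fill_spec w) =
    uT (hermSpace_std hF m) w (fill hF w) (fill_spec w) * zT (hermSpace_std hF m) c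
  rw [zT, uT_mul, uT_mul]
  exact uT_congr _ (by abel) (by rw [(hermSpace_std hF m).zero_left, (hermSpace_std hF m).zero_right]; ring)

/-- The radical on an eigenspace. -/
noncomputable def UData.radRep (ψ : AddChar (skew (Forms.qPowHom hF)) ℂ) (w : Fin m → F) :
    Module.End ℂ (eigSpace (fun c => ρ (hK.z c)) ψ) :=
  hK.centRep ρ ψ ⟨hK.rad w, hK.rad_mem_cent w⟩

theorem UData.radRep_heis {ψ : AddChar (skew (Forms.qPowHom hF)) ℂ} (hψ : ψ ≠ 0) :
    HeisFamily (hK.radRep ρ ψ) := by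
  classical
  set hs := hermSpace_std hF m
  refine ⟨?_, fun a b => ?_, fun a ha => ?_⟩
  · rw [UData.radRep, show (⟨hK.rad 0, hK.rad_mem_cent 0⟩ : hK.cent) = 1 from Subtype.ext (Subtype.ext (Prod.ext
      ((uT_congr hs (hc := fill_spec 0) rfl (by simp [fill])).trans (uT_zero hs)) rfl)), map_one]
  · have hmem : fill hF a + fill hF b - Cfsg.hermForm m F q b a - fill hF (a + b) ∈
        skew (Forms.qPowHom hF) := by
      rw [mem_skew, map_sub, map_sub, map_add, hs.symm]
      have h1 := fill_spec (hF := hF) a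
      have h2 := fill_spec (hF := hF) b
      have h3 := fill_spec (hF := hF) (a + b)
      rw [hs.add_left, hs.add_right, hs.add_right] at h3
      linear_combination h1 + h2 - h3
    refine ⟨ψ ⟨_, hmem⟩, fun h => ?_, ?_⟩
    · have := ψ.map_add_eq_mul ⟨_, hmem⟩ (-⟨_, hmem⟩)
      rw [add_neg_cancel, AddChar.map_zero_eq_one, h, zero_mul] at this
      exact one_ne_zero this
    · have e : (⟨hK.rad a, hK.rad_mem_cent a⟩ * ⟨hK.rad b, hK.rad_mem_cent b⟩ : hK.cent) =
          ⟨hK.z ⟨_, hmem⟩, hK.z_mem_cent _⟩ * ⟨hK.rad (a + b), hK.rad_mem_cent _⟩ := by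
        refine Subtype.ext (Subtype.ext (Prod.ext ?_ rfl))
        show uT hs a _ (fill_spec a) * uT hs b _ (fill_spec b) = zT hs _ * uT hs (a + b) _ (fill_spec _)
        rw [zT, uT_mul, uT_mul]
        exact uT_congr hs (zero_add _).symm (by rw [hs.zero_right]; ring)
      rw [UData.radRep, UData.radRep, ← map_mul, e, map_mul, hK.centRep_z, smul_mul_assoc, one_mul, UData.radRep]
  · obtain ⟨⟨d, hd⟩, hψd⟩ := AddChar.ne_zero_iff.1 hψ
    obtain ⟨t, ht⟩ : ∃ t, t + Forms.qPowHom hF t = 1 := hs.exists_trace 1 (map_one _)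
    obtain ⟨b0, hb0⟩ : ∃ b0, Cfsg.hermForm m F q b0 a ≠ 0 := by
      by_contra hne
      push Not at hne
      exact ha (hs.nondeg a fun w => by rw [← hs.symm, hne, map_zero])
    set b := (d * t / Cfsg.hermForm m F q b0 a) • b0 with hb
    have hba : Cfsg.hermForm m F q b a = d * t := by rw [hb, hs.smul_left, div_mul_cancel₀ _ hb0]
    have hσd : Forms.qPowHom hF d = -d := eq_neg_of_add_eq_zero_right (mem_skew.1 hd)
    have hδ : Cfsg.hermForm m F q b a - Cfsg.hermForm m F q a b = d := by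
      rw [← hs.symm b a, hba, map_mul, hσd]
      linear_combination d * ht
    refine ⟨b, ψ ⟨d, hd⟩, hψd, ?_⟩
    have e : (⟨hK.rad b, hK.rad_mem_cent b⟩ * ⟨hK.rad a, hK.rad_mem_cent a⟩ : hK.cent) =
        ⟨hK.z ⟨d, hd⟩, hK.z_mem_cent _⟩ * (⟨hK.rad a, hK.rad_mem_cent a⟩ * ⟨hK.rad b, hK.rad_mem_cent b⟩) := by
      refine Subtype.ext (Subtype.ext (Prod.ext ?_ (one_mul _).symm))
      show uT hs b _ (fill_spec b) * uT hs a _ (fill_spec a) =
        zT hs _ * (uT hs a _ (fill_spec a) * uT hs b _ (fill_spec b))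
      rw [zT, uT_mul, uT_mul, uT_mul]
      exact uT_congr hs (by abel) (by
        show _ = d + _ - _
        rw [hs.zero_right]
        linear_combination hδ)
    rw [UData.radRep, UData.radRep, ← map_mul, e, map_mul, map_mul, hK.centRep_z, smul_mul_assoc, one_mul]

end Cfsg.Agent.Lib.MinDegree
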