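import Mathlib
import Cfsg.Agent.Lib.MinDegree.UnitaryBound

/-!
The induction step for the unitary degree bound.
-/

set_option autoImplicit false

namespace Cfsg.Agent.Lib.MinDegree

open Classical Module
open scoped ComplexConjugate

universe u

variable {F : Type u} [Field F] [Fintype F] {q : ℕ} {hF : Fintype.card F = q ^ 2} {m : ℕ} {A : Type u} [Group A]

instance finiteLinearEquiv {V : Type*} [AddCommGroup V] [Module F V] [Finite V] : Finite (V ≃ₗ[F] V) :=
  Finite.of_injective _ DFunLike.coe_injective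

theorem suTarget_le (hq : 2 ≤ q) : ∀ m, suTarget q m ≤ (q - 1) * (2 * q ^ m)
  | 0 => by simp [suTarget]; omega
  | 1 => by
    rw [suTarget, pow_one]
    exact Nat.mul_le_mul_left _ (by omega)
  | m + 2 => by
    have h := suTarget_le hq m
    rw [suTarget]
    have h1 : 2 * q ^ m ≤ q ^ (m + 2) := by
      rw [pow_add, mul_comm]
      exact Nat.mul_le_mul_left _ (by nlinarith)
    have h2 := Nat.mul_le_mul_left (q - 1) h1
    have h3 : (q - 1) * (2 * q ^ (m + 2)) = 2 * ((q - 1) * q ^ (m + 2)) := by ring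
    omega

/-- The basic counts. -/
theorem exists_eig_dims {K : Subgroup ((HSpace F m ≃ₗ[F] HSpace F m) × A)} (hK : UData hF m K) {U : Type}
    [AddCommGroup U] [Module ℂ U] [FiniteDimensional ℂ U] (ρ : K →* Module.End ℂ U)
    (hne : ∃ c, ρ (hK.z c) ≠ 1) :
    ∃ D : ℕ, 1 ≤ D ∧
      (∀ ψ : AddChar (skew (Forms.qPowHom hF)) ℂ, ψ ≠ 0 → finrank ℂ (eigSpace (fun c => ρ (hK.z c)) ψ) = D) ∧
      finrank ℂ U = finrank ℂ (eigSpace (fun c => ρ (hK.z c)) (0 : AddChar (skew (Forms.qPowHom hF)) ℂ)) + (q - 1) * D ∧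
      ∀ c, c ≠ 0 → LinearMap.trace ℂ U (ρ (hK.z c)) =
        (finrank ℂ (eigSpace (fun c => ρ (hK.z c)) (0 : AddChar (skew (Forms.qPowHom hF)) ℂ)) : ℂ) - D := by
  classical
  haveI : Fintype (skew (Forms.qPowHom hF)) := Fintype.ofFinite _
  have hcard : Fintype.card (skew (Forms.qPowHom hF)) = q := by rw [← Nat.card_eq_fintype_card, card_skew hF]
  obtain ⟨ψ1, hψ1, hne1⟩ : ∃ ψ : AddChar (skew (Forms.qPowHom hF)) ℂ, ψ ≠ 0 ∧ eigSpace (fun c => ρ (hK.z c)) ψ ≠ ⊥ := by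
    by_contra h
    push Not at h
    obtain ⟨c, hc⟩ := hne
    exact hc (eq_one_of_forall_eq_bot (z := fun c => ρ (hK.z c)) (rep_z_zero hK ρ) (rep_z_add hK ρ) h c)
  set D := finrank ℂ (eigSpace (fun c => ρ (hK.z c)) ψ1)
  have hD : ∀ ψ, ψ ≠ 0 → finrank ℂ (eigSpace (fun c => ρ (hK.z c)) ψ) = D := fun ψ hψ =>
    finrank_eig_eq hK ρ hψ hψ1
  have hsplit : ∀ f : AddChar (skew (Forms.qPowHom hF)) ℂ → ℂ, ∑ ψ, f ψ = f 0 + ∑ ψ ∈ Finset.univ.erase 0, f ψ :=
    fun f => (Finset.add_sum_erase _ _ (Finset.mem_univ _)).symm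
  refine ⟨D, Nat.one_le_iff_ne_zero.2 fun h => hne1 (Submodule.finrank_eq_zero.1 h), hD, ?_, fun c hc => ?_⟩
  · refine (Nat.cast_inj (R := ℂ)).1 ?_
    rw [← sum_finrank (z := fun c => ρ (hK.z c)) (rep_z_zero hK ρ) (rep_z_add hK ρ), hsplit,
      Finset.sum_congr rfl fun ψ hψ => by rw [hD ψ (Finset.ne_of_mem_erase hψ)], Finset.sum_const,
      Finset.card_erase_of_mem (Finset.mem_univ _), Finset.card_univ, AddChar.card_eq, hcard, nsmul_eq_mul,
      Nat.cast_add, Nat.cast_mul]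
  · have hM : ∀ a, ρ (hK.z a) * ρ (hK.z c) = ρ (hK.z c) * ρ (hK.z a) := fun a => by
      rw [← map_mul, ← map_mul, ← hK.z_add, ← hK.z_add, add_comm]
    rw [trace_eq_sum (z := fun c => ρ (hK.z c)) (rep_z_zero hK ρ) (rep_z_add hK ρ) hM]
    have hres : ∀ ψ, LinearMap.trace ℂ (eigSpace (fun c => ρ (hK.z c)) ψ)
        ((ρ (hK.z c)).restrict fun _ hu => apply_mem_eigSpace hM hu) =
          ψ c * (finrank ℂ (eigSpace (fun c => ρ (hK.z c)) ψ) : ℂ) := fun ψ => by
      rw [show (ρ (hK.z c)).restrict (fun _ hu => apply_mem_eigSpace hM hu) = ψ c • (1 : Module.End ℂ (eigSpace (fun c => ρ (hK.z c)) ψ)) from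
        LinearMap.ext fun u => Subtype.ext (u.2 c), map_smul, LinearMap.trace_one, smul_eq_mul]
    rw [Finset.sum_congr rfl fun ψ _ => hres ψ, hsplit,
      Finset.sum_congr rfl fun ψ hψ => by rw [hD ψ (Finset.ne_of_mem_erase hψ)], ← Finset.sum_mul,
      Finset.sum_erase_eq_sub (Finset.mem_univ _), AddChar.sum_apply_eq_ite, if_neg hc, AddChar.zero_apply]
    ring

theorem rad_bound {K : Subgroup ((HSpace F m ≃ₗ[F] HSpace F m) × A)} (hK : UData hF m K) {U : Type}
    [AddCommGroup U] [Module ℂ U] [FiniteDimensional ℂ U] (ρ : K →* Module.End ℂ U)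
    {ψ : AddChar (skew (Forms.qPowHom hF)) ℂ} (hψ : ψ ≠ 0) (hne : eigSpace (fun c => ρ (hK.z c)) ψ ≠ ⊥) :
    q ^ m ≤ finrank ℂ (eigSpace (fun c => ρ (hK.z c)) ψ) := by
  classical
  haveI := Submodule.nontrivial_iff_ne_bot.2 hne
  have h := (hK.radRep_heis ρ hψ).card_le
  rw [Fintype.card_fun, Fintype.card_fin, hF, ← pow_mul, mul_comm 2 m, pow_mul] at h
  by_contra hlt
  have hlt' := not_le.1 hlt
  rw [_root_.sq] at h
  exact absurd h (not_le.2 (Nat.mul_lt_mul'' hlt' hlt'))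

/-- The inner root element, as an element of `K`. -/
noncomputable def innerZ {K : Subgroup ((HSpace F (m + 2) ≃ₗ[F] HSpace F (m + 2)) × A)} (hK : UData hF (m + 2) K)
    (e : HSpace F m ≃ₗ[F] (Fin (m + 2) → F))
    (he : ∀ p p', Cfsg.hermForm (m + 2) F q (e p) (e p') = hForm hF m p p')
    (c : skew (Forms.qPowHom hF)) : K :=
  hK.lift (uInd (autConj e (zT (hermSpace_std hF m) c)))
    (uInd_uGroup (hermSpace_std hF (m + 2)) (autConj_mem_uGroup (hermSpace_std hF m).ext (hermSpace_std hF (m + 2)) e he (zT_mem c)))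

variable {K : Subgroup ((HSpace F (m + 2) ≃ₗ[F] HSpace F (m + 2)) × A)} (hK : UData hF (m + 2) K)
  (e : HSpace F m ≃ₗ[F] (Fin (m + 2) → F))
  (he : ∀ p p', Cfsg.hermForm (m + 2) F q (e p) (e p') = hForm hF m p p')

include he in
theorem innerMap_apply (c : skew (Forms.qPowHom hF)) (w : Fin (m + 2) → F) :
    autConj e (zT (hermSpace_std hF m) c) w = w + ((c : F) * Cfsg.hermForm (m + 2) F q w (e (1, 0, 0))) • e (1, 0, 0) := by
  obtain ⟨p, rfl⟩ := e.surjective w
  rw [autConj_apply, e.symm_apply_apply, zT_apply, he, ← map_smul, ← map_add]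
  congr 1
  ext <;> simp [uExt, (hermSpace_std hF m).zero_right, -Forms.qPowHom_apply]

include he in
theorem innerMap_mem (c : skew (Forms.qPowHom hF)) :
    autConj e (zT (hermSpace_std hF m) c) ∈ biIsoGroup (Cfsg.hermForm (m + 2) F q) :=
  uGroup_le (hermSpace_std hF (m + 2)) (autConj_mem_uGroup (hermSpace_std hF m).ext _ e he (zT_mem c))

theorem innerZ_mem_cent (c : skew (Forms.qPowHom hF)) : innerZ hK e he c ∈ hK.cent := by
  refine Subgroup.mem_centralizer_iff.2 ?_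
  rintro _ ⟨a, rfl⟩
  refine Subtype.ext (Prod.ext (LinearEquiv.ext fun p => ?_) (show (1 : A) * 1 = 1 * 1 from rfl))
  show zT (hermSpace_std hF (m + 2)) a (uInd _ p) = uInd _ (zT (hermSpace_std hF (m + 2)) a p)
  rw [zT_apply, uInd_apply, zT_apply, uInd_apply]

theorem exists_conj_innerZ {c : skew (Forms.qPowHom hF)} (hc : c ≠ 0) :
    ∃ (g : K) (d : skew (Forms.qPowHom hF)), d ≠ 0 ∧ g * innerZ hK e he c * g⁻¹ = hK.z d := by
  set hs := hermSpace_std hF (m + 2)
  set hs0 := hermSpace_std hF m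
  have hu0 : Cfsg.hermForm (m + 2) F q (e ((1 : F), (0 : F), (0 : Fin m → F))) (e ((1 : F), (0 : F), (0 : Fin m → F))) = 0 := by
    rw [he]; simp [uExt, hs0.zero_left, -Forms.qPowHom_apply]
  have hE : hForm hF (m + 2) (0, 0, (e ((1 : F), (0 : F), (0 : Fin m → F)))) (0, 0, (e ((1 : F), (0 : F), (0 : Fin m → F)))) = 0 := by simp [uExt, hu0]
  have hE0 : ((0 : F), (0 : F), (e ((1 : F), (0 : F), (0 : Fin m → F)))) ≠ 0 := fun h => by
    have h1 : e.symm (e ((1 : F), (0 : F), (0 : Fin m → F))) = e.symm 0 := congrArg e.symm (congrArg (fun p : HSpace F (m + 2) => p.2.2) h)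
    rw [e.symm_apply_apply, map_zero] at h1
    exact one_ne_zero (congrArg Prod.fst h1)
  obtain ⟨g, hg, x, hx, hgE⟩ := exists_uGroup_line hs _ hE hE0
  have hd : x * (Forms.qPowHom hF) x * (c : F) ∈ skew (Forms.qPowHom hF) := by
    have h1 : (Forms.qPowHom hF) (c : F) = -(c : F) := eq_neg_of_add_eq_zero_right (mem_skew.1 c.2)
    rw [mem_skew, map_mul, map_mul, hs.invol, h1]; ring
  refine ⟨hK.lift g hg, ⟨_, hd⟩, fun h => ?_, ?_⟩
  · have h' : x * (Forms.qPowHom hF) x * (c : F) = 0 := congrArg Subtype.val h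
    rcases mul_eq_zero.1 h' with h'' | h''
    · rcases mul_eq_zero.1 h'' with h''' | h'''
      · exact hx h'''
      · exact (map_ne_zero (Forms.qPowHom hF)).2 hx h'''
    · exact hc (Subtype.ext h'')
  · rw [mul_inv_eq_iff_eq_mul]
    refine Subtype.ext (Prod.ext (LinearEquiv.ext fun p => ?_) (show (1 : A) * 1 = 1 * 1 from rfl))
    show g (uInd _ p) = zT hs ⟨x * (Forms.qPowHom hF) x * (c : F), hd⟩ (g p)
    have hgp := uGroup_le hs.ext hg p ((0 : F), (0 : F), (e ((1 : F), (0 : F), (0 : Fin m → F))))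
    rw [hgE] at hgp
    have h1 : (g p).2.1 * (Forms.qPowHom hF) x = Cfsg.hermForm (m + 2) F q p.2.2 (e ((1 : F), (0 : F), (0 : Fin m → F))) := by
      simpa [uExt, hs.zero_right, -Forms.qPowHom_apply] using hgp
    rw [uInd_apply, innerMap_apply e he, zT_apply, show ((p.1, p.2.1, p.2.2 + ((c : F) * Cfsg.hermForm (m + 2) F q p.2.2 (e ((1 : F), (0 : F), (0 : Fin m → F)))) • (e ((1 : F), (0 : F), (0 : Fin m → F)))) : HSpace F (m + 2)) =
      p + ((c : F) * Cfsg.hermForm (m + 2) F q p.2.2 (e ((1 : F), (0 : F), (0 : Fin m → F)))) • ((0 : F), (0 : F), (e ((1 : F), (0 : F), (0 : Fin m → F)))) by ext <;> simp,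
      map_add, map_smul, hgE, ← h1]
    ext <;> simp
    ring

include hF he in
theorem card_orth :
    Nat.card {w : Fin (m + 2) → F // Cfsg.hermForm (m + 2) F q w (e (1, 0, 0)) = 0} * q ^ 2 = q ^ (2 * (m + 2)) := by
  let φ : (Fin (m + 2) → F) →+ F := AddMonoidHom.mk' (fun w => Cfsg.hermForm (m + 2) F q w (e (1, 0, 0)))
    fun a b => (hermSpace_std hF (m + 2)).add_left a b _
  have hsurj : Function.Surjective φ := fun a => by
    refine ⟨a • e (0, 1, 0), ?_⟩
    show Cfsg.hermForm (m + 2) F q (a • e (0, 1, 0)) (e (1, 0, 0)) = a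
    rw [(hermSpace_std hF (m + 2)).smul_left, he]
    simp [uExt, (hermSpace_std hF m).zero_left, -Forms.qPowHom_apply]
  have h := φ.ker.card_mul_index
  rw [AddSubgroup.index_ker, AddMonoidHom.range_eq_top.2 hsurj, AddSubgroup.card_top,
    Nat.card_eq_fintype_card (α := F), hF, Nat.card_fun, Nat.card_fin, Nat.card_eq_fintype_card (α := F), hF,
    ← pow_mul] at h
  exact h

theorem trace_innerZ_le [Finite A] {U : Type} [AddCommGroup U] [Module ℂ U] [FiniteDimensional ℂ U]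
    (ρ : K →* Module.End ℂ U) {ψ : AddChar (skew (Forms.qPowHom hF)) ℂ} (hψ : ψ ≠ 0)
    {D : ℕ} (hD : finrank ℂ (eigSpace (fun c => ρ (hK.z c)) ψ) = D) (hD1 : 1 ≤ D) (hsmall : D < 2 * q ^ (m + 2))
    {c : skew (Forms.qPowHom hF)} (hc : c ≠ 0) :
    ‖LinearMap.trace ℂ _ (hK.centRep ρ ψ ⟨innerZ hK e he c, innerZ_mem_cent hK e he c⟩)‖ * q ≤ D := by
  classical
  set hs := hermSpace_std hF (m + 2)
  set t := autConj e (zT (hermSpace_std hF m) c) with ht
  have htmem := innerMap_mem e he c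
  haveI : Nontrivial (eigSpace (fun c => ρ (hK.z c)) ψ) :=
    Module.nontrivial_of_finrank_pos (R := ℂ) (by omega)
  have hcardV : Fintype.card (Fin (m + 2) → F) = q ^ (2 * (m + 2)) := by
    rw [Fintype.card_fun, Fintype.card_fin, hF, ← pow_mul]
  set x : hK.cent := ⟨innerZ hK e he c, innerZ_mem_cent hK e he c⟩
  have hA : hK.centRep ρ ψ x * hK.centRep ρ ψ x⁻¹ = 1 := by rw [← map_mul, mul_inv_cancel, map_one]
  have hδ : ∀ a, fill hF a - fill hF (t a) ∈ skew (Forms.qPowHom hF) := fun a => by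
    have h1 := fill_spec (hF := hF) a
    have h2 := fill_spec (hF := hF) (t a)
    rw [htmem] at h2
    rw [mem_skew, map_sub]
    linear_combination h1 - h2
  have hAR : ∀ a, hK.centRep ρ ψ x * hK.radRep ρ ψ a =
      ψ ⟨_, hδ a⟩ • (hK.radRep ρ ψ (t a) * hK.centRep ρ ψ x) := fun a => by
    have e1 : x * (⟨hK.rad a, hK.rad_mem_cent a⟩ : hK.cent) =
        ⟨hK.z ⟨_, hδ a⟩, hK.z_mem_cent _⟩ * (⟨hK.rad (t a), hK.rad_mem_cent _⟩ * x) := by
      refine Subtype.ext (Subtype.ext (Prod.ext (LinearEquiv.ext fun p => ?_) (show (1 : A) * 1 = 1 * (1 * 1) by simp)))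
      show uInd t (uT hs a _ (fill_spec a) p) = zT hs _ (uT hs (t a) _ (fill_spec _) (uInd t p))
      rw [zT_apply, uT_apply, uInd_apply, uT_apply, uInd_apply, htmem]
      refine Prod.ext ?_ (Prod.ext rfl ?_)
      · show p.1 + fill hF a * p.2.1 - _ = p.1 + fill hF (t a) * p.2.1 - _ + (fill hF a - fill hF (t a)) * p.2.1
        ring
      · exact (map_add t _ _).trans (by rw [map_smul])
    rw [UData.radRep, UData.radRep, ← map_mul, e1, map_mul, map_mul, hK.centRep_z, smul_mul_assoc, one_mul]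
  have h := (hK.radRep_heis ρ hψ).norm_trace_mul_trace_le
    (by rw [hD, hcardV, mul_comm 2, pow_mul, _root_.sq, show 4 * (q ^ (m + 2) * q ^ (m + 2)) = 2 * q ^ (m + 2) * (2 * q ^ (m + 2)) by ring]
        exact Nat.mul_lt_mul'' hsmall hsmall)
    hA (fun a => t a) (fun a => ψ ⟨_, hδ a⟩) hAR (fun a _ => AddChar.norm_apply _ _)
  have hconj : LinearMap.trace ℂ _ (hK.centRep ρ ψ x⁻¹) = conj (LinearMap.trace ℂ _ (hK.centRep ρ ψ x)) :=
    Chars.char_inv (G := hK.cent) (hK.centRep ρ ψ) x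
  rw [hconj, norm_mul, Complex.norm_conj, hD] at h
  have hfix : Nat.card {a : Fin (m + 2) → F // t a = a} * q ^ 2 = q ^ (2 * (m + 2)) := by
    rw [← card_orth e he]
    congr 1
    refine Nat.card_congr (Equiv.subtypeEquivRight fun w => ?_)
    rw [ht, innerMap_apply e he, add_eq_left, smul_eq_zero, mul_eq_zero]
    refine ⟨fun h' => ?_, fun h' => Or.inl (Or.inr h')⟩
    rcases h' with (h' | h') | h'
    · exact absurd (Subtype.ext h') hc
    · exact h'
    · exact absurd h' fun h0 => one_ne_zero (congrArg Prod.fst (e.injective (h0.trans (map_zero e).symm)))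
  set T := ‖LinearMap.trace ℂ _ (hK.centRep ρ ψ x)‖ with hT
  have hfix' : (Nat.card {a : Fin (m + 2) → F // t a = a} : ℝ) * (q : ℝ) ^ 2 = (q : ℝ) ^ (2 * (m + 2)) := by
    exact_mod_cast hfix
  have hVR : (Fintype.card (Fin (m + 2) → F) : ℝ) = (q : ℝ) ^ (2 * (m + 2)) := by exact_mod_cast hcardV
  rw [hVR] at h
  have hq0 : (0 : ℝ) < q := by
    have := Forms.two_le_of_card_sq hF
    exact_mod_cast (show 0 < q by omega)
  have h2 : (T * q) ^ 2 ≤ (D : ℝ) ^ 2 := by
    refine le_of_mul_le_mul_right ?_ (pow_pos hq0 (2 * (m + 2)))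
    calc (T * q) ^ 2 * (q : ℝ) ^ (2 * (m + 2)) = T * T * (q : ℝ) ^ (2 * (m + 2)) * (q : ℝ) ^ 2 := by ring
      _ ≤ (Nat.card {a : Fin (m + 2) → F // t a = a} : ℝ) * ((D : ℝ) * D) * (q : ℝ) ^ 2 :=
          mul_le_mul_of_nonneg_right h (by positivity)
      _ = (D : ℝ) ^ 2 * (q : ℝ) ^ (2 * (m + 2)) := by rw [← hfix']; ring
  exact (abs_le_of_sq_le_sq' h2 (by positivity)).2

end Cfsg.Agent.Lib.MinDegree
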