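import Mathlib
import Cfsg.Agent.Lib.MinDegree.UnitaryStep

/-!
The smallest degree of a non-trivial representation of a special unitary group: lower bound.
-/

set_option autoImplicit false

namespace Cfsg.Agent.Lib.MinDegree

open Classical Module

universe u

variable {F : Type u} [Field F] [Fintype F] {q : ℕ}

theorem exists_scale (hF : Fintype.card F = q ^ 2) (m : ℕ) {k : F} (hk : k ≠ 0)
    (hks : Forms.qPowHom hF k = k) :
    ∃ g ∈ biIsoGroup (hForm hF m), ∃ r : F, r ≠ 0 ∧
      g (1, 0, 0) = r • ((1 : F), (0 : F), (0 : Fin m → F)) ∧ r * Forms.qPowHom hF r = k ∧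
      ((1 ≤ m ∧ LinearEquiv.det g = 1) ∨
        ∃ r' : Fˣ, (r' : F) = r ∧ LinearEquiv.det g = r' * (Units.map (Forms.qPowHom hF).toMonoidHom r')⁻¹) := by
  obtain ⟨r, hr⟩ := exists_norm hF hk hks
  have hr0 : r ≠ 0 := fun h => hk (by rw [← hr, h, zero_mul])
  rcases m with _ | m
  · refine ⟨levHom _ _ (Units.mk0 r hr0, 1), levHom_mem (hermSpace_std hF 0) (one_mem _), r, hr0, ?_, hr,
      Or.inr ⟨Units.mk0 r hr0, rfl, ?_⟩⟩
    · rw [levHom_apply]; ext <;> simp
    · rw [det_levHom, map_one, mul_one]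
  · obtain ⟨v, hv⟩ := exists_unit_vector hF m
    obtain ⟨g, hg, hge⟩ := exists_uGroup_scale (hermSpace_std hF (m + 1)) hv r hr0
    exact ⟨g, uGroup_le _ hg, r, hr0, hge, hr, Or.inl ⟨by omega, det_eq_one_of_mem_uGroup _ hg⟩⟩

section Step

variable {hF : Fintype.card F = q ^ 2} {m : ℕ} {A : Type u} [Group A]
  (e : HSpace F m ≃ₗ[F] (Fin (m + 2) → F))

/-- The Levi embedding. -/
noncomputable def levEmb (hF : Fintype.card F = q ^ 2) (e : HSpace F m ≃ₗ[F] (Fin (m + 2) → F)) :
    (HSpace F m ≃ₗ[F] HSpace F m) × (Fˣ × A) →* (HSpace F (m + 2) ≃ₗ[F] HSpace F (m + 2)) × A :=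
  MonoidHom.prod
    ((levHom (Forms.qPowHom hF) (Fin (m + 2) → F)).comp (MonoidHom.prod
      ((MonoidHom.fst Fˣ A).comp (MonoidHom.snd _ (Fˣ × A)))
      ((autConj e).toMonoidHom.comp (MonoidHom.fst _ (Fˣ × A)))))
    ((MonoidHom.snd Fˣ A).comp (MonoidHom.snd _ (Fˣ × A)))

theorem levEmb_apply (x : (HSpace F m ≃ₗ[F] HSpace F m) × (Fˣ × A)) :
    levEmb hF e x = (levHom (Forms.qPowHom hF) _ (x.2.1, autConj e x.1), x.2.2) := rfl

variable {K : Subgroup ((HSpace F (m + 2) ≃ₗ[F] HSpace F (m + 2)) × A)}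

/-- The Levi group of `K`. -/
noncomputable def levGroup (hF : Fintype.card F = q ^ 2) (e : HSpace F m ≃ₗ[F] (Fin (m + 2) → F))
    (K : Subgroup ((HSpace F (m + 2) ≃ₗ[F] HSpace F (m + 2)) × A)) :
    Subgroup ((HSpace F m ≃ₗ[F] HSpace F m) × (Fˣ × A)) :=
  (biIsoGroup (hForm hF m)).comap (MonoidHom.fst _ _) ⊓ K.comap (levEmb hF e)

theorem levGroup_data (hK : UData hF (m + 2) K)
    (he : ∀ p p', Cfsg.hermForm (m + 2) F q (e p) (e p') = hForm hF m p p') :
    UData hF m (levGroup hF e K) := by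
  have hmem : ∀ {g : HSpace F m ≃ₗ[F] HSpace F m}, g ∈ biIsoGroup (hForm hF m) →
      autConj e g ∈ biIsoGroup (Cfsg.hermForm (m + 2) F q) := fun {g} hg a b => by
    rw [autConj_apply, autConj_apply, he, hg, ← he, e.apply_symm_apply, e.apply_symm_apply]
  have hdet : ∀ g : HSpace F m ≃ₗ[F] HSpace F m,
      LinearEquiv.det (autConj e g) = LinearEquiv.det g := fun g => LinearEquiv.det_conj g e
  have hone : ∀ g ∈ biIsoGroup (hForm hF m), LinearEquiv.det g = 1 → (g, (1 : Fˣ × A)) ∈ levGroup hF e K := by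
    intro g hg hd
    refine Subgroup.mem_inf.2 ⟨hg, Subgroup.mem_comap.2 (hK.det _ (levHom_mem (hermSpace_std hF (m + 2)) (hmem hg)) ?_)⟩
    show LinearEquiv.det (levHom (Forms.qPowHom hF) (Fin (m + 2) → F) ((1 : Fˣ), autConj e g)) = 1
    rw [det_levHom, hdet, hd]
    simp
  refine ⟨fun x hx => (Subgroup.mem_inf.1 hx).1, hone, fun k hk hks => ?_⟩
  obtain ⟨g, hg, r, hr0, hge, hr, ⟨-, hd⟩ | ⟨r', hr', hd⟩⟩ := exists_scale hF m hk hks
  · exact ⟨(g, 1), hone g hg hd, r, hge, hr⟩
  · refine ⟨(g, (r'⁻¹, 1)), Subgroup.mem_inf.2 ⟨hg, Subgroup.mem_comap.2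
      (hK.det _ (levHom_mem (hermSpace_std hF (m + 2)) (hmem hg)) ?_)⟩, r, hge, hr⟩
    show LinearEquiv.det (levHom (Forms.qPowHom hF) (Fin (m + 2) → F) (r'⁻¹, autConj e g)) = 1
    rw [det_levHom, hdet, hd, map_inv, inv_inv]
    show r'⁻¹ * _ * (r' * _) = 1
    rw [mul_mul_mul_comm, inv_mul_cancel, mul_inv_cancel, one_mul]

/-- The Levi group inside `K`. -/
noncomputable def levIncl : levGroup hF e K →* K :=
  ((levEmb hF e).comp (levGroup hF e K).subtype).codRestrict K
    fun x => (Subgroup.mem_inf.1 x.2).2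

theorem levIncl_apply_one (x : levGroup hF e K) :
    (levIncl e x).1.1 (1, 0, 0) = (x.1.2.1 : F) • ((1 : F), (0 : F), (0 : Fin (m + 2) → F)) := by
  show levHom (Forms.qPowHom hF) _ (x.1.2.1, autConj e x.1.1) (1, 0, 0) = _
  rw [levHom_apply]
  ext <;> simp

theorem levIncl_z (hK : UData hF (m + 2) K)
    (he : ∀ p p', Cfsg.hermForm (m + 2) F q (e p) (e p') = hForm hF m p p')
    (hK' : UData hF m (levGroup hF e K)) (c : skew (Forms.qPowHom hF)) :
    levIncl e (hK'.z c) = innerZ hK e he c :=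
  Subtype.ext (Prod.ext (levHom_one _) rfl)

end Step

/-- A representation of the groups at hand moving a central root element has at least the target degree. -/
theorem suTarget_le_finrank (hF : Fintype.card F = q ^ 2) :
    ∀ (m : ℕ) (A : Type u) [Group A] [Finite A] (K : Subgroup ((HSpace F m ≃ₗ[F] HSpace F m) × A))
      (hK : UData hF m K) (U : Type) [AddCommGroup U] [Module ℂ U] [FiniteDimensional ℂ U]
      (ρ : K →* Module.End ℂ U), (∃ c, ρ (hK.z c) ≠ 1) → suTarget q m ≤ finrank ℂ U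
  | 0, A, _, _, K, hK, U, _, _, _, ρ, hne => by
    obtain ⟨D, hD1, -, hk, -⟩ := exists_eig_dims hK ρ hne
    have := Nat.le_mul_of_pos_right (q - 1) hD1
    rw [hk, suTarget]
    omega
  | 1, A, _, _, K, hK, U, _, _, _, ρ, hne => by
    classical
    obtain ⟨D, hD1, hD, hk, -⟩ := exists_eig_dims hK ρ hne
    haveI : Fintype (skew (Forms.qPowHom hF)) := Fintype.ofFinite _
    obtain ⟨ψ, hψ⟩ : ∃ ψ : AddChar (skew (Forms.qPowHom hF)) ℂ, ψ ≠ 0 := by
      haveI : Nontrivial (AddChar (skew (Forms.qPowHom hF)) ℂ) := by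
        rw [← Fintype.one_lt_card_iff_nontrivial, AddChar.card_eq, ← Nat.card_eq_fintype_card, card_skew hF]
        exact Forms.two_le_of_card_sq hF
      exact exists_ne _
    have hb := rad_bound hK ρ hψ (fun h => by
      have := hD ψ hψ
      rw [h, finrank_bot] at this
      omega)
    rw [hD ψ hψ, pow_one] at hb
    have := Nat.mul_le_mul_left (q - 1) hb
    rw [hk, suTarget]
    omega
  | m + 2, A, _, _, K, hK, U, _, _, _, ρ, hne => by
    classical
    have hq := Forms.two_le_of_card_sq hF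
    obtain ⟨D, hD1, hD, hk, htr⟩ := exists_eig_dims hK ρ hne
    haveI : Fintype (skew (Forms.qPowHom hF)) := Fintype.ofFinite _
    have hcard : Fintype.card (skew (Forms.qPowHom hF)) = q := by rw [← Nat.card_eq_fintype_card, card_skew hF]
    obtain ⟨ψ, hψ⟩ : ∃ ψ : AddChar (skew (Forms.qPowHom hF)) ℂ, ψ ≠ 0 := by
      haveI : Nontrivial (AddChar (skew (Forms.qPowHom hF)) ℂ) := by
        rw [← Fintype.one_lt_card_iff_nontrivial, AddChar.card_eq, hcard]
        exact hq
      exact exists_ne _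
    have hbot : ∀ φ, φ ≠ 0 → eigSpace (fun c => ρ (hK.z c)) φ ≠ ⊥ := fun φ hφ h => by
      have := hD φ hφ
      rw [h, finrank_bot] at this
      omega
    have hDq : q ^ (m + 2) ≤ D := (hD ψ hψ) ▸ rad_bound hK ρ hψ (hbot ψ hψ)
    by_cases hbig : 2 * q ^ (m + 2) ≤ D
    · have h1 := suTarget_le hq (m + 2)
      have h2 := Nat.mul_le_mul_left (q - 1) hbig
      omega
    obtain ⟨e, he⟩ := exists_split hF m
    have hK' := levGroup_data e hK he
    set W := eigSpace (fun c => ρ (hK.z c)) (0 : AddChar (skew (Forms.qPowHom hF)) ℂ) with hW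
    have hinv : ∀ x : levGroup hF e K, ∀ u ∈ W, ρ (levIncl e x) u ∈ W := by
      intro x u hu a
      set r : F := (x.1.2.1 : F)
      have hr0 : r ≠ 0 := Units.ne_zero _
      have hs0 : Forms.qPowHom hF r ≠ 0 := (map_ne_zero _).2 hr0
      have hc : (a : F) / (r * Forms.qPowHom hF r) ∈ skew (Forms.qPowHom hF) := by
        have h1 : Forms.qPowHom hF (a : F) = -(a : F) := eq_neg_of_add_eq_zero_right (mem_skew.1 a.2)
        rw [mem_skew, map_div₀, map_mul, h1, (hermSpace_std hF m).invol]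
        field_simp
        ring
      have h2 := hK.conj_z (levIncl e x) (levIncl_apply_one e x) ⟨_, hc⟩ a
        (by rw [mul_div_cancel₀ _ (mul_ne_zero hr0 hs0)])
      rw [mul_inv_eq_iff_eq_mul] at h2
      show ρ (hK.z a) (ρ (levIncl e x) u) = _
      rw [← Module.End.mul_apply, ← map_mul, ← h2, map_mul, Module.End.mul_apply, hu ⟨_, hc⟩,
        AddChar.zero_apply, AddChar.zero_apply, one_smul, one_smul]
    let ρ' : levGroup hF e K →* Module.End ℂ W :=
      { toFun := fun x => (ρ (levIncl e x)).restrict (hinv x)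
        map_one' := LinearMap.ext fun v => Subtype.ext (by
          show ρ (levIncl e 1) v.1 = v.1
          rw [map_one, map_one]; rfl)
        map_mul' := fun x y => LinearMap.ext fun v => Subtype.ext (by
          show ρ (levIncl e (x * y)) v.1 = _
          rw [map_mul, map_mul]; rfl) }
    obtain ⟨c, hc⟩ : ∃ c : skew (Forms.qPowHom hF), c ≠ 0 := by
      haveI : Nontrivial (skew (Forms.qPowHom hF)) := by
        rw [← Fintype.one_lt_card_iff_nontrivial, hcard]; exact hq
      exact exists_ne _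
    have hne' : ρ' (hK'.z c) ≠ 1 := by
      intro h1
      have hM : ∀ a, ρ (hK.z a) * ρ (innerZ hK e he c) = ρ (innerZ hK e he c) * ρ (hK.z a) := fun a => by
        rw [← map_mul, ← map_mul, Subgroup.mem_centralizer_iff.1 (innerZ_mem_cent hK e he c) _ ⟨a, rfl⟩]
      have hsum := trace_eq_sum (z := fun a => ρ (hK.z a)) (rep_z_zero hK ρ) (rep_z_add hK ρ) hM
      rw [← Finset.add_sum_erase _ _ (Finset.mem_univ (0 : AddChar (skew (Forms.qPowHom hF)) ℂ))] at hsum
      have h0 : LinearMap.trace ℂ W ((ρ (innerZ hK e he c)).restrict fun _ hu => apply_mem_eigSpace hM hu) =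
          (finrank ℂ W : ℂ) := by
        rw [← LinearMap.trace_one (R := ℂ) (M := W), ← h1]
        congr 1
        refine LinearMap.ext fun v => Subtype.ext ?_
        show ρ (innerZ hK e he c) v.1 = ρ (levIncl e (hK'.z c)) v.1
        rw [levIncl_z e hK he hK' c]
      obtain ⟨g, d, hd, hgd⟩ := exists_conj_innerZ hK e he hc
      have h2 : LinearMap.trace ℂ U (ρ (innerZ hK e he c)) = LinearMap.trace ℂ U (ρ (hK.z d)) := by
        rw [← hgd, map_mul, LinearMap.trace_mul_comm, ← map_mul]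
        congr 2
        group
      rw [h2, htr d hd, h0, sub_eq_add_neg, add_right_inj] at hsum
      have h3 := congrArg norm hsum
      rw [norm_neg, Complex.norm_natCast] at h3
      have h4 := norm_sum_le (Finset.univ.erase (0 : AddChar (skew (Forms.qPowHom hF)) ℂ)) fun φ =>
        LinearMap.trace ℂ (eigSpace (fun a => ρ (hK.z a)) φ)
          ((ρ (innerZ hK e he c)).restrict fun _ hu => apply_mem_eigSpace hM hu)
      rw [← h3] at h4
      have h4' := mul_le_mul_of_nonneg_right h4 (Nat.cast_nonneg (α := ℝ) q)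
      rw [Finset.sum_mul] at h4'
      have h5 := le_trans h4' (Finset.sum_le_card_nsmul _ _ (D : ℝ) fun φ hφ =>
          trace_innerZ_le hK e he ρ (Finset.ne_of_mem_erase hφ) (hD φ (Finset.ne_of_mem_erase hφ)) hD1
            (by omega) hc)
      rw [Finset.card_erase_of_mem (Finset.mem_univ _), Finset.card_univ, AddChar.card_eq, hcard, nsmul_eq_mul,
        Nat.cast_sub (by omega : 1 ≤ q), Nat.cast_one] at h5
      have h6 : (1 : ℝ) ≤ D := by exact_mod_cast hD1
      nlinarith
    have ih := suTarget_le_finrank hF m (Fˣ × A) (levGroup hF e K) hK' W ρ' ⟨c, hne'⟩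
    have h1 := Nat.mul_le_mul_left (q - 1) hDq
    rw [hk, suTarget]
    omega

end Cfsg.Agent.Lib.MinDegree
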