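import Mathlib
import Cfsg.Agent.Lib.MinDegree.UnitaryMain

/-!
The degree bound for `SU_{m+2}(q)`.
-/

set_option autoImplicit false

namespace Cfsg.Agent.Lib.MinDegree

open Classical Module
open scoped Matrix

universe u

theorem not_irreducible_of_trivial {G : Type*} [Group G] {k : ℕ} (hk : 2 ≤ k)
    (ρ : Representation ℂ G (Fin k → ℂ)) (h : ∀ g, ρ g = 1) : ¬ ρ.IsIrreducible := by
  intro hirr
  obtain ⟨v, hv⟩ : ∃ v : Fin k → ℂ, v ≠ 0 := by
    haveI : NeZero k := ⟨by omega⟩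
    exact exists_ne _
  let S : Subrepresentation ρ := ⟨Submodule.span ℂ {v}, fun g w hw => by rw [h g]; exact hw⟩
  have hbt := hirr.eq_bot_or_eq_top S
  rcases hbt with hb | ht
  · have : Submodule.span ℂ {v} = (⊥ : Submodule ℂ (Fin k → ℂ)) := congrArg Subrepresentation.toSubmodule hb
    exact hv (Submodule.span_singleton_eq_bot.1 this)
  · have : Submodule.span ℂ {v} = (⊤ : Submodule ℂ (Fin k → ℂ)) := congrArg Subrepresentation.toSubmodule ht
    have h1 := finrank_span_singleton (K := ℂ) hv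
    rw [this, finrank_top, Module.finrank_fin_fun] at h1
    omega

variable {F : Type u} [Field F] [Fintype F] {q : ℕ}

theorem closed_form (hq : 1 ≤ q) : ∀ m : ℕ,
    (q + 1) * suTarget q m + (if Even m then 1 else q) = q ^ (m + 2)
  | 0 => by
    simp only [suTarget, Even.zero, if_true]
    obtain ⟨p, rfl⟩ := Nat.exists_eq_add_of_le' hq
    simp
    ring
  | 1 => by
    simp only [suTarget, Nat.not_even_one, if_false]
    obtain ⟨p, rfl⟩ := Nat.exists_eq_add_of_le' hq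
    simp
    ring
  | m + 2 => by
    have ih := closed_form hq m
    simp only [suTarget, Nat.even_add, even_two, iff_true]
    obtain ⟨p, rfl⟩ := Nat.exists_eq_add_of_le' hq
    rw [show p + 1 - 1 = p by omega]
    rw [mul_add, add_assoc, ih]
    ring

/-- `SU_{m+2}(q)`, `m ≥ 1`, has no irreducible representation of degree between `2` and the target. -/
theorem su_degree_bound (hF : Fintype.card F = q ^ 2) (m : ℕ) (hm : 1 ≤ m) (h32 : ¬ (m = 1 ∧ q = 2))
    (k : ℕ) (ρ : Representation ℂ (Cfsg.SU (m + 2) F q) (Fin k → ℂ)) (hirr : ρ.IsIrreducible) (hk : 2 ≤ k) :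
    suTarget q m ≤ k := by
  classical
  set hs := hermSpace_std hF m
  obtain ⟨e, φ, he, hφ⟩ := exists_suEquiv hF m
  obtain ⟨v, hv⟩ : ∃ v, Cfsg.hermForm m F q v v = 1 := by
    obtain ⟨j, rfl⟩ := Nat.exists_eq_add_of_le' hm
    exact exists_unit_vector hF j
  let K : Subgroup ((HSpace F m ≃ₗ[F] HSpace F m) × PUnit.{u + 1}) :=
    (biIsoGroup (hForm hF m) ⊓ (LinearEquiv.det (R := F) (M := HSpace F m)).ker).prod ⊤
  have hKd : UData hF m K := by
    refine ⟨fun x hx => (Subgroup.mem_inf.1 (Subgroup.mem_prod.1 hx).1).1,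
      fun g hg hd => Subgroup.mem_prod.2 ⟨Subgroup.mem_inf.2 ⟨hg, hd⟩, Subgroup.mem_top _⟩, fun c hc hcs => ?_⟩
    obtain ⟨r, hr⟩ := exists_norm hF hc hcs
    have hr0 : r ≠ 0 := fun h => hc (by rw [← hr, h, zero_mul])
    obtain ⟨g, hg, hge⟩ := exists_uGroup_scale hs hv r hr0
    exact ⟨(g, 1), Subgroup.mem_prod.2 ⟨Subgroup.mem_inf.2 ⟨uGroup_le _ hg, det_eq_one_of_mem_uGroup _ hg⟩,
      Subgroup.mem_top _⟩, r, hge, hr⟩
  have hmem : ∀ x : K, x.1.1 ∈ uGroup hs.ext := fun x =>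
    mem_uGroup_of_det_step hs (Or.inr ⟨v, hv⟩) (mem_uGroup_of_det hF m)
      (Subgroup.mem_inf.1 (Subgroup.mem_prod.1 x.2).1).1 (Subgroup.mem_inf.1 (Subgroup.mem_prod.1 x.2).1).2
  let ι : K →* uGroup hs.ext :=
    ((MonoidHom.fst _ _).comp K.subtype).codRestrict _ hmem
  let ρ' : K →* Module.End ℂ (Fin k → ℂ) := ρ.comp (φ.symm.toMonoidHom.comp ι)
  by_cases hne : ∃ c, ρ' (hKd.z c) ≠ 1
  · have := suTarget_le_finrank hF m PUnit K hKd (Fin k → ℂ) ρ' hne
    rwa [Module.finrank_fin_fun] at this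
  exfalso
  push Not at hne
  refine not_irreducible_of_trivial hk ρ (fun g => ?_) hirr
  have key : ∀ A ∈ {A : ↥(Cfsg.SU (m + 2) F q) | ∃ (w : Fin (m + 2) → F) (c : F),
      Cfsg.hermForm (m + 2) F q w w = 0 ∧
      ((A : Matrix.SpecialLinearGroup (Fin (m + 2)) F) : Matrix (Fin (m + 2)) (Fin (m + 2)) F)
        = Cfsg.unitaryTransvection (m + 2) q w c}, ρ A = 1 := by
    rintro A ⟨w, c, hw, hA⟩
    have hform : ∀ p, (φ A).1 p = p + (c * hForm hF m p (e.symm w)) • e.symm w := fun p => by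
      apply e.injective
      have h1 := hφ A (e p)
      rw [e.symm_apply_apply] at h1
      rw [← h1, hA, Forms.unitaryTransvection_mulVec, map_add, map_smul, e.apply_symm_apply]
      congr 3
      show _ = uExt (Forms.qPowHom hF) (Cfsg.hermForm m F q) _ _
      rw [← he, e.apply_symm_apply]
    by_cases hw0 : w = 0
    · have : φ A = 1 := Subtype.ext (LinearEquiv.ext fun p => by rw [hform, hw0, map_zero, smul_zero, add_zero]; rfl)
      rw [(map_eq_one_iff φ φ.injective).1 this, map_one]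
    have hw' : hForm hF m (e.symm w) (e.symm w) = 0 := by
      show uExt (Forms.qPowHom hF) (Cfsg.hermForm m F q) _ _ = 0
      rw [← he, e.apply_symm_apply, hw]
    obtain ⟨g0, hg0, x, -, hgw⟩ := exists_uGroup_line hs (e.symm w) hw' (by simpa using hw0)
    have hconj : ∀ p, (g0 * (φ A).1 * g0⁻¹) p =
        (p.1 + c * Forms.qPowHom hF x * x * p.2.1, p.2.1, p.2.2) := fun p => by
      have h2 : hForm hF m (g0⁻¹ p) (e.symm w) = p.2.1 * Forms.qPowHom hF x := by
        have h3 := uGroup_le _ hg0 (g0⁻¹ p) (e.symm w)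
        rw [hgw, show g0 (g0⁻¹ p) = p from g0.apply_symm_apply p] at h3
        show uExt (Forms.qPowHom hF) (Cfsg.hermForm m F q) _ _ = _
        rw [← h3]
        simp [uExt, hs.zero_right, -Forms.qPowHom_apply]
      rw [LinearEquiv.mul_apply, LinearEquiv.mul_apply, hform, map_add, map_smul, hgw,
        show g0 (g0⁻¹ p) = p from g0.apply_symm_apply p, h2]
      ext <;> simp
      ring
    have hd : c * Forms.qPowHom hF x * x ∈ skew (Forms.qPowHom hF) := by
      have h4 := uGroup_le _ (mul_mem (mul_mem hg0 (φ A).2) (inv_mem hg0)) ((0 : F), (1 : F), (0 : Fin m → F))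
        ((0 : F), (1 : F), (0 : Fin m → F))
      rw [hconj] at h4
      rw [mem_skew]
      simpa [uExt, hs.zero_left, -Forms.qPowHom_apply] using h4
    have h5 : (⟨g0, hg0⟩ : uGroup hs.ext) * φ A * ⟨g0, hg0⟩⁻¹ = ι (hKd.z ⟨_, hd⟩) :=
      Subtype.ext (LinearEquiv.ext fun p => (hconj p).trans (zT_apply hs ⟨_, hd⟩ p).symm)
    have h6 : ρ' (hKd.z ⟨_, hd⟩) = ρ (φ.symm ⟨g0, hg0⟩ * A * (φ.symm ⟨g0, hg0⟩)⁻¹) := by
      show ρ (φ.symm (ι (hKd.z ⟨_, hd⟩))) = _
      rw [← h5, map_mul φ.symm, map_mul φ.symm, map_inv φ.symm, φ.symm_apply_apply]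
    rw [hne, map_mul, map_mul] at h6
    have h7 : ρ (φ.symm ⟨g0, hg0⟩)⁻¹ * ρ (φ.symm ⟨g0, hg0⟩) = 1 := by
      rw [← map_mul, inv_mul_cancel, map_one]
    calc ρ A = (ρ (φ.symm ⟨g0, hg0⟩)⁻¹ * ρ (φ.symm ⟨g0, hg0⟩)) * ρ A *
          (ρ (φ.symm ⟨g0, hg0⟩)⁻¹ * ρ (φ.symm ⟨g0, hg0⟩)) := by rw [h7, one_mul, mul_one]
      _ = ρ (φ.symm ⟨g0, hg0⟩)⁻¹ *
          (ρ (φ.symm ⟨g0, hg0⟩) * ρ A * ρ (φ.symm ⟨g0, hg0⟩)⁻¹) * ρ (φ.symm ⟨g0, hg0⟩) := by
        simp only [mul_assoc]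
      _ = 1 := by rw [← h6, mul_one, h7]
  have hg : g ∈ (⊤ : Subgroup (Cfsg.SU (m + 2) F q)) := Subgroup.mem_top g
  rw [← closure_transvections_SU hF m hm h32] at hg
  induction hg using Subgroup.closure_induction with
  | mem A hA => exact key A hA
  | one => exact map_one ρ
  | mul a b _ _ ha hb => rw [map_mul, ha, hb, mul_one]
  | inv a _ ha =>
    have : ρ (a⁻¹ * a) = 1 := by rw [inv_mul_cancel, map_one]
    rwa [map_mul, ha, mul_one] at this

end Cfsg.Agent.Lib.MinDegree
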