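import Mathlib
import Cfsg.Agent.Lib.MinDegree.LinearLower
import Cfsg.Agent.Lib.MinDegree.UnitaryTop

/-!
`SL_{r+1}(q)`: the bound for irreducible representations and the deleted permutation representation.
-/

set_option autoImplicit false

namespace Cfsg.Agent.Lib.MinDegree

open Classical Module Matrix
open scoped LinearAlgebra.Projectivization

variable {F : Type*} [Field F] [Fintype F]

theorem sl_degree_bound {r : ℕ} (hr : 2 ≤ r) (h2 : r = 2 → Fintype.card F ≠ 2 ∧ Fintype.card F ≠ 4)
    (h3 : r = 3 → 4 ≤ Fintype.card F) {k : ℕ} (ρ : Representation ℂ (Matrix.SpecialLinearGroup (Fin (r + 1)) F) (Fin k → ℂ))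
    (hirr : ρ.IsIrreducible) (hk : 2 ≤ k) : slTarget (Fintype.card F) r ≤ k := by
  refine sl_lower_irr r hr h2 h3 k ρ hirr ?_
  by_contra h
  exact not_irreducible_of_trivial hk ρ (eq_one_of_not_moves ρ h) hirr

section Perm

variable {G : Type*} [Group G] {X : Type*} [MulAction G X] [Fintype X]

variable (G X) in
/-- Translation of functions. -/
noncomputable def funRep : Representation ℂ G (X → ℂ) where
  toFun g := LinearMap.funLeft ℂ ℂ fun x : X => g⁻¹ • x
  map_one' := LinearMap.ext fun f => funext fun x => by simp [LinearMap.funLeft]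
  map_mul' g h := LinearMap.ext fun f => funext fun x => by
    simp [LinearMap.funLeft, Module.End.mul_apply, mul_smul]

variable (X) in
/-- The functions with sum zero. -/
noncomputable def sumZero : Submodule ℂ (X → ℂ) := LinearMap.ker (∑ x : X, LinearMap.proj x)

theorem mem_sumZero {f : X → ℂ} : f ∈ sumZero X ↔ ∑ x, f x = 0 := by
  simp [sumZero, LinearMap.sum_apply]

variable (G X) in
/-- The deleted permutation representation. -/
noncomputable def augRep : Representation ℂ G (sumZero X) :=
  (⟨sumZero X, fun g f hf => by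
    rw [mem_sumZero] at hf ⊢
    rw [← hf]
    exact Fintype.sum_equiv (MulAction.toPerm g⁻¹) _ _ fun x => rfl⟩ : Subrepresentation (funRep G X)).toRepresentation

theorem augRep_irreducible [Finite G] (h2 : MulAction.IsMultiplyPretransitive G X 2) (hX : 2 ≤ Fintype.card X) :
    (augRep G X).IsIrreducible := by
  classical
  obtain ⟨a, b, hab⟩ := Fintype.exists_pair_of_one_lt_card (α := X) (by omega)
  have hmem : ∀ x y : X, (Pi.single x (1 : ℂ) - Pi.single y 1 : X → ℂ) ∈ sumZero X := fun x y => by
    simp [mem_sumZero, Finset.sum_sub_distrib]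
  haveI : Nontrivial (sumZero X) :=
    ⟨⟨⟨_, hmem a b⟩, 0, fun h => one_ne_zero (α := ℂ) (by
      have := congrFun (congrArg Subtype.val h) a
      simpa [Pi.single_apply, hab] using this)⟩⟩
  haveI : Nontrivial (Subrepresentation (augRep G X)) :=
    ⟨⊥, ⊤, fun h => bot_ne_top (α := Submodule ℂ (sumZero X)) (congrArg Subrepresentation.toSubmodule h)⟩
  refine ⟨fun T => ?_⟩
  rcases two_transitive_invariant h2 (T.toSubmodule.map (sumZero X).subtype) (fun g f hf => by
    obtain ⟨t, ht, rfl⟩ := hf
    refine ⟨_, T.apply_mem_toSubmodule g⁻¹ ht, funext fun x => ?_⟩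
    show (funRep G X g⁻¹ t.1) x = t.1 (g • x)
    show t.1 (g⁻¹⁻¹ • x) = _
    rw [inv_inv]) with ⟨-, h⟩ | h
  · left
    refine Subrepresentation.toSubmodule_injective (eq_bot_iff.2 fun t ht => ?_)
    have hc := h t.1 ⟨t, ht, rfl⟩
    have hs := mem_sumZero.1 t.2
    rw [Finset.sum_congr rfl fun x _ => hc x a, Finset.sum_const, Finset.card_univ, nsmul_eq_mul] at hs
    refine Subtype.ext (funext fun x => ?_)
    rw [hc x a]
    exact (mul_eq_zero.1 hs).resolve_left (Nat.cast_ne_zero.2 (by omega))
  · right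
    refine Subrepresentation.toSubmodule_injective (eq_top_iff.2 fun t _ => ?_)
    have e : t.1 = ∑ x, t.1 x • (Pi.single x (1 : ℂ) - Pi.single a 1 : X → ℂ) := by
      simp only [smul_sub, Finset.sum_sub_distrib, ← Finset.sum_smul, mem_sumZero.1 t.2, zero_smul, sub_zero]
      funext z
      simp [Finset.sum_apply, Pi.single_apply]
    obtain ⟨s, hs, hst⟩ : t.1 ∈ T.toSubmodule.map (sumZero X).subtype := by
      rw [e]
      exact Submodule.sum_mem _ fun x _ => Submodule.smul_mem _ _ (h x a)
    rwa [← Subtype.ext hst]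

theorem finrank_sumZero (hX : 1 ≤ Fintype.card X) : finrank ℂ (sumZero X) + 1 = Fintype.card X := by
  classical
  obtain ⟨a⟩ := Fintype.card_pos_iff.1 (show 0 < Fintype.card X by omega)
  have h := (∑ x : X, LinearMap.proj x : (X → ℂ) →ₗ[ℂ] ℂ).finrank_range_add_finrank_ker
  have hsurj : LinearMap.range (∑ x : X, LinearMap.proj x : (X → ℂ) →ₗ[ℂ] ℂ) = ⊤ := by
    rw [LinearMap.range_eq_top]
    exact fun c => ⟨Pi.single a c, by simp [LinearMap.sum_apply]⟩
  rw [hsurj, finrank_top, finrank_self, Module.finrank_fintype_fun_eq_card] at h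
  rw [add_comm]
  exact h

end Perm

theorem sl_degree_attained {r : ℕ} (hr : 1 ≤ r) :
    ∃ ρ : Representation ℂ (Matrix.SpecialLinearGroup (Fin (r + 1)) F) (Fin (slTarget (Fintype.card F) r) → ℂ),
      ρ.IsIrreducible := by
  classical
  haveI : Fintype (ℙ F (Fin (r + 1) → F)) := Fintype.ofFinite _
  have hq : 2 ≤ Fintype.card F := Fintype.one_lt_card
  have hX : Fintype.card (ℙ F (Fin (r + 1) → F)) = slTarget (Fintype.card F) r + 1 := by
    rw [← Nat.card_eq_fintype_card, Projectivization.card'' (k := F), Nat.card_eq_fintype_card (α := Fin (r + 1) → F),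
      Fintype.card_fun, Fintype.card_fin, Nat.card_eq_fintype_card (α := F)]
    have hc := slTarget_closed (Fintype.card F) (by omega) r
    rw [show Fintype.card F ^ (r + 1) - 1 = (Fintype.card F - 1) * (slTarget (Fintype.card F) r + 1) by
      rw [mul_add, mul_one]; omega, Nat.mul_div_cancel_left _ (by omega)]
  have hT : 1 ≤ slTarget (Fintype.card F) r := by
    refine le_trans ?_ (slTarget_mono _ hr)
    simp [slTarget]
    omega
  have hd : finrank ℂ (sumZero (ℙ F (Fin (r + 1) → F))) = slTarget (Fintype.card F) r := by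
    have := finrank_sumZero (X := ℙ F (Fin (r + 1) → F)) (by omega)
    omega
  haveI := augRep_irreducible (G := Matrix.SpecialLinearGroup (Fin (r + 1)) F) (X := ℙ F (Fin (r + 1) → F))
    inferInstance (by omega)
  exact ⟨_, Chars.isIrreducible_of_equiv (Chars.conjRepEquiv
    (augRep (Matrix.SpecialLinearGroup (Fin (r + 1)) F) (ℙ F (Fin (r + 1) → F))) (Module.finBasisOfFinrankEq ℂ _ hd).equivFun)⟩

end Cfsg.Agent.Lib.MinDegree
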