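import Mathlib
import Cfsg.Agent.Lib.MinDegree.Siegel
import Cfsg.Agent.Lib.MinDegree.UnitaryTop

/-!
A non-trivial representation of `Sp_{2n}(q)` involves a functional with non-zero polar form.
-/

set_option autoImplicit false

namespace Cfsg.Agent.Lib.MinDegree

open Classical Module Matrix

variable {F : Type*} [Field F] [Fintype F] {n : ℕ}

theorem exists_polar_ne_zero (hn : 2 ≤ n) (hex : n = 2 → 3 ≤ Fintype.card F) {k : ℕ} (hk : 2 ≤ k)
    (ρ : Representation ℂ (Matrix.symplecticGroup (Fin n) F) (Fin k → ℂ)) (hirr : ρ.IsIrreducible) :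
    ∃ L : Dual F (symMat F n), polarFn L ≠ 0 ∧ (quadOrbit F (quadFn L)).card ≤ k := by
  classical
  set e0 : Fin n → F := Pi.single ⟨0, by omega⟩ 1
  set e1 : Fin n → F := Pi.single ⟨1, by omega⟩ 1
  have hS : crossVec e0 e1 ≠ (0 : symMat F n) := fun h => by
    have := congrArg (fun S : symMat F n => S.1 ⟨0, by omega⟩ ⟨1, by omega⟩) h
    simp [crossVec, e0, e1, vecMulVec_apply] at this
  by_contra hne
  push Not at hne
  refine not_irreducible_of_trivial hk ρ (rep_eq_one_of_siegelU hn hex ρ hS ?_) hirr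
  refine rep_siegelU_eq_one ρ _ fun φ hφ => ?_
  obtain ⟨L, hL⟩ := exists_functional φ
  have hcard := card_orbit_le_finrank ρ hφ hL
  rw [Module.finrank_fin_fun] at hcard
  have hB : polarFn L = 0 := by
    by_contra h
    exact absurd hcard (not_le.2 (hne L h))
  rw [hL, show L (crossVec e0 e1) = polarFn L e0 e1 from rfl, hB, LinearMap.zero_apply, LinearMap.zero_apply,
    AddChar.map_zero_eq_one]

/-- Lower bound in odd characteristic. -/
theorem symplectic_degree_odd (hodd : Odd (Fintype.card F)) (hn : 2 ≤ n) {k : ℕ} (hk : 2 ≤ k)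
    (ρ : Representation ℂ (Matrix.symplecticGroup (Fin n) F) (Fin k → ℂ)) (hirr : ρ.IsIrreducible) :
    (Fintype.card F ^ n - 1) / 2 ≤ k := by
  classical
  have hc : 3 ≤ Fintype.card F := by
    have := Fintype.one_lt_card (α := F)
    rcases hodd with ⟨j, hj⟩
    omega
  obtain ⟨L, hB, hk'⟩ := exists_polar_ne_zero hn (fun _ => hc) hk ρ hirr
  have h2 : (2 : F) ≠ 0 := by
    intro h
    have hdvd : ringChar F = 2 := by
      have := (ringChar.spec F 2).1 (by exact_mod_cast h)
      rcases (Nat.dvd_prime Nat.prime_two).1 this with e | e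
      · exact absurd e CharP.ringChar_ne_one
      · exact e
    have := FiniteField.even_card_of_char_two hdvd
    rcases hodd with ⟨j, hj⟩
    omega
  obtain ⟨v, hv⟩ : ∃ v, quadFn L v ≠ 0 := by
    by_contra h
    push Not at h
    refine hB (LinearMap.ext fun u => LinearMap.ext fun v => ?_)
    have := (isQuad_quadFn L).add u v
    rw [h, h, h] at this
    simpa using this.symm
  have hb := two_mul_card_quadOrbit (isQuad_quadFn L) h2 hv
  rw [Fintype.card_fun, Fintype.card_fin] at hb
  omega

/-- Lower bound in characteristic two. -/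
theorem symplectic_degree_even (heven : Even (Fintype.card F)) (hn : 2 ≤ n)
    (hex : n = 2 → 3 ≤ Fintype.card F) {k : ℕ} (hk : 2 ≤ k)
    (ρ : Representation ℂ (Matrix.symplecticGroup (Fin n) F) (Fin k → ℂ)) (hirr : ρ.IsIrreducible) :
    (Fintype.card F ^ n - 1) * (Fintype.card F ^ n - Fintype.card F) / (2 * (Fintype.card F + 1)) ≤ k := by
  classical
  obtain ⟨L, hB, hk'⟩ := exists_polar_ne_zero hn hex hk ρ hirr
  have h2 : (2 : F) = 0 := by
    by_contra h
    have hdvd : ringChar F ≠ 2 := fun e => h (by exact_mod_cast (ringChar.spec F 2).2 (by rw [e]))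
    have := FiniteField.odd_card_of_char_ne_two hdvd
    rcases heven with ⟨j, hj⟩
    omega
  have hb := card_quadOrbit_even (isQuad_quadFn L) h2 hB
  rw [Fintype.card_fun, Fintype.card_fin] at hb
  refine Nat.div_le_of_le_mul (hb.trans ?_)
  exact Nat.mul_le_mul_left _ hk'

end Cfsg.Agent.Lib.MinDegree
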