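import Mathlib
import Cfsg.Agent.Lib.MinDegree.Heisenberg
import Cfsg.Agent.Lib.MinDegree.Siegel

/-!
Heisenberg operators on functions on `F^n`, `q` odd, and their intertwiners.
-/

set_option autoImplicit false

namespace Cfsg.Agent.Lib.MinDegree

open Classical Module Matrix

variable {F : Type*} [Field F] [Fintype F] {n : ℕ}

/-- The phase space. -/
abbrev PVec (F : Type*) (n : ℕ) := Fin n ⊕ Fin n → F

/-- Functions on `F^n`. -/
abbrev WFun (F : Type*) (n : ℕ) := (Fin n → F) → ℂ

/-- The symplectic form in coordinates. -/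
def omW (v w : PVec F n) : F :=
  (v ∘ Sum.inr) ⬝ᵥ (w ∘ Sum.inl) - (v ∘ Sum.inl) ⬝ᵥ (w ∘ Sum.inr)

omit [Fintype F] in
theorem omW_eq (v w : PVec F n) : omW v w = v ⬝ᵥ (Matrix.J (Fin n) F *ᵥ w) := by
  simp only [omW, Matrix.J, fromBlocks_mulVec, zero_mulVec, neg_mulVec, one_mulVec, zero_add, add_zero, dotProduct,
    Fintype.sum_sum_type, Function.comp_apply, Sum.elim_inl, Sum.elim_inr, Pi.neg_apply]
  simp [Finset.sum_neg_distrib]
  ring

omit [Fintype F] in
theorem omW_mulVec (g : Matrix.symplecticGroup (Fin n) F) (v w : PVec F n) :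
    omW (g.1 *ᵥ v) (g.1 *ᵥ w) = omW v w := by
  have hg : g.1ᵀ * Matrix.J (Fin n) F * g.1 = Matrix.J (Fin n) F := SymplecticGroup.mem_iff'.1 g.2
  rw [omW_eq, omW_eq]
  conv_rhs => rw [← hg, ← mulVec_mulVec, ← mulVec_mulVec, dotProduct_mulVec, vecMul_transpose]

omit [Fintype F] in
theorem omW_swap (v w : PVec F n) : omW w v = -omW v w := by
  simp only [omW, dotProduct_comm (w ∘ Sum.inr), dotProduct_comm (w ∘ Sum.inl)]
  ring

/-- The Heisenberg operator. -/
noncomputable def heisOp (v : PVec F n) : Module.End ℂ (WFun F n) where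
  toFun f x := psi0 F ((v ∘ Sum.inr) ⬝ᵥ x + (2 : F)⁻¹ * ((v ∘ Sum.inl) ⬝ᵥ (v ∘ Sum.inr))) * f (x + v ∘ Sum.inl)
  map_add' f g := by funext x; simp [mul_add]
  map_smul' c f := by funext x; simp [mul_left_comm]

theorem heisOp_apply (v : PVec F n) (f : WFun F n) (x : Fin n → F) :
    heisOp v f x =
      psi0 F ((v ∘ Sum.inr) ⬝ᵥ x + (2 : F)⁻¹ * ((v ∘ Sum.inl) ⬝ᵥ (v ∘ Sum.inr))) * f (x + v ∘ Sum.inl) := rfl

theorem psi0_ne_zero (c : F) : psi0 F c ≠ 0 := fun h => by
  have := (psi0 F).map_add_eq_mul c (-c)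
  rw [add_neg_cancel, AddChar.map_zero_eq_one, h, zero_mul] at this
  exact one_ne_zero this

theorem exists_psi0_ne_one {c : F} (hc : c ≠ 0) : ∃ t, psi0 F (t * c) ≠ 1 := by
  by_contra h
  push Not at h
  exact AddChar.FiniteField.primitiveChar_to_Complex_isPrimitive F hc (DFunLike.ext _ _ fun a => by
    rw [AddChar.mulShift_apply, AddChar.one_apply, mul_comm]; exact h a)

theorem heisOp_zero : heisOp (0 : PVec F n) = 1 := by
  refine LinearMap.ext fun f => funext fun x => ?_
  rw [heisOp_apply]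
  simp [Pi.zero_comp, AddChar.map_zero_eq_one]

theorem heisOp_mul (h2 : (2 : F) ≠ 0) (v w : PVec F n) :
    heisOp v * heisOp w = psi0 F (-((2 : F)⁻¹ * omW v w)) • heisOp (v + w) := by
  refine LinearMap.ext fun f => funext fun x => ?_
  rw [Module.End.mul_apply, heisOp_apply, heisOp_apply, LinearMap.smul_apply, Pi.smul_apply, heisOp_apply,
    smul_eq_mul, ← mul_assoc, ← mul_assoc, ← AddChar.map_add_eq_mul, ← AddChar.map_add_eq_mul, add_assoc x]
  congr 2
  simp only [omW, Pi.add_comp, dotProduct_add, add_dotProduct]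
  rw [dotProduct_comm (w ∘ Sum.inr) (v ∘ Sum.inl), dotProduct_comm (v ∘ Sum.inr) (w ∘ Sum.inl)]
  field_simp
  ring

theorem heisOp_family (h2 : (2 : F) ≠ 0) : HeisFamily (heisOp : PVec F n → Module.End ℂ (WFun F n)) := by
  refine ⟨heisOp_zero, fun a b => ⟨_, psi0_ne_zero _, heisOp_mul h2 a b⟩, fun a ha => ?_⟩
  obtain ⟨b, hb⟩ : ∃ b, omW a b ≠ 0 := by
    by_contra h
    push Not at h
    refine ha (funext fun i => ?_)
    rcases i with i | i
    · have := h (Pi.single (Sum.inr i) 1)
      simpa [omW, dotProduct, Pi.single_apply] using this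
    · have := h (Pi.single (Sum.inl i) 1)
      simpa [omW, dotProduct, Pi.single_apply] using this
  obtain ⟨t, ht⟩ := exists_psi0_ne_one hb
  refine ⟨t • b, psi0 F (t * omW a b), ht, ?_⟩
  rw [heisOp_mul h2, heisOp_mul h2, smul_smul, ← AddChar.map_add_eq_mul, add_comm (t • b) a]
  congr 2
  rw [omW_swap a (t • b)]
  have : omW a (t • b) = t * omW a b := by
    simp only [omW, dotProduct, Function.comp_apply, Pi.smul_apply, smul_eq_mul, mul_sub, Finset.mul_sum]
    congr 1 <;> exact Finset.sum_congr rfl fun i _ => by ring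
  rw [this]
  field_simp
  ring

variable (h2 : (2 : F) ≠ 0)

include h2

theorem linearIndependent_heisOp : LinearIndependent ℂ (heisOp : PVec F n → Module.End ℂ (WFun F n)) := by
  classical
  rw [Fintype.linearIndependent_iff]
  intro c hc w
  have h := congrArg (fun M => LinearMap.trace ℂ _ (heisOp (-w) * M)) hc
  simp only [Finset.mul_sum, mul_smul_comm, map_sum, mul_zero, map_zero, map_smul] at h
  rw [Finset.sum_eq_single w] at h
  · rw [heisOp_mul h2, neg_add_cancel, heisOp_zero, map_smul, LinearMap.trace_one, smul_eq_mul, smul_eq_mul] at h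
    rcases mul_eq_zero.1 h with h | h
    · exact h
    rcases mul_eq_zero.1 h with h | h
    · exact absurd h (psi0_ne_zero _)
    · exact absurd h (Nat.cast_ne_zero.2 (by rw [Module.finrank_fintype_fun_eq_card]; exact Fintype.card_ne_zero))
  · intro v _ hv
    rw [heisOp_mul h2, map_smul, (heisOp_family h2).trace_eq_zero
      (fun h0 => hv (eq_of_neg_add_eq_zero h0).symm), smul_zero, smul_zero]
  · exact fun h' => absurd (Finset.mem_univ w) h'

theorem span_heisOp : Submodule.span ℂ (Set.range (heisOp : PVec F n → Module.End ℂ (WFun F n))) = ⊤ := by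
  classical
  refine (linearIndependent_heisOp h2).span_eq_top_of_card_eq_finrank ?_
  rw [Module.finrank_linearMap, Module.finrank_fintype_fun_eq_card, Fintype.card_fun, Fintype.card_sum,
    Fintype.card_fin, pow_add, Fintype.card_fun, Fintype.card_fin]

/-- An operator commuting with all Heisenberg operators is a scalar. -/
theorem eq_smul_one_of_commute {M : Module.End ℂ (WFun F n)} (hM : ∀ v, M * heisOp v = heisOp v * M) :
    ∃ c : ℂ, M = c • 1 := by
  classical
  have hall : ∀ E : Module.End ℂ (WFun F n), M * E = E * M := fun E => by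
    have hE : E ∈ Submodule.span ℂ (Set.range (heisOp : PVec F n → Module.End ℂ (WFun F n))) := by
      rw [span_heisOp h2]; trivial
    induction hE using Submodule.span_induction with
    | mem x hx => obtain ⟨v, rfl⟩ := hx; exact hM v
    | zero => simp
    | add a b _ _ ha hb => rw [mul_add, add_mul, ha, hb]
    | smul a b _ hb => rw [mul_smul_comm, smul_mul_assoc, hb]
  refine ⟨M (Pi.single 0 1) 0, LinearMap.ext fun y => ?_⟩
  have h := LinearMap.congr_fun (hall ((LinearMap.proj (0 : Fin n → F)).smulRight y)) (Pi.single 0 1)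
  simpa using h

omit h2 in
/-- The averaged intertwiner. -/
noncomputable def avgOp (g : Matrix.symplecticGroup (Fin n) F) (X : Module.End ℂ (WFun F n)) :
    Module.End ℂ (WFun F n) :=
  ∑ v, heisOp (g.1 *ᵥ v) * X * heisOp (-v)

theorem avgOp_intertwines (g : Matrix.symplecticGroup (Fin n) F) (X : Module.End ℂ (WFun F n)) (w : PVec F n) :
    avgOp g X * heisOp w = heisOp (g.1 *ᵥ w) * avgOp g X := by
  classical
  rw [avgOp, Finset.sum_mul, Finset.mul_sum]
  symm
  refine Fintype.sum_equiv (Equiv.addLeft w) _ _ fun v => ?_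
  rw [Equiv.coe_addLeft, ← mul_assoc (heisOp (g.1 *ᵥ w)), ← mul_assoc (heisOp (g.1 *ᵥ w)), heisOp_mul h2,
    mul_assoc _ (heisOp (-(w + v))) (heisOp w), heisOp_mul h2 (-(w + v)) w, ← mulVec_add, smul_mul_assoc,
    smul_mul_assoc, mul_smul_comm, show -(w + v) + w = -v by abel, omW_mulVec]
  congr 3
  simp only [omW, Pi.add_comp, Pi.neg_comp, add_dotProduct, neg_dotProduct, dotProduct_add]
  rw [dotProduct_comm (v ∘ Sum.inr), dotProduct_comm (v ∘ Sum.inl), dotProduct_comm (w ∘ Sum.inr) (w ∘ Sum.inl)]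
  ring

theorem exists_intertwiner (g : Matrix.symplecticGroup (Fin n) F) :
    ∃ T : Module.End ℂ (WFun F n), Function.Injective T ∧ ∀ w, T * heisOp w = heisOp (g.1 *ᵥ w) * T := by
  classical
  obtain ⟨X, hX⟩ : ∃ X, avgOp g X ≠ 0 := by
    by_contra h
    push Not at h
    have hinj : Function.Injective fun v : PVec F n => g.1 *ᵥ v :=
      Matrix.mulVec_injective_iff_isUnit.2 ((Matrix.isUnit_iff_isUnit_det _).2 (SymplecticGroup.symplectic_det g.2))
    have hli := (linearIndependent_heisOp (n := n) h2).comp _ hinj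
    rw [Fintype.linearIndependent_iff] at hli
    have hzero : ∑ v, (heisOp (-v) (Pi.single (0 : Fin n → F) 1)) 0 • heisOp (g.1 *ᵥ v) = (0 : Module.End ℂ (WFun F n)) := by
      refine LinearMap.ext fun x => ?_
      have := LinearMap.congr_fun (h ((LinearMap.proj (0 : Fin n → F)).smulRight x)) (Pi.single 0 1)
      rw [avgOp, LinearMap.sum_apply] at this
      rw [LinearMap.sum_apply]
      refine Eq.trans (Finset.sum_congr rfl fun v _ => ?_) this
      simp [Module.End.mul_apply]
    have := hli _ hzero 0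
    rw [neg_zero, heisOp_zero] at this
    simp at this
  refine ⟨avgOp g X, ?_, avgOp_intertwines h2 g X⟩
  rw [← LinearMap.ker_eq_bot]
  by_contra hk
  obtain ⟨y, hy, hy0⟩ := Submodule.exists_mem_ne_zero_of_ne_bot hk
  have hy' : avgOp g X y = 0 := LinearMap.mem_ker.1 hy
  have hall : ∀ E : Module.End ℂ (WFun F n), avgOp g X (E y) = 0 := fun E => by
    have hE : E ∈ Submodule.span ℂ (Set.range (heisOp : PVec F n → Module.End ℂ (WFun F n))) := by
      rw [span_heisOp h2]; trivial
    induction hE using Submodule.span_induction with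
    | mem x hx =>
      obtain ⟨v, rfl⟩ := hx
      rw [← Module.End.mul_apply, avgOp_intertwines h2, Module.End.mul_apply, hy', map_zero]
    | zero => simp
    | add a b _ _ ha hb => rw [LinearMap.add_apply, map_add, ha, hb, add_zero]
    | smul a b _ hb => rw [LinearMap.smul_apply, map_smul, hb, smul_zero]
  obtain ⟨x, hx⟩ : ∃ x, y x ≠ 0 := Function.ne_iff.1 hy0
  refine hX (LinearMap.ext fun z => ?_)
  have := hall ((LinearMap.proj x).smulRight ((y x)⁻¹ • z))
  simpa [smul_smul, mul_inv_cancel₀ hx] using this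

end Cfsg.Agent.Lib.MinDegree
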