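import Mathlib
import Cfsg.Agent.Lib.MinDegree.WeilOp

/-!
The odd Weil representation of `Sp_{2n}(q)`, `q` odd: linearisation by parity, degree, irreducibility.
-/

set_option autoImplicit false

namespace Cfsg.Agent.Lib.MinDegree

open Classical Module Matrix

variable {F : Type*} [Field F] [Fintype F] {n : ℕ}

variable (F n) in
/-- Parity. -/
noncomputable def parityOp : Module.End ℂ (WFun F n) := LinearMap.funLeft ℂ ℂ fun x : Fin n → F => -x

theorem parityOp_apply (f : WFun F n) (x : Fin n → F) : parityOp F n f x = f (-x) := rfl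

theorem parityOp_sq : parityOp F n * parityOp F n = 1 :=
  LinearMap.ext fun f => funext fun x => by simp [parityOp_apply, Module.End.mul_apply]

theorem parityOp_heisOp (v : PVec F n) : parityOp F n * heisOp v = heisOp (-v) * parityOp F n := by
  refine LinearMap.ext fun f => funext fun x => ?_
  simp only [Module.End.mul_apply, parityOp_apply, heisOp_apply, Pi.neg_comp, dotProduct_neg, neg_dotProduct, neg_neg,
    neg_add_rev]
  congr 2
  abel

theorem trace_parityOp (h2 : (2 : F) ≠ 0) : LinearMap.trace ℂ _ (parityOp F n) = 1 := by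
  classical
  rw [LinearMap.trace_eq_matrix_trace ℂ (Pi.basisFun ℂ (Fin n → F)), Matrix.trace, Finset.sum_eq_single 0]
  · simp [LinearMap.toMatrix_apply, parityOp_apply]
  · intro x _ hx
    simp only [Matrix.diag, LinearMap.toMatrix_apply, Pi.basisFun_repr, Pi.basisFun_apply, parityOp_apply]
    rw [Pi.single_apply, if_neg]
    intro h
    refine hx (funext fun i => ?_)
    have := congrFun h i
    simp only [Pi.neg_apply] at this
    have h3 : (2 : F) * x i = 0 := by linear_combination -this
    exact (mul_eq_zero.1 h3).resolve_left h2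
  · exact fun h => absurd (Finset.mem_univ _) h

variable (F n) in
/-- Even functions. -/
noncomputable def evenSub : Submodule ℂ (WFun F n) := LinearMap.ker (parityOp F n - 1)

variable (F n) in
/-- Odd functions. -/
noncomputable def oddSub : Submodule ℂ (WFun F n) := LinearMap.ker (parityOp F n + 1)

theorem mem_oddSub {f : WFun F n} : f ∈ oddSub F n ↔ ∀ x, f (-x) = -f x := by
  simp [oddSub, funext_iff, parityOp_apply, add_eq_zero_iff_eq_neg]

theorem parity_of_mem_odd {f : WFun F n} (hf : f ∈ oddSub F n) : parityOp F n f = -f :=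
  funext fun x => mem_oddSub.1 hf x

theorem parity_of_mem_even {f : WFun F n} (hf : f ∈ evenSub F n) : parityOp F n f = f := by
  simpa [evenSub, sub_eq_zero] using hf

theorem finrank_evenSub (h2 : (2 : F) ≠ 0) : 2 * finrank ℂ (evenSub F n) = Fintype.card F ^ n + 1 := by
  classical
  have hproj : LinearMap.IsProj (evenSub F n) ((2 : ℂ)⁻¹ • (1 + parityOp F n)) := by
    constructor
    · intro f
      rw [evenSub, LinearMap.mem_ker]
      simp only [LinearMap.sub_apply, LinearMap.smul_apply, LinearMap.add_apply, Module.End.one_apply, map_smul, map_add]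
      rw [← Module.End.mul_apply, parityOp_sq, Module.End.one_apply]
      module
    · intro f hf
      simp only [LinearMap.smul_apply, LinearMap.add_apply, Module.End.one_apply, parity_of_mem_even hf]
      module
  have h := hproj.trace
  rw [map_smul, map_add, LinearMap.trace_one, trace_parityOp h2, Module.finrank_fintype_fun_eq_card, Fintype.card_fun,
    Fintype.card_fin, smul_eq_mul] at h
  refine (Nat.cast_inj (R := ℂ)).1 ?_
  rw [Nat.cast_mul, ← h]
  push_cast
  ring

theorem finrank_oddSub (h2 : (2 : F) ≠ 0) : 2 * finrank ℂ (oddSub F n) + 1 = Fintype.card F ^ n := by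
  classical
  have hproj : LinearMap.IsProj (oddSub F n) ((2 : ℂ)⁻¹ • (1 - parityOp F n)) := by
    constructor
    · intro f
      rw [oddSub, LinearMap.mem_ker]
      simp only [LinearMap.sub_apply, LinearMap.smul_apply, LinearMap.add_apply, Module.End.one_apply, map_smul, map_sub]
      rw [← Module.End.mul_apply, parityOp_sq, Module.End.one_apply]
      module
    · intro f hf
      simp only [LinearMap.smul_apply, LinearMap.sub_apply, Module.End.one_apply, parity_of_mem_odd hf]
      module
  have h := hproj.trace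
  rw [map_smul, map_sub, LinearMap.trace_one, trace_parityOp h2, Module.finrank_fintype_fun_eq_card, Fintype.card_fun,
    Fintype.card_fin, smul_eq_mul] at h
  refine (Nat.cast_inj (R := ℂ)).1 ?_
  rw [Nat.cast_add, Nat.cast_mul, ← h]
  push_cast
  ring

variable (h2 : (2 : F) ≠ 0)

/-- A chosen intertwiner. -/
noncomputable def weilT (g : Matrix.symplecticGroup (Fin n) F) : Module.End ℂ (WFun F n) :=
  (exists_intertwiner h2 g).choose

theorem weilT_injective (g : Matrix.symplecticGroup (Fin n) F) : Function.Injective (weilT h2 g) :=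
  (exists_intertwiner h2 g).choose_spec.1

theorem weilT_heisOp (g : Matrix.symplecticGroup (Fin n) F) (w : PVec F n) :
    weilT h2 g * heisOp w = heisOp (g.1 *ᵥ w) * weilT h2 g :=
  (exists_intertwiner h2 g).choose_spec.2 w

include h2 in
/-- Two intertwiners of one element differ by a scalar. -/
theorem intertwiner_unique (g : Matrix.symplecticGroup (Fin n) F) {T S : Module.End ℂ (WFun F n)}
    (hT : Function.Injective T) (hTi : ∀ w, T * heisOp w = heisOp (g.1 *ᵥ w) * T)
    (hSi : ∀ w, S * heisOp w = heisOp (g.1 *ᵥ w) * S) : ∃ c : ℂ, S = c • T := by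
  let e := LinearEquiv.ofBijective T ⟨hT, LinearMap.injective_iff_surjective.1 hT⟩
  have hM : ∀ v, (e.symm.toLinearMap * S) * heisOp v = heisOp v * (e.symm.toLinearMap * S) := fun v => by
    refine LinearMap.ext fun f => ?_
    refine e.injective ?_
    have h1 := LinearMap.congr_fun (hSi v) f
    have h2 := LinearMap.congr_fun (hTi v) (e.symm (S f))
    simp only [Module.End.mul_apply] at h1 h2
    simp only [Module.End.mul_apply, LinearEquiv.coe_coe, LinearEquiv.apply_symm_apply]
    rw [h1]
    show _ = T (heisOp v (e.symm (S f)))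
    rw [h2]
    congr 1
    exact (e.apply_symm_apply (S f)).symm
  obtain ⟨c, hc⟩ := eq_smul_one_of_commute h2 hM
  refine ⟨c, LinearMap.ext fun f => ?_⟩
  have := congrArg e (LinearMap.congr_fun hc f)
  simp only [Module.End.mul_apply, LinearEquiv.coe_coe, LinearEquiv.apply_symm_apply, LinearMap.smul_apply,
    Module.End.one_apply, map_smul] at this
  exact this

theorem weilT_parity (g : Matrix.symplecticGroup (Fin n) F) :
    weilT h2 g * parityOp F n = parityOp F n * weilT h2 g := by
  set T := weilT h2 g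
  set P := parityOp F n
  have hS : ∀ w, (P * T * P) * heisOp w = heisOp (g.1 *ᵥ w) * (P * T * P) := fun w => by
    rw [mul_assoc (P * T), parityOp_heisOp, ← mul_assoc (P * T), mul_assoc P T, weilT_heisOp, ← mul_assoc P,
      mulVec_neg, parityOp_heisOp, neg_neg, mul_assoc (heisOp (g.1 *ᵥ w)), mul_assoc]
  obtain ⟨c, hc⟩ := intertwiner_unique h2 g (weilT_injective h2 g) (weilT_heisOp h2 g) hS
  have h1 : T * P = c • (P * T) := by
    calc T * P = P * P * T * P := by rw [parityOp_sq, one_mul]
      _ = P * (P * T * P) := by simp only [mul_assoc]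
      _ = c • (P * T) := by rw [hc, mul_smul_comm]
  let e := LinearEquiv.ofBijective T ⟨weilT_injective h2 g, LinearMap.injective_iff_surjective.1 (weilT_injective h2 g)⟩
  have h3 : LinearMap.trace ℂ _ (e.symm.toLinearMap * (T * P)) = LinearMap.trace ℂ _ (e.symm.toLinearMap * (c • (P * T))) := by
    rw [h1]
  have hi1 : e.symm.toLinearMap * T = 1 := LinearMap.ext fun f => e.symm_apply_apply f
  have hi2 : T * e.symm.toLinearMap = 1 := LinearMap.ext fun f => e.apply_symm_apply f
  rw [← mul_assoc, hi1, one_mul, mul_smul_comm, map_smul, LinearMap.trace_mul_comm, mul_assoc P, hi2, mul_one,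
    trace_parityOp h2, smul_eq_mul, mul_one] at h3
  rw [h1, ← h3, one_smul]

/-- Restriction to the odd functions. -/
noncomputable def weilOddT (g : Matrix.symplecticGroup (Fin n) F) : Module.End ℂ (oddSub F n) :=
  (weilT h2 g).restrict fun f hf => by
    rw [oddSub, LinearMap.mem_ker] at hf ⊢
    rw [LinearMap.add_apply, ← Module.End.mul_apply, ← weilT_parity h2, Module.End.mul_apply, Module.End.one_apply,
      ← map_add]
    rw [LinearMap.add_apply, Module.End.one_apply] at hf
    rw [hf, map_zero]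

/-- Restriction to the even functions. -/
noncomputable def weilEvenT (g : Matrix.symplecticGroup (Fin n) F) : Module.End ℂ (evenSub F n) :=
  (weilT h2 g).restrict fun f hf => by
    rw [evenSub, LinearMap.mem_ker] at hf ⊢
    rw [LinearMap.sub_apply, ← Module.End.mul_apply, ← weilT_parity h2, Module.End.mul_apply, Module.End.one_apply,
      ← map_sub]
    rw [LinearMap.sub_apply, Module.End.one_apply] at hf
    rw [hf, map_zero]

/-- The correcting scalar. -/
noncomputable def weilFactor (g : Matrix.symplecticGroup (Fin n) F) : ℂ :=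
  LinearMap.det (weilOddT h2 g) / LinearMap.det (weilEvenT h2 g)

theorem det_ne_zero_of_injective {W : Type*} [AddCommGroup W] [Module ℂ W] [FiniteDimensional ℂ W]
    {T : Module.End ℂ W} (hT : Function.Injective T) : LinearMap.det T ≠ 0 := fun h =>
  absurd (LinearMap.bot_lt_ker_of_det_eq_zero h) (by rw [LinearMap.ker_eq_bot.2 hT]; exact lt_irrefl _)

theorem weilFactor_ne_zero (g : Matrix.symplecticGroup (Fin n) F) : weilFactor h2 g ≠ 0 :=
  div_ne_zero
    (det_ne_zero_of_injective fun _ _ h => Subtype.ext (weilT_injective h2 g (congrArg Subtype.val h)))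
    (det_ne_zero_of_injective fun _ _ h => Subtype.ext (weilT_injective h2 g (congrArg Subtype.val h)))

theorem weilT_mul (g h : Matrix.symplecticGroup (Fin n) F) :
    ∃ c : ℂ, c ≠ 0 ∧ weilT h2 g * weilT h2 h = c • weilT h2 (g * h) := by
  obtain ⟨c, hc⟩ := intertwiner_unique h2 (g * h) (S := weilT h2 g * weilT h2 h) (weilT_injective h2 _)
    (weilT_heisOp h2 _) fun w => by
      rw [mul_assoc, weilT_heisOp, ← mul_assoc, weilT_heisOp, mul_assoc, mulVec_mulVec]; rfl
  refine ⟨c, fun h0 => ?_, hc⟩
  have hinj : Function.Injective (weilT h2 g * weilT h2 h : Module.End ℂ (WFun F n)) :=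
    (weilT_injective h2 g).comp (weilT_injective h2 h)
  rw [hc, h0, zero_smul] at hinj
  exact one_ne_zero (congrFun (hinj (a₁ := fun _ => (1 : ℂ)) (a₂ := 0) rfl) 0)

/-- The operators of the odd Weil representation. -/
noncomputable def weilOp (g : Matrix.symplecticGroup (Fin n) F) : Module.End ℂ (oddSub F n) :=
  weilFactor h2 g • weilOddT h2 g

theorem weilOp_mul (g h : Matrix.symplecticGroup (Fin n) F) : weilOp h2 g * weilOp h2 h = weilOp h2 (g * h) := by
  obtain ⟨c, hc0, hc⟩ := weilT_mul h2 g h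
  have ho : weilOddT h2 g * weilOddT h2 h = c • weilOddT h2 (g * h) :=
    LinearMap.ext fun f => Subtype.ext (LinearMap.congr_fun hc f.1)
  have he : weilEvenT h2 g * weilEvenT h2 h = c • weilEvenT h2 (g * h) :=
    LinearMap.ext fun f => Subtype.ext (LinearMap.congr_fun hc f.1)
  have hd : finrank ℂ (evenSub F n) = finrank ℂ (oddSub F n) + 1 := by
    have := finrank_evenSub (n := n) h2
    have := finrank_oddSub (n := n) h2
    omega
  have hfac : weilFactor h2 g * weilFactor h2 h * c = weilFactor h2 (g * h) := by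
    rw [weilFactor, weilFactor, weilFactor, div_mul_div_comm, ← map_mul, ← map_mul, ho, he, LinearMap.det_smul,
      LinearMap.det_smul, hd, pow_succ]
    have := det_ne_zero_of_injective (T := weilEvenT h2 (g * h))
      fun _ _ e => Subtype.ext (weilT_injective h2 (g * h) (congrArg Subtype.val e))
    field_simp
  rw [weilOp, weilOp, weilOp, smul_mul_smul_comm, ho, smul_smul, hfac]

/-- The odd Weil representation. -/
noncomputable def weilRep : Representation ℂ (Matrix.symplecticGroup (Fin n) F) (oddSub F n) where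
  toFun := weilOp h2
  map_one' := by
    have h := weilOp_mul h2 (1 : Matrix.symplecticGroup (Fin n) F) 1
    rw [one_mul] at h
    refine LinearMap.ext fun f => ?_
    have hinj : Function.Injective (weilOp h2 (1 : Matrix.symplecticGroup (Fin n) F)) := fun a b e => by
      simp only [weilOp, LinearMap.smul_apply] at e
      exact Subtype.ext (weilT_injective h2 _ (congrArg Subtype.val (smul_right_injective _ (weilFactor_ne_zero h2 1) e)))
    exact hinj (LinearMap.congr_fun h f)
  map_mul' g k := (weilOp_mul h2 g k).symm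

/-- Any intertwiner of `g` preserves every subrepresentation. -/
theorem mem_of_intertwiner (S : Subrepresentation (weilRep (n := n) h2)) (g : Matrix.symplecticGroup (Fin n) F)
    {T : Module.End ℂ (WFun F n)} (hT : ∀ w, T * heisOp w = heisOp (g.1 *ᵥ w) * T)
    {f : oddSub F n} (hf : f ∈ S.toSubmodule) (hTf : T f.1 ∈ oddSub F n) : (⟨T f.1, hTf⟩ : oddSub F n) ∈ S.toSubmodule := by
  obtain ⟨c, rfl⟩ := intertwiner_unique h2 g (weilT_injective h2 g) (weilT_heisOp h2 g) hT
  have h := S.toSubmodule.smul_mem (c * (weilFactor h2 g)⁻¹) (S.apply_mem_toSubmodule g hf)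
  refine (Eq.subst (motive := fun x => x ∈ S.toSubmodule) ?_ h)
  refine Subtype.ext ?_
  show (c * (weilFactor h2 g)⁻¹) • (weilFactor h2 g • weilT h2 g f.1) = c • weilT h2 g f.1
  rw [smul_smul, mul_assoc, inv_mul_cancel₀ (weilFactor_ne_zero h2 g), mul_one]

/-- The lower Siegel element. -/
def siegelL (S : symMat F n) : Matrix.symplecticGroup (Fin n) F :=
  ⟨fromBlocks 1 0 S.1 1, by
    rw [SymplecticGroup.mem_iff, Matrix.J, fromBlocks_transpose, fromBlocks_multiply, fromBlocks_multiply]
    simp [mem_symMat.1 S.2]⟩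

/-- Multiplication by a quadratic phase. -/
noncomputable def phaseOp (S : symMat F n) : Module.End ℂ (WFun F n) where
  toFun f x := psi0 F (-((2 : F)⁻¹ * (x ⬝ᵥ (S.1 *ᵥ x)))) * f x
  map_add' f g := by funext x; simp [mul_add]
  map_smul' c f := by funext x; simp [mul_left_comm]

include h2 in
theorem phaseOp_heisOp (S : symMat F n) (v : PVec F n) :
    phaseOp S * heisOp v = heisOp ((siegelL S).1 *ᵥ v) * phaseOp S := by
  refine LinearMap.ext fun f => funext fun x => ?_
  have hv : (siegelL S).1 *ᵥ v = Sum.elim (v ∘ Sum.inl) (S.1 *ᵥ (v ∘ Sum.inl) + v ∘ Sum.inr) := by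
    show fromBlocks (1 : Matrix (Fin n) (Fin n) F) 0 S.1 1 *ᵥ v = _
    rw [fromBlocks_mulVec]
    simp
  rw [Module.End.mul_apply, Module.End.mul_apply, hv]
  show psi0 F _ * (heisOp v f x) = heisOp _ (phaseOp S f) x
  rw [heisOp_apply, heisOp_apply]
  show _ = _ * (psi0 F _ * f _)
  simp only [Sum.elim_comp_inl, Sum.elim_comp_inr]
  rw [← mul_assoc, ← mul_assoc, ← AddChar.map_add_eq_mul, ← AddChar.map_add_eq_mul]
  congr 2
  have hsym : x ⬝ᵥ (S.1 *ᵥ (v ∘ Sum.inl)) = (v ∘ Sum.inl) ⬝ᵥ (S.1 *ᵥ x) := by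
    conv_rhs => rw [dotProduct_mulVec, ← mulVec_transpose, mem_symMat.1 S.2, dotProduct_comm]
  simp only [add_dotProduct, dotProduct_add, mulVec_add]
  rw [dotProduct_comm (S.1 *ᵥ (v ∘ Sum.inl)) x, hsym]
  field_simp
  ring

/-- Substitution by a linear map. -/
noncomputable def substOp (M : Matrix.GeneralLinearGroup (Fin n) F) : Module.End ℂ (WFun F n) :=
  LinearMap.funLeft ℂ ℂ fun x : Fin n → F => M⁻¹.val *ᵥ x

theorem substOp_heisOp (M : Matrix.GeneralLinearGroup (Fin n) F) (v : PVec F n) :
    substOp M * heisOp v = heisOp ((siegelM M).1 *ᵥ v) * substOp M := by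
  refine LinearMap.ext fun f => funext fun x => ?_
  have hv : (siegelM M).1 *ᵥ v = Sum.elim (M.val *ᵥ (v ∘ Sum.inl)) (M⁻¹.valᵀ *ᵥ (v ∘ Sum.inr)) := by
    show fromBlocks M.val 0 0 M⁻¹.valᵀ *ᵥ v = _
    rw [fromBlocks_mulVec]
    simp
  rw [Module.End.mul_apply, Module.End.mul_apply, hv]
  show heisOp v f (M⁻¹.val *ᵥ x) = heisOp _ (substOp M f) x
  rw [heisOp_apply, heisOp_apply]
  show _ = _ * f (M⁻¹.val *ᵥ _)
  simp only [Sum.elim_comp_inl, Sum.elim_comp_inr]
  have h1 : M⁻¹.val *ᵥ (M.val *ᵥ (v ∘ Sum.inl)) = v ∘ Sum.inl := by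
    rw [mulVec_mulVec, M.inv_mul, one_mulVec]
  have h3 : ∀ y : Fin n → F, (M⁻¹.valᵀ *ᵥ (v ∘ Sum.inr)) ⬝ᵥ y = (v ∘ Sum.inr) ⬝ᵥ (M⁻¹.val *ᵥ y) := fun y => by
    rw [mulVec_transpose, ← dotProduct_mulVec]
  rw [mulVec_add, h1, dotProduct_comm (M.val *ᵥ (v ∘ Sum.inl)), h3, h3, h1,
    dotProduct_comm (v ∘ Sum.inl) (v ∘ Sum.inr)]

theorem weilRep_irreducible (hn : 1 ≤ n) : (weilRep (n := n) h2).IsIrreducible := by
  classical
  have hpos : 0 < finrank ℂ (oddSub F n) := by
    have h := finrank_oddSub (n := n) h2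
    have : 2 ≤ Fintype.card F ^ n := le_trans (Fintype.one_lt_card (α := F)) (Nat.le_self_pow (by omega) _)
    omega
  haveI : Nontrivial (oddSub F n) := Module.nontrivial_of_finrank_pos (R := ℂ) hpos
  haveI : Nontrivial (Subrepresentation (weilRep (n := n) h2)) := by
    refine ⟨⊥, ⊤, fun h => ?_⟩
    exact bot_ne_top (α := Submodule ℂ (oddSub F n)) (congrArg Subrepresentation.toSubmodule h)
  refine ⟨fun S => or_iff_not_imp_left.2 fun hS => ?_⟩
  obtain ⟨f, hf, hf0⟩ := Submodule.exists_mem_ne_zero_of_ne_bot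
    (fun h => hS (Subrepresentation.toSubmodule_injective h) : S.toSubmodule ≠ ⊥)
  obtain ⟨x0, hx0⟩ : ∃ x, f.1 x ≠ 0 := Function.ne_iff.1 fun h => hf0 (Subtype.ext h)
  have hodd := mem_oddSub.1 f.2
  have hx00 : x0 ≠ 0 := fun h => by
    apply hx0
    have := hodd x0
    rw [h, neg_zero] at this
    rw [h]
    linear_combination this / 2
  -- the odd delta at `x0`
  let dl : (Fin n → F) → oddSub F n := fun y => ⟨Pi.single y 1 - Pi.single (-y) 1, mem_oddSub.2 fun x => by
    simp only [Pi.sub_apply, Pi.single_apply, neg_inj]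
    by_cases h1 : x = y <;> by_cases h3 : x = -y <;> simp [h1, h3, neg_eq_iff_eq_neg]⟩
  haveI := Fintype.ofFinite (symMat F n)
  have hdelta : dl x0 ∈ S.toSubmodule := by
    have hphase : ∀ T : symMat F n, ∀ g ∈ oddSub F n, phaseOp T g ∈ oddSub F n := fun T g hg => mem_oddSub.2 fun x => by
      show psi0 F _ * g (-x) = -(psi0 F _ * g x)
      rw [mem_oddSub.1 hg, mulVec_neg, neg_dotProduct, dotProduct_neg, neg_neg, mul_neg]
    let g : oddSub F n := ∑ T : symMat F n,
      psi0 F ((2 : F)⁻¹ * (x0 ⬝ᵥ (T.1 *ᵥ x0))) • (⟨phaseOp T f.1, hphase T _ f.2⟩ : oddSub F n)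
    have hg : g ∈ S.toSubmodule := Submodule.sum_mem _ fun T _ => Submodule.smul_mem _ _
      (mem_of_intertwiner h2 S (siegelL T) (phaseOp_heisOp h2 T) hf (hphase T _ f.2))
    have hgval : ∀ x, g.1 x = (∑ T : symMat F n,
        psi0 F ((2 : F)⁻¹ * (x0 ⬝ᵥ (T.1 *ᵥ x0)) + -((2 : F)⁻¹ * (x ⬝ᵥ (T.1 *ᵥ x))))) * f.1 x := fun x => by
      simp only [g, Submodule.coe_sum, Submodule.coe_smul, Finset.sum_apply, Pi.smul_apply, smul_eq_mul, Finset.sum_mul]
      refine Finset.sum_congr rfl fun T _ => ?_
      show _ * (psi0 F _ * f.1 x) = _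
      rw [AddChar.map_add_eq_mul, mul_assoc]
    have hzero : ∀ x, x ≠ x0 → x ≠ -x0 → g.1 x = 0 := by
      intro x hxa hxb
      rw [hgval]
      let φ : AddChar (symMat F n) ℂ := (psi0 F).compAddMonoidHom (AddMonoidHom.mk'
        (fun T : symMat F n => (2 : F)⁻¹ * (x0 ⬝ᵥ (T.1 *ᵥ x0)) + -((2 : F)⁻¹ * (x ⬝ᵥ (T.1 *ᵥ x))))
        fun A B => by simp only [Submodule.coe_add, add_mulVec, dotProduct_add]; ring)
      have hφ : φ ≠ 0 := by
        intro h
        have hu : ∀ u : Fin n → F, (u ⬝ᵥ x0) ^ 2 = (u ⬝ᵥ x) ^ 2 := fun u => by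
          by_contra hne
          obtain ⟨t, ht⟩ := exists_psi0_ne_one (c := (2 : F)⁻¹ * ((u ⬝ᵥ x0) ^ 2 - (u ⬝ᵥ x) ^ 2))
            (mul_ne_zero (inv_ne_zero h2) (sub_ne_zero.2 hne))
          refine ht ?_
          have h1 : φ (t • sqVec u) = 1 := by rw [h]; rfl
          rw [← h1]
          show psi0 F _ = psi0 F (_ + _)
          congr 1
          simp only [Submodule.coe_smul, sqVec, smul_mulVec, dotProduct_smul, vecMulVec_mulVec, op_smul_eq_smul,
            smul_eq_mul]
          rw [dotProduct_comm x0 u, dotProduct_comm x u]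
          ring
        obtain ⟨i, hi⟩ := Function.ne_iff.1 hxa
        obtain ⟨j, hj⟩ := Function.ne_iff.1 hxb
        have hi2 := hu (Pi.single i 1)
        have hj2 := hu (Pi.single j 1)
        have hij := hu (Pi.single i 1 + Pi.single j 1)
        simp only [add_dotProduct, single_dotProduct, one_mul] at hi2 hj2 hij
        have ei : x i = -x0 i := by
          have : (x i - x0 i) * (x i + x0 i) = 0 := by linear_combination -hi2
          exact eq_neg_of_add_eq_zero_left ((mul_eq_zero.1 this).resolve_left (sub_ne_zero.2 hi))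
        have ej : x j = x0 j := by
          have : (x j - x0 j) * (x j + x0 j) = 0 := by linear_combination -hj2
          refine sub_eq_zero.1 ((mul_eq_zero.1 this).resolve_right fun h' => hj ?_)
          rw [Pi.neg_apply]; exact eq_neg_of_add_eq_zero_left h'
        rw [ei, ej] at hij
        have : (2 : F) * 2 * (x0 i * x0 j) = 0 := by linear_combination hij
        rcases mul_eq_zero.1 ((mul_eq_zero.1 this).resolve_left (mul_ne_zero h2 h2)) with h' | h'
        · exact hi (by rw [ei, h', neg_zero])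
        · exact hj (by rw [ej, Pi.neg_apply, h', neg_zero])
      have hs := AddChar.sum_eq_ite φ
      rw [if_neg hφ] at hs
      rw [show (∑ T : symMat F n, psi0 F ((2 : F)⁻¹ * (x0 ⬝ᵥ (T.1 *ᵥ x0)) + -((2 : F)⁻¹ * (x ⬝ᵥ (T.1 *ᵥ x))))) = 0 from hs,
        zero_mul]
    have hval : g.1 x0 = (Fintype.card (symMat F n) : ℂ) * f.1 x0 := by
      rw [hgval]
      simp [AddChar.map_zero_eq_one, Finset.card_univ]
    have hne0 : (Fintype.card (symMat F n) : ℂ) * f.1 x0 ≠ 0 := mul_ne_zero (Nat.cast_ne_zero.2 Fintype.card_ne_zero) hx0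
    have hxneg : x0 ≠ -x0 := fun h => hx00 (funext fun i => by
      have h' : x0 i = -x0 i := congrFun h i
      exact (mul_eq_zero.1 (show (2 : F) * x0 i = 0 by linear_combination h')).resolve_left h2)
    have he : dl x0 = ((Fintype.card (symMat F n) : ℂ) * f.1 x0)⁻¹ • g := by
      refine Subtype.ext (funext fun x => ?_)
      show (Pi.single x0 (1 : ℂ) - Pi.single (-x0) 1 : (Fin n → F) → ℂ) x = _ * g.1 x
      simp only [Pi.sub_apply, Pi.single_apply]
      by_cases h1 : x = x0
      · subst h1
        rw [if_pos rfl, if_neg hxneg, hval, sub_zero, inv_mul_cancel₀ hne0]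
      · by_cases h3 : x = -x0
        · subst h3
          rw [if_neg h1, if_pos rfl, mem_oddSub.1 g.2, hval, mul_neg, inv_mul_cancel₀ hne0, zero_sub]
        · rw [if_neg h1, if_neg h3, hzero x h1 h3, mul_zero, sub_zero]
    rw [he]
    exact S.toSubmodule.smul_mem _ hg
  have hall : ∀ y, y ≠ 0 → dl y ∈ S.toSubmodule := by
    intro y hy
    obtain ⟨e, he⟩ := exists_equiv_map (F := F) (f := fun _ : Fin 1 => x0) (g := fun _ : Fin 1 => y)
      (linearIndependent_unique_iff.2 hx00) (linearIndependent_unique_iff.2 hy)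
    let M : Matrix.GeneralLinearGroup (Fin n) F :=
      ⟨LinearMap.toMatrix' e.toLinearMap, LinearMap.toMatrix' e.symm.toLinearMap,
        by rw [← LinearMap.toMatrix'_comp, LinearEquiv.comp_symm, LinearMap.toMatrix'_id],
        by rw [← LinearMap.toMatrix'_comp, LinearEquiv.symm_comp, LinearMap.toMatrix'_id]⟩
    have hM : M.val *ᵥ x0 = y := (LinearMap.toMatrix'_mulVec _ _).trans (he 0)
    have hiff : ∀ z w : Fin n → F, M⁻¹.val *ᵥ z = w ↔ z = M.val *ᵥ w := fun z w =>
      ⟨fun h => by rw [← h, mulVec_mulVec, M.mul_inv, one_mulVec],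
        fun h => by rw [h, mulVec_mulVec, M.inv_mul, one_mulVec]⟩
    have hval : substOp M (dl x0).1 = (dl y).1 := funext fun z => by
      show (Pi.single x0 (1 : ℂ) - Pi.single (-x0) 1 : (Fin n → F) → ℂ) (M⁻¹.val *ᵥ z) = (Pi.single y (1 : ℂ) - Pi.single (-y) 1 : (Fin n → F) → ℂ) z
      simp only [Pi.sub_apply, Pi.single_apply, hiff, mulVec_neg, hM]
    have h := mem_of_intertwiner h2 S (siegelM M) (substOp_heisOp M) hdelta (hval ▸ (dl y).2)
    exact (Subtype.ext hval : (⟨_, _⟩ : oddSub F n) = dl y) ▸ h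
  refine Subrepresentation.toSubmodule_injective (eq_top_iff.2 fun k _ => ?_ : S.toSubmodule = ⊤)
  have hk : k = ∑ y : Fin n → F, (k.1 y / 2) • dl y := by
    refine Subtype.ext (funext fun x => ?_)
    simp only [Submodule.coe_sum, Submodule.coe_smul, Finset.sum_apply, Pi.smul_apply, smul_eq_mul, dl, Pi.sub_apply,
      Pi.single_apply, mul_sub, Finset.sum_sub_distrib, mul_ite, mul_one, mul_zero]
    rw [Finset.sum_ite_eq Finset.univ x (fun y => k.1 y / 2), if_pos (Finset.mem_univ _),
      Finset.sum_congr rfl fun y _ => show (if x = -y then k.1 y / 2 else 0) = if y = -x then k.1 y / 2 else 0 from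
        if_congr ⟨fun h => by rw [h, neg_neg], fun h => by rw [h, neg_neg]⟩ rfl rfl,
      Finset.sum_ite_eq' Finset.univ (-x) (fun y => k.1 y / 2), if_pos (Finset.mem_univ _), mem_oddSub.1 k.2]
    ring
  rw [hk]
  refine Submodule.sum_mem _ fun y _ => Submodule.smul_mem _ _ ?_
  by_cases hy : y = 0
  · have : dl y = 0 := Subtype.ext (by simp [dl, hy])
    rw [this]
    exact zero_mem _
  · exact hall y hy

end Cfsg.Agent.Lib.MinDegree
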